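import Cfsg.Agent.Lib.Involutions.Suzuki.Pairing
import Cfsg.Agent.Lib.Involutions.TwoGroups

/-!
# Higman's lemma: the centre of a Suzuki 2-group has exponent two

If the centre had an element of order four then every solution of `x ^ 4 = 1` would be central, and
every invariant abelian normal subgroup containing the centre could be enlarged.
-/

set_option autoImplicit false
set_option linter.unusedSectionVars false

namespace Cfsg.Agent.Involutions.Suzuki

open Involutions.Basic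

variable {P : Type*} [Group P] [Finite P] {K : Subgroup (MulAut P)}

theorem regular_of_isSuzuki (hP : Cfsg.IsSuzukiTwoGroup P) :
    ∃ K : Subgroup (MulAut P), Regular K := by
  obtain ⟨-, h2, ⟨x, y, hxy⟩, -, K, hKc, hreg⟩ := hP
  haveI : Nontrivial P := ⟨⟨x * y, y * x, hxy⟩⟩
  obtain ⟨z, hz, hzc⟩ := Involutions.TwoGroups.exists_central_involution h2
  obtain ⟨hz2, hz1⟩ := orderOf_two_iff.1 hz
  refine ⟨K, fun k l => ?_, fun w hw g => ?_, hreg⟩
  · letI := hKc.commGroup
    exact mul_comm k l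
  · by_cases hw1 : w = 1
    · simp [hw1]
    obtain ⟨k, hk, -⟩ := hreg z w hz1 hz2 hw1 hw
    obtain ⟨g', rfl⟩ := (k : MulAut P).surjective g
    rw [← hk, ← map_mul, hzc, map_mul]

theorem four_central (hK : Regular K) {z : P} (hz : ∀ g : P, g * z = z * g) (hz1 : z * z ≠ 1)
    (hz4 : z * z * (z * z) = 1) {x : P} (hx : x * x * (x * x) = 1) (g : P) : g * x = x * g := by
  by_cases hx1 : x * x = 1
  · exact hK.central x hx1 g
  obtain ⟨k, hk, -⟩ := hK.regular _ _ hz1 hz4 hx1 hx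
  rw [map_mul] at hk
  set w := (k : MulAut P) z
  have hwc : ∀ g : P, g * w = w * g := fun g => by
    obtain ⟨g', rfl⟩ := (k : MulAut P).surjective g
    rw [← map_mul, hz, map_mul]
  have h2 : x * w⁻¹ * (x * w⁻¹) = 1 := by
    calc x * w⁻¹ * (x * w⁻¹) = x * (w⁻¹ * x) * w⁻¹ := by group
      _ = x * (x * w⁻¹) * w⁻¹ := by rw [(Commute.inv_right (hwc x)).eq]
      _ = x * x * (w * w)⁻¹ := by group
      _ = 1 := by rw [hk, mul_inv_cancel]
  calc g * x = g * (x * w⁻¹) * w := by group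
    _ = (x * w⁻¹) * (g * w) := by rw [hK.central _ h2 g]; group
    _ = (x * w⁻¹) * (w * g) := by rw [hwc]
    _ = x * g := by group

/-- The elements which are central involutions modulo a normal subgroup. -/
noncomputable def layer (A : Subgroup P) [A.Normal] : Subgroup P :=
  Subgroup.comap (QuotientGroup.mk' A)
    { carrier := {q | q ∈ Subgroup.center (P ⧸ A) ∧ q * q = 1}
      one_mem' := ⟨one_mem _, one_mul 1⟩
      mul_mem' := fun {p q} hp hq => ⟨mul_mem hp.1 hq.1, by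
        rw [show p * q * (p * q) = p * (q * p) * q by group, Subgroup.mem_center_iff.1 hp.1 q,
          show p * (p * q) * q = (p * p) * (q * q) by group, hp.2, hq.2, one_mul]⟩
      inv_mem' := fun {p} hp => ⟨inv_mem hp.1, by rw [← mul_inv_rev, hp.2, inv_one]⟩ }

omit [Finite P] in
theorem mem_layer {A : Subgroup P} [A.Normal] {g : P} :
    g ∈ layer A ↔ g * g ∈ A ∧ ∀ h, h * g * h⁻¹ * g⁻¹ ∈ A := by
  show ((g : P ⧸ A) ∈ Subgroup.center (P ⧸ A) ∧ (g : P ⧸ A) * g = 1) ↔ _
  constructor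
  · rintro ⟨hc, h2⟩
    refine ⟨(QuotientGroup.eq_one_iff _).1 (by simpa using h2), fun h => ?_⟩
    apply (QuotientGroup.eq_one_iff _).1
    simp only [QuotientGroup.mk_mul, QuotientGroup.mk_inv]
    rw [Subgroup.mem_center_iff.1 hc (h : P ⧸ A)]
    group
  · rintro ⟨h2, hc⟩
    refine ⟨Subgroup.mem_center_iff.2 fun q => ?_, ?_⟩
    · induction q using QuotientGroup.induction_on with
      | H h =>
        have h1 := (QuotientGroup.eq_one_iff _).2 (hc h)
        simp only [QuotientGroup.mk_mul, QuotientGroup.mk_inv] at h1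
        rw [mul_inv_eq_one, mul_inv_eq_iff_eq_mul] at h1
        exact h1
    · rw [← QuotientGroup.mk_mul]
      exact (QuotientGroup.eq_one_iff _).2 h2

theorem lt_layer {A : Subgroup P} [A.Normal] (h2 : IsPGroup 2 P) (hA : A ≠ ⊤) : A < layer A := by
  refine lt_of_le_of_ne (fun g hg => mem_layer.2 ⟨mul_mem hg hg, fun h =>
    mul_mem (Subgroup.Normal.conj_mem inferInstance g hg h) (inv_mem hg)⟩) fun e => ?_
  haveI : Nontrivial (P ⧸ A) := by
    rw [QuotientGroup.nontrivial_iff]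
    exact hA
  obtain ⟨q, hq, hqc⟩ := Involutions.TwoGroups.exists_central_involution (h2.to_quotient A)
  obtain ⟨hq2, hq1⟩ := orderOf_two_iff.1 hq
  obtain ⟨g, rfl⟩ := QuotientGroup.mk'_surjective A q
  have : g ∈ layer A := by
    show _ ∧ _
    exact ⟨Subgroup.mem_center_iff.2 hqc, hq2⟩
  rw [← e] at this
  exact hq1 ((QuotientGroup.eq_one_iff _).2 this)

/-- The enlargement of an invariant abelian normal subgroup. -/
theorem extend (hK : Regular K) (h2 : IsPGroup 2 P)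
    (h4 : ∀ x : P, x * x * (x * x) = 1 → ∀ g : P, g * x = x * g)
    {z : P} (hz : ∀ g : P, g * z = z * g) (hz1 : z * z ≠ 1)
    {A : Subgroup P} [A.Normal] (hZA : Subgroup.center P ≤ A)
    (hab : ∀ a ∈ A, ∀ b ∈ A, a * b = b * a) (hinv : ∀ (k : K), ∀ a ∈ A, (k : MulAut P) a ∈ A)
    (hA : A ≠ ⊤) :
    ∃ B : Subgroup P, A < B ∧ B.Normal ∧ Subgroup.center P ≤ B ∧
      (∀ a ∈ B, ∀ b ∈ B, a * b = b * a) ∧ ∀ (k : K), ∀ a ∈ B, (k : MulAut P) a ∈ B := by
  classical
  haveI : Fact (Nat.Prime 2) := ⟨Nat.prime_two⟩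
  have hconj : ∀ {a : P}, a ∈ A → ∀ g : P, g * a * g⁻¹ ∈ A := fun ha g =>
    Subgroup.Normal.conj_mem inferInstance _ ha g
  have hAc : ∀ {x : P}, x * x * (x * x) = 1 → x ∈ A := fun hx =>
    hZA (Subgroup.mem_center_iff.2 (h4 _ hx))
  -- `δ h a`
  set δ : P → P → P := fun h a => h * a * h⁻¹ * a⁻¹ with hδ
  have hδA : ∀ h {a}, a ∈ A → δ h a ∈ A := fun h a ha => mul_mem (hconj ha h) (inv_mem ha)
  have hδmul : ∀ h {a b}, a ∈ A → b ∈ A → δ h (a * b) = δ h a * δ h b := by
    intro h a b ha hb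
    calc h * (a * b) * h⁻¹ * (a * b)⁻¹
        = (h * a * h⁻¹) * ((h * b * h⁻¹ * b⁻¹) * a⁻¹) := by group
      _ = (h * a * h⁻¹) * (a⁻¹ * (h * b * h⁻¹ * b⁻¹)) := by rw [hab _ (hδA h hb) _ (inv_mem ha)]
      _ = _ := by simp only [hδ]; group
  -- squares of `A` are fixed by the layer
  have hdsq : ∀ h ∈ layer A, ∀ a ∈ A, δ h a * δ h a = 1 := by
    intro h hh a ha
    obtain ⟨n, hn⟩ := h2 a
    induction n generalizing a with
    | zero =>
      rw [pow_zero, pow_one] at hn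
      simp [hδ, hn]
    | succ n ih =>
      have hrev : h * δ h a * h⁻¹ = (δ h a)⁻¹ := by
        have e : h * h * a = a * (h * h) := hab _ (mem_layer.1 hh).1 _ ha
        calc h * δ h a * h⁻¹ = (h * h * a) * (h * h)⁻¹ * (h * a⁻¹ * h⁻¹) := by
              simp only [hδ]; group
          _ = a * (h * a⁻¹ * h⁻¹) := by rw [e, mul_inv_cancel_right]
          _ = (δ h a)⁻¹ := by simp only [hδ]; group
      have h3 := ih (a * a) (mul_mem ha ha) (by rw [← sq, ← pow_mul, ← pow_succ']; exact hn)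
      rw [hδmul h ha ha] at h3
      have h5 := h4 _ h3 h
      rw [h5, mul_inv_cancel_right, eq_inv_iff_mul_eq_one] at hrev
      exact hrev
  have hδc : ∀ h ∈ layer A, ∀ a ∈ A, ∀ g, g * δ h a = δ h a * g := fun h hh a ha =>
    hK.central _ (hdsq h hh a ha)
  have hδfix : ∀ h ∈ layer A, ∀ a ∈ A, δ h (a * a) = 1 := fun h hh a ha => by
    rw [hδmul h ha ha]; exact hdsq h hh a ha
  -- exponent of `A`
  have hex : ∃ f, ∀ a ∈ A, a ^ 2 ^ f = 1 := by
    obtain ⟨f, hf⟩ := IsPGroup.iff_card.1 h2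
    exact ⟨f, fun a _ => by rw [← hf]; exact pow_card_eq_one'⟩
  set f := Nat.find hex with hfdef
  have hf := Nat.find_spec hex
  rw [← hfdef] at hf
  have hzA : z ∈ A := hZA (Subgroup.mem_center_iff.2 hz)
  obtain ⟨e, hfe⟩ : ∃ e, f = e + 2 := by
    refine ⟨f - 2, ?_⟩
    have : 2 ≤ f := by
      by_contra h
      have h1 := hf z hzA
      interval_cases hf' : f
      · rw [pow_zero, pow_one] at h1
        simp [h1] at hz1
      · rw [pow_one, sq] at h1
        exact hz1 h1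
    omega
  obtain ⟨w, hwA, hw⟩ : ∃ w ∈ A, w ^ 2 ^ (e + 1) ≠ 1 := by
    by_contra h
    push Not at h
    exact Nat.find_min hex (show e + 1 < f by omega) h
  -- non-maximal order elements are squares
  have hsq : ∀ j, j ≤ e + 1 → ∀ a ∈ A, a ^ 2 ^ j = 1 → ∃ b ∈ A, b * b = a := by
    intro j
    induction j with
    | zero =>
      intro _ a _ h
      rw [pow_zero, pow_one] at h
      exact ⟨1, one_mem _, by rw [h, one_mul]⟩
    | succ j ih =>
      intro hj a ha h
      by_cases h1 : a ^ 2 ^ j = 1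
      · exact ih (by omega) a ha h1
      set b₁ := w ^ 2 ^ (e - j) with hb₁
      set w₁ := b₁ * b₁ with hw₁
      have hw1 : w₁ ^ 2 ^ j = w ^ 2 ^ (e + 1) := by
        rw [hw₁, hb₁, ← pow_add, ← pow_mul, ← two_mul, ← pow_succ', ← pow_add,
          show e - j + 1 + j = e + 1 by omega]
      obtain ⟨k, hk, -⟩ := hK.regular (w₁ ^ 2 ^ j) (a ^ 2 ^ j) (hw1 ▸ hw) (by
          rw [hw1, ← pow_add, ← two_mul, ← pow_succ', show e + 1 + 1 = f by omega]
          exact hf w hwA) h1 (by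
          rw [← pow_add, ← two_mul, ← pow_succ']; exact h)
      set c := (k : MulAut P) b₁ with hc
      have hcA : c ∈ A := hinv k _ (pow_mem hwA _)
      have hk' : (c * c) ^ 2 ^ j = a ^ 2 ^ j := by rw [hc, ← map_mul, ← map_pow]; exact hk
      obtain ⟨b, hb, hbb⟩ := ih (by omega) (a * (c * c)⁻¹) (mul_mem ha (inv_mem (mul_mem hcA hcA)))
        (by rw [Commute.mul_pow (hab _ ha _ (inv_mem (mul_mem hcA hcA))), inv_pow, hk', mul_inv_cancel])
      refine ⟨b * c, mul_mem hb hcA, ?_⟩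
      calc b * c * (b * c) = b * (c * b) * c := by group
        _ = b * (b * c) * c := by rw [hab c hcA b hb]
        _ = (b * b) * (c * c) := by group
        _ = a := by rw [hbb, inv_mul_cancel_right]
  set ψ : P → P := fun a => a ^ 2 ^ (e + 1) with hψ
  have hψmul : ∀ {a b}, a ∈ A → b ∈ A → ψ (a * b) = ψ a * ψ b := fun ha hb =>
    Commute.mul_pow (hab _ ha _ hb) _
  have hψ2 : ∀ {a}, a ∈ A → ψ a * ψ a = 1 := fun {a} ha => by
    simp only [hψ]
    rw [← pow_add, ← two_mul, ← pow_succ', show e + 1 + 1 = f by omega]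
    exact hf a ha
  have hψδ : ∀ h ∈ layer A, ∀ a ∈ A, ∀ b ∈ A, ψ a = ψ b → δ h a = δ h b := by
    intro h hh a ha b hb he
    obtain ⟨c, hc, hcc⟩ := hsq (e + 1) le_rfl (a * b⁻¹) (mul_mem ha (inv_mem hb)) (by
      show ψ (a * b⁻¹) = 1
      rw [hψmul ha (inv_mem hb), he, ← hψmul hb (inv_mem hb), mul_inv_cancel]
      exact one_pow _)
    rw [show a = c * c * b by rw [hcc, inv_mul_cancel_right], hδmul h (mul_mem hc hc) hb,
      hδfix h hh c hc, one_mul]
  set q : P → P := fun g => ψ (g * g) with hq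
  have hqA : ∀ g ∈ layer A, g * g ∈ A := fun g hg => (mem_layer.1 hg).1
  have hcA : ∀ g ∈ layer A, ∀ h, δ h g ∈ A := fun g hg h => (mem_layer.1 hg).2 h
  -- the kernel of `q`
  have hker : ∀ g ∈ layer A, q g = 1 → g ∈ A := by
    intro g hg hg1
    obtain ⟨b, hb, hbb⟩ := hsq (e + 1) le_rfl _ (hqA g hg) hg1
    set d := δ g b⁻¹ with hd
    have hdd := hdsq g hg _ (inv_mem hb)
    have hdc := hδc g hg _ (inv_mem hb)
    have he : b⁻¹ * g * (b⁻¹ * g) = d := by
      calc b⁻¹ * g * (b⁻¹ * g) = b⁻¹ * d * b⁻¹ * (g * g) := by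
            rw [hd]; simp only [hδ]; group
        _ = d * b⁻¹ * b⁻¹ * (b * b) := by rw [hdc b⁻¹, hbb]
        _ = d := by group
    have := mul_mem hb (hAc (x := b⁻¹ * g) (by rw [he]; exact hdd))
    rwa [mul_inv_cancel_left] at this
  -- commutators inside the layer
  have hcomm : ∀ g ∈ layer A, ∀ h ∈ layer A,
      δ h g * δ h g = δ h (g * g) ∧ ψ (δ h g) = 1 := by
    intro g hg h hh
    set c := δ h g with hc
    have hcm := hcA g hg h
    set d := δ g c with hd
    have hdd := hdsq g hg c hcm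
    have hdc := hδc g hg c hcm
    have e1 : δ h (g * g) = c * (d * c) := by
      rw [hd, hc]; simp only [hδ]; group
    have e1' : δ h (g * g) = c * c * d := by
      rw [e1, mul_assoc c c, hdc c]
    have hgg := hdsq h hh _ (hqA g hg)
    have hc4 : c * c * (c * c) = 1 := by
      rw [e1', show c * c * d * (c * c * d) = c * c * (d * (c * c)) * d by group, ← hdc (c * c),
        show c * c * (c * c * d) * d = c * c * (c * c) * (d * d) by group, hdd, mul_one] at hgg
      exact hgg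
    have hd1 : d = 1 := by
      rw [hd]; simp only [hδ]; rw [h4 c hc4 g]; group
    have hcc : c * c = δ h (g * g) := by rw [e1', hd1, mul_one]
    refine ⟨hcc, ?_⟩
    show c ^ 2 ^ (e + 1) = 1
    rcases Nat.eq_zero_or_pos e with he | he
    · rw [he, zero_add, pow_one, sq, hcc]
      have hA4 : g * g * (g * g) * (g * g * (g * g)) = 1 := by
        have := hf _ (hqA g hg)
        rw [hfe, he] at this
        simpa [pow_succ, mul_assoc] using this
      simp only [hδ]
      rw [h4 _ hA4 h]; group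
    · obtain ⟨i, rfl⟩ : ∃ i, e = i + 1 := ⟨e - 1, by omega⟩
      rw [show 2 ^ (i + 1 + 1) = 4 * 2 ^ i by ring, pow_mul,
        show c ^ 4 = c * c * (c * c) by simp [pow_succ, mul_assoc], hc4, one_pow]
  have hqmul : ∀ g ∈ layer A, ∀ h ∈ layer A, q (g * h) = q g * q h := by
    intro g hg h hh
    set c := δ h g with hc
    have hcm := hcA g hg h
    have h1 : g * c * g⁻¹ ∈ A := hconj hcm g
    show ψ (g * h * (g * h)) = ψ (g * g) * ψ (h * h)
    have e1 : g * h * (g * h) = (g * c * g⁻¹) * (g * g) * (h * h) := by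
      rw [hc]; simp only [hδ]; group
    rw [e1, hψmul (mul_mem h1 (hqA g hg)) (hqA h hh), hψmul h1 (hqA g hg)]
    have : ψ (g * c * g⁻¹) = 1 := by
      show (g * c * g⁻¹) ^ _ = 1
      rw [conj_pow, show c ^ 2 ^ (e + 1) = 1 from (hcomm g hg h hh).2]; group
    rw [this, one_mul]
  have hlt := lt_layer h2 hA
  obtain ⟨u, hu, huA⟩ := SetLike.exists_of_lt hlt
  have hq1 : q u ≠ 1 := fun h => huA (hker u hu h)
  have hinvU : ∀ (k : K), ∀ g ∈ layer A, (k : MulAut P) g ∈ layer A := by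
    intro k g hg
    refine mem_layer.2 ⟨by rw [← map_mul]; exact hinv k _ (hqA g hg), fun h => ?_⟩
    obtain ⟨h', rfl⟩ := (k : MulAut P).surjective h
    rw [← map_inv, ← map_inv, ← map_mul, ← map_mul, ← map_mul]
    exact hinv k _ (hcA g hg h')
  have hqk : ∀ (k : K), ∀ g : P, q ((k : MulAut P) g) = (k : MulAut P) (q g) := fun k g => by
    simp only [hq, hψ, map_mul, map_pow]
  -- a section of `q`
  have hsec : ∀ v : P, v * v = 1 → ∃ g ∈ layer A, q g = v := by
    intro v hv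
    by_cases hv1 : v = 1
    · exact ⟨1, one_mem _, by simp [hq, hψ, hv1]⟩
    obtain ⟨k, hk, -⟩ := hK.regular (q u) v hq1 (hψ2 (hqA u hu)) hv1 hv
    exact ⟨_, hinvU k u hu, by rw [hqk, hk]⟩
  choose! s hs hsq' using hsec
  -- descent of pairings
  have pair : ∀ β : P → P → P,
      (∀ g ∈ layer A, ∀ h ∈ layer A, β g h * β g h = 1) →
      (∀ g ∈ layer A, ∀ g' ∈ layer A, ∀ h ∈ layer A, β (g * g') h = β g h * β g' h) →
      (∀ a ∈ A, ∀ h ∈ layer A, β a h = 1) →
      (∀ g ∈ layer A, ∀ h ∈ layer A, β g h = β h g) →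
      (∀ g ∈ layer A, β g g = 1) →
      (∀ (k : K), ∀ g h : P, β ((k : MulAut P) g) ((k : MulAut P) h) = (k : MulAut P) (β g h)) →
      ∀ g ∈ layer A, ∀ h ∈ layer A, β g h = 1 := by
    intro β b1 b2 b3 b4 b5 b6
    have hwd : ∀ g ∈ layer A, ∀ g' ∈ layer A, q g = q g' → ∀ h ∈ layer A, β g h = β g' h := by
      intro g hg g' hg' he h hh
      have hmem : g'⁻¹ * g ∈ A := by
        refine hker _ (mul_mem (inv_mem hg') hg) ?_
        rw [hqmul _ (inv_mem hg') _ hg, he, ← hqmul _ (inv_mem hg') _ hg', inv_mul_cancel]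
        simp [hq, hψ]
      calc β g h = β (g' * (g'⁻¹ * g)) h := by rw [mul_inv_cancel_left]
        _ = β g' h := by
          rw [b2 g' hg' _ (hlt.le hmem) h hh, b3 _ hmem h hh, mul_one]
    have hwd2 : ∀ g ∈ layer A, ∀ g' ∈ layer A, ∀ h ∈ layer A, ∀ h' ∈ layer A,
        q g = q g' → q h = q h' → β g h = β g' h' := by
      intro g hg g' hg' h hh h' hh' e1 e2
      rw [hwd g hg g' hg' e1 h hh, b4 g' hg' h hh, hwd h hh h' hh' e2 g' hg', b4 h' hh' g' hg']
    intro g hg h hh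
    rw [hwd2 g hg _ (hs _ (hψ2 (hqA g hg))) h hh _ (hs _ (hψ2 (hqA h hh)))
      (hsq' _ (hψ2 (hqA g hg))).symm (hsq' _ (hψ2 (hqA h hh))).symm]
    refine pairing_eq_one hK (fun v v' => β (s v) (s v')) (fun v v' hv hv' => b1 _ (hs v hv) _ (hs v' hv'))
      (fun v v' y hv hv' hy => ?_) (fun v v' hv hv' => b4 _ (hs v hv) _ (hs v' hv'))
      (fun v hv => b5 _ (hs v hv)) (fun k v v' hv hv' => ?_) hq1 (hψ2 (hqA u hu)) (hψ2 (hqA g hg))
      (hψ2 (hqA h hh))
    · show β (s (v * v')) (s y) = β (s v) (s y) * β (s v') (s y)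
      rw [← b2 _ (hs v hv) _ (hs v' hv') _ (hs y hy)]
      refine hwd _ (hs _ (sq_mul hK hv hv')) _ (mul_mem (hs v hv) (hs v' hv')) ?_ _ (hs y hy)
      rw [hqmul _ (hs v hv) _ (hs v' hv'), hsq' v hv, hsq' v' hv', hsq' _ (sq_mul hK hv hv')]
    · show β (s _) (s _) = (k : MulAut P) (β (s v) (s v'))
      rw [← b6]
      exact hwd2 _ (hs _ (sq_map _ hv)) _ (hinvU k _ (hs v hv)) _ (hs _ (sq_map _ hv')) _
        (hinvU k _ (hs v' hv')) (by rw [hsq' _ (sq_map _ hv), hqk, hsq' v hv])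
        (by rw [hsq' _ (sq_map _ hv'), hqk, hsq' v' hv'])
  have hswap : ∀ g h : P, δ h g = (δ g h)⁻¹ := fun g h => by simp only [hδ]; group
  have hδk : ∀ (k : K) (g h : P), δ ((k : MulAut P) g) ((k : MulAut P) h) = (k : MulAut P) (δ g h) :=
    fun k g h => by simp only [hδ, map_mul, map_inv]
  -- the layer centralizes `A`
  have hfix : ∀ g ∈ layer A, ∀ h ∈ layer A, δ h (g * g) = 1 := by
    refine pair (fun g h => δ h (g * g)) (fun g hg h hh => hdsq h hh _ (hqA g hg))
      (fun g hg g' hg' h hh => ?_) (fun a ha h hh => hδfix h hh a ha) (fun g hg h hh => ?_)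
      (fun g _ => by simp only [hδ]; group) (fun k g h => by simp only [← map_mul]; exact hδk k _ _)
    · show δ h (g * g' * (g * g')) = δ h (g * g) * δ h (g' * g')
      rw [← hδmul h (hqA g hg) (hqA g' hg')]
      refine hψδ h hh _ (hqA _ (mul_mem hg hg')) _ (mul_mem (hqA g hg) (hqA g' hg')) ?_
      rw [hψmul (hqA g hg) (hqA g' hg')]
      exact hqmul g hg g' hg'
    · show δ h (g * g) = δ g (h * h)
      rw [← (hcomm h hh g hg).1, hswap h g, ← mul_inv_rev, (hcomm g hg h hh).1]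
      exact (inv_eq_of_mul_eq_one_left (hdsq h hh _ (hqA g hg))).symm
  have hcent : ∀ h ∈ layer A, ∀ a ∈ A, δ h a = 1 := by
    intro h hh a ha
    obtain ⟨g, hg, hga⟩ : ∃ g ∈ layer A, q g = ψ a := ⟨_, hs _ (hψ2 ha), hsq' _ (hψ2 ha)⟩
    rw [hψδ h hh a ha _ (hqA g hg) hga.symm, hfix g hg h hh]
  have hc2 : ∀ g ∈ layer A, ∀ h ∈ layer A, δ h g * δ h g = 1 := fun g hg h hh => by
    rw [(hcomm g hg h hh).1, hfix g hg h hh]
  have hone : ∀ g ∈ layer A, ∀ h ∈ layer A, δ h g = 1 := by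
    refine pair (fun g h => δ h g) hc2 (fun g hg g' hg' h hh => ?_) (fun a ha h hh => hcent h hh a ha)
      (fun g hg h hh => ?_) (fun g _ => by simp only [hδ]; group) (fun k g h => hδk k h g)
    · show δ h (g * g') = δ h g * δ h g'
      calc δ h (g * g') = δ h g * (g * δ h g' * g⁻¹) := by simp only [hδ]; group
        _ = δ h g * δ h g' := by rw [hK.central _ (hc2 g' hg' h hh) g, mul_inv_cancel_right]
    · show δ h g = δ g h
      rw [hswap g h, inv_eq_of_mul_eq_one_left (hc2 h hh g hg)]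
  refine ⟨layer A, hlt, ?_, hZA.trans hlt.le, fun g hg h hh => ?_, hinvU⟩
  · refine ⟨fun g hg x => ?_⟩
    have : x * g * x⁻¹ = δ x g * g := by simp only [hδ]; group
    rw [this]
    exact mul_mem (hlt.le (hcA g hg x)) hg
  · have h1 := hone g hg h hh
    simp only [hδ] at h1
    rw [mul_inv_eq_one, mul_inv_eq_iff_eq_mul] at h1
    exact h1.symm

/-- All central elements of a Suzuki 2-group square to one. -/
theorem center_sq (hK : Regular K) (h2 : IsPGroup 2 P) (hne : ∃ x y : P, x * y ≠ y * x) {z : P}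
    (hz : z ∈ Subgroup.center P) : z * z = 1 := by
  by_contra hz1
  haveI : Fact (Nat.Prime 2) := ⟨Nat.prime_two⟩
  obtain ⟨x, hxc, hx1, hx4⟩ : ∃ x : P, (∀ g, g * x = x * g) ∧ x * x ≠ 1 ∧ x * x * (x * x) = 1 := by
    obtain ⟨n, hn⟩ := IsPGroup.iff_orderOf.1 h2 z
    obtain ⟨m, rfl⟩ : ∃ m, n = m + 2 := by
      refine ⟨n - 2, ?_⟩
      by_contra h
      have : n = 0 ∨ n = 1 := by omega
      rcases this with rfl | rfl
      · rw [pow_zero, orderOf_eq_one_iff] at hn
        simp [hn] at hz1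
      · rw [pow_one] at hn
        exact hz1 (orderOf_two_iff.1 hn).1
    refine ⟨z ^ 2 ^ m, Subgroup.mem_center_iff.1 (pow_mem hz _), ?_, ?_⟩
    · rw [← pow_add, ← two_mul, ← pow_succ']
      exact pow_ne_one_of_lt_orderOf (by positivity) (hn ▸ Nat.pow_lt_pow_right one_lt_two (by omega))
    · rw [← pow_add, ← pow_add, show 2 ^ m + 2 ^ m + (2 ^ m + 2 ^ m) = 2 ^ (m + 2) by ring, ← hn]
      exact pow_orderOf_eq_one z
  let Good : Subgroup P → Prop := fun A => A.Normal ∧ Subgroup.center P ≤ A ∧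
    (∀ a ∈ A, ∀ b ∈ A, a * b = b * a) ∧ ∀ (k : K), ∀ a ∈ A, (k : MulAut P) a ∈ A
  have hGood : Good (Subgroup.center P) := ⟨inferInstance, le_rfl,
    fun a _ b hb => Subgroup.mem_center_iff.1 hb a, fun k a ha => Subgroup.mem_center_iff.2 fun g => by
      obtain ⟨g', rfl⟩ := (k : MulAut P).surjective g
      rw [← map_mul, Subgroup.mem_center_iff.1 ha, map_mul]⟩
  obtain ⟨A, ⟨⟨hn, hZ, hab, hinv⟩, hmax⟩⟩ := (Set.toFinite {A | Good A}).exists_maximal ⟨_, hGood⟩
  have hA : A ≠ ⊤ := by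
    rintro rfl
    obtain ⟨p, q, hpq⟩ := hne
    exact hpq (hab p (Subgroup.mem_top _) q (Subgroup.mem_top _))
  obtain ⟨B, hlt, hB⟩ := extend hK h2 (fun x hx => four_central hK hxc hx1 hx4 hx) hxc hx1 hZ hab hinv hA
  exact not_le_of_gt hlt (hmax hB hlt.le)

end Cfsg.Agent.Involutions.Suzuki
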