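import Mathlib

/-!
# The degree of Boolean functions on an elementary abelian 2-group

A Chevalley–Warning argument: an anisotropic quadratic map from a group of order `2 ^ m` to one of
order `2 ^ n` has `m ≤ 2 n`.
-/

set_option autoImplicit false
set_option linter.unusedSectionVars false

namespace Cfsg.Agent.Involutions.Suzuki.BoolDeg

variable {V : Type*} [AddCommGroup V]

/-- Degree at most `d`: all `d + 1`-fold derivatives vanish. -/
def IsDeg : ℕ → (V → ZMod 2) → Prop
  | 0, f => ∀ x, f x = f 0
  | d + 1, f => ∀ a, IsDeg d (fun x => f (x + a) + f x)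

theorem zero_fun : ∀ d, IsDeg d (fun _ : V => (0 : ZMod 2))
  | 0 => fun _ => rfl
  | d + 1 => fun _ => by simpa using zero_fun d

theorem succ : ∀ {d} {f : V → ZMod 2}, IsDeg d f → IsDeg (d + 1) f
  | 0, f, h => fun a x => by simp only [h (x + a), h x, h (0 + a)]
  | d + 1, _, h => fun a => succ (h a)

theorem mono {d e : ℕ} (hde : d ≤ e) {f : V → ZMod 2} (h : IsDeg d f) : IsDeg e f := by
  induction hde with
  | refl => exact h
  | step _ ih => exact succ ih

theorem translate : ∀ {d} {f : V → ZMod 2}, IsDeg d f → ∀ b, IsDeg d (fun x => f (x + b))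
  | 0, f, h, b => fun x => by simp only [h (x + b), h (0 + b)]
  | d + 1, f, h, b => fun a => by
    have e : (fun x => f (x + a + b) + f (x + b)) =
        fun x => (fun y => f (y + a) + f y) (x + b) := funext fun x => by
      show f (x + a + b) + f (x + b) = f (x + b + a) + f (x + b)
      rw [add_right_comm]
    rw [e]
    exact translate (h a) b

theorem add : ∀ {d} {f g : V → ZMod 2}, IsDeg d f → IsDeg d g → IsDeg d (fun x => f x + g x)
  | 0, _, _, hf, hg => fun x => by simp only [hf x, hg x]
  | d + 1, f, g, hf, hg => fun a => by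
    have e : (fun x => f (x + a) + g (x + a) + (f x + g x)) =
        fun x => (f (x + a) + f x) + (g (x + a) + g x) := funext fun x => by ring
    rw [e]
    exact add (hf a) (hg a)

theorem const_mul {d : ℕ} (c : ZMod 2) {g : V → ZMod 2} (hg : IsDeg d g) :
    IsDeg d (fun x => c * g x) := by
  rcases (by revert c; decide : ∀ c : ZMod 2, c = 0 ∨ c = 1) c with rfl | rfl
  · simpa using zero_fun d
  · simpa using hg

theorem mul : ∀ {a b} {f g : V → ZMod 2}, IsDeg a f → IsDeg b g → IsDeg (a + b) (fun x => f x * g x) := by
  intro a b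
  induction hn : a + b using Nat.strong_induction_on generalizing a b with
  | _ n ih =>
    intro f g hf hg
    subst hn
    rcases a with _ | a
    · rw [show (fun x => f x * g x) = fun x => f 0 * g x from funext fun x => by rw [hf x], zero_add]
      exact const_mul _ hg
    rcases b with _ | b
    · rw [show (fun x => f x * g x) = fun x => g 0 * f x from funext fun x => by rw [hg x, mul_comm]]
      exact const_mul _ hf
    intro c
    show IsDeg (a + 1 + b) (fun x => f (x + c) * g (x + c) + f x * g x)
    have e : (fun x => f (x + c) * g (x + c) + f x * g x) =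
        fun x => (f (x + c) + f x) * g x + f (x + c) * (g (x + c) + g x) := funext fun x => by
      have h20 : (2 : ZMod 2) = 0 := rfl
      linear_combination (-(f (x + c) * g x)) * h20
    rw [e]
    refine add ?_ ?_
    · have := ih (a + (b + 1)) (by omega) rfl (hf c) hg
      rwa [show a + 1 + b = a + (b + 1) by omega]
    · exact ih (a + 1 + b) (by omega) rfl (translate hf c) (hg c)

theorem prod {ι : Type*} (s : Finset ι) {d : ℕ} {f : ι → V → ZMod 2} (h : ∀ i ∈ s, IsDeg d (f i)) :
    IsDeg (s.card * d) (fun x => ∏ i ∈ s, f i x) := by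
  classical
  induction s using Finset.induction_on with
  | empty => simp only [Finset.card_empty, zero_mul, Finset.prod_empty]; exact fun _ => rfl
  | insert i s hi ih =>
    simp only [Finset.prod_insert hi]
    rw [Finset.card_insert_of_notMem hi, Nat.succ_mul, add_comm]
    exact mul (h i (Finset.mem_insert_self _ _)) (ih fun j hj => h j (Finset.mem_insert_of_mem hj))

theorem of_comp {W : Type*} [AddCommGroup W] (π : V →+ W) (hπ : Function.Surjective π) :
    ∀ {d} {g : W → ZMod 2}, IsDeg d (fun x => g (π x)) → IsDeg d g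
  | 0, g, h => fun w => by
    obtain ⟨x, rfl⟩ := hπ w
    simpa using h x
  | d + 1, g, h => fun c => by
    obtain ⟨a, rfl⟩ := hπ c
    refine of_comp π hπ ?_
    simpa using h a

universe u

theorem sum_eq_zero : ∀ {d} {V : Type u} [AddCommGroup V] [Fintype V] {f : V → ZMod 2},
    (∀ v : V, v + v = 0) → IsDeg d f → ∀ {m}, Nat.card V = 2 ^ m → d < m → ∑ x, f x = 0 := by
  intro d
  induction d with
  | zero =>
    intro V _ _ f _ hf m hm h0
    rw [Finset.sum_congr rfl fun x _ => hf x, Finset.sum_const, Finset.card_univ,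
      ← Nat.card_eq_fintype_card, hm, nsmul_eq_mul, Nat.cast_pow,
      show ((2 : ℕ) : ZMod 2) = 0 from rfl, zero_pow h0.ne', zero_mul]
  | succ d ih =>
    intro V _ _ f hexp hf m hm hdm
    classical
    haveI : Nontrivial V := Finite.one_lt_card_iff_nontrivial.1 (by
      rw [hm]; exact Nat.one_lt_two_pow (by omega))
    obtain ⟨a, ha⟩ := exists_ne (0 : V)
    let S := AddSubgroup.zmultiples a
    have hS : ∀ x, x ∈ S ↔ x = 0 ∨ x = a := fun x => by
      refine ⟨?_, by rintro (rfl | rfl); exacts [S.zero_mem, AddSubgroup.mem_zmultiples _]⟩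
      rintro ⟨k, rfl⟩
      rcases Int.even_or_odd' k with ⟨j, rfl | rfl⟩
      · left
        show (2 * j) • a = 0
        rw [mul_comm, mul_zsmul, two_zsmul, hexp, zsmul_zero]
      · right
        show (2 * j + 1) • a = a
        rw [add_zsmul, mul_comm, mul_zsmul, two_zsmul, hexp, zsmul_zero, one_zsmul, zero_add]
    let g : V ⧸ S → ZMod 2 := fun q => Quotient.liftOn' q (fun x => f (x + a) + f x) fun x y h => by
      rw [QuotientAddGroup.leftRel_apply, hS] at h
      rcases h with h | h
      · rw [show y = x from (neg_add_eq_zero.1 h).symm]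
      · rw [show y = x + a from neg_add_eq_iff_eq_add.1 h, add_assoc, hexp, add_zero, add_comm]
    have hg : ∀ x : V, g (QuotientAddGroup.mk' S x) = f (x + a) + f x := fun x => rfl
    have hdeg : IsDeg d g := of_comp (QuotientAddGroup.mk' S) (QuotientAddGroup.mk'_surjective S)
      (by simpa only [hg] using hf a)
    have hcard : Nat.card (V ⧸ S) = 2 ^ (m - 1) := by
      have h1 : Nat.card S = 2 := by
        rw [Nat.card_zmultiples, addOrderOf_eq_prime_iff.2 ⟨by rw [two_nsmul, hexp], ha⟩]
      have h2 := AddSubgroup.card_eq_card_quotient_mul_card_addSubgroup S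
      rw [hm, h1, show (2 : ℕ) ^ m = 2 ^ (m - 1) * 2 by rw [← pow_succ]; congr 1; omega] at h2
      omega
    rw [← Finset.sum_fiberwise Finset.univ (QuotientAddGroup.mk' S) f]
    refine Eq.trans (Finset.sum_congr rfl fun q _ => ?_) (ih (f := g) ?_ hdeg hcard (by omega))
    · obtain ⟨x, rfl⟩ := QuotientAddGroup.mk'_surjective S q
      rw [hg, add_comm, ← Finset.sum_pair (f := f) (show x ≠ x + a from fun e => ha (left_eq_add.1 e))]
      refine Finset.sum_congr (Finset.ext fun y => ?_) fun _ _ => rfl
      simp only [Finset.mem_filter, Finset.mem_univ, true_and, Finset.mem_insert, Finset.mem_singleton,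
        QuotientAddGroup.mk'_apply, eq_comm (b := (x : V ⧸ S)), QuotientAddGroup.eq, hS]
      constructor
      · rintro (h | h)
        · exact Or.inl (neg_add_eq_zero.1 h).symm
        · exact Or.inr (neg_add_eq_iff_eq_add.1 h)
      · rintro (rfl | rfl)
        · exact Or.inl (neg_add_cancel _)
        · exact Or.inr (neg_add_cancel_left _ _)
    · intro q
      obtain ⟨x, rfl⟩ := QuotientAddGroup.mk'_surjective S q
      rw [← map_add, hexp, map_zero]

/-- An anisotropic quadratic map lowers the dimension at most by half. -/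
theorem dim_le {V : Type u} [AddCommGroup V] [Finite V] (hV : ∀ v : V, v + v = 0)
    {Z : Type*} [AddCommGroup Z] [Finite Z] (hZ : ∀ z : Z, z + z = 0) (f : V → Z)
    (hquad : ∀ x a b : V, f (x + a + b) + f (x + a) + f (x + b) + f x =
      f (a + b) + f a + f b + f 0)
    (h0 : ∀ v, f v = 0 ↔ v = 0) {m n : ℕ} (hm : Nat.card V = 2 ^ m) (hn : Nat.card Z = 2 ^ n) :
    m ≤ 2 * n := by
  classical
  haveI := Fintype.ofFinite V
  haveI := Fintype.ofFinite Z
  letI : Module (ZMod 2) Z := AddCommGroup.zmodModule fun z => by rw [two_nsmul, hZ]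
  have hfr : Module.finrank (ZMod 2) Z = n := by
    have h := Module.card_eq_pow_finrank (K := ZMod 2) (V := Z)
    rw [ZMod.card, ← Nat.card_eq_fintype_card, hn] at h
    exact (Nat.pow_right_injective le_rfl h).symm
  let e : Z ≃ₗ[ZMod 2] (Fin n → ZMod 2) := (Module.finBasisOfFinrankEq (ZMod 2) Z hfr).equivFun
  let F : V → ZMod 2 := fun x => ∏ j : Fin n, (1 + e (f x) j)
  have hdeg : IsDeg (n * 2) F := by
    have := prod (V := V) (Finset.univ : Finset (Fin n)) (d := 2) (f := fun j x => 1 + e (f x) j)
      (fun j _ => ?_)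
    · simpa using this
    intro a b x
    have h1 := congrArg (fun z => e z j) (hquad x a b)
    have h1' : e (f (x + a + b)) j + e (f (x + a)) j + e (f (x + b)) j + e (f x) j =
        e (f (a + b)) j + e (f a) j + e (f b) j + e (f 0) j := by
      simpa only [map_add, Pi.add_apply] using h1
    simp only [zero_add]
    rw [add_comm b a, show x + b + a = x + a + b by abel]
    linear_combination h1'
  by_contra h
  have hs := sum_eq_zero hV hdeg hm (by omega)
  rw [Finset.sum_eq_single (0 : V)] at hs
  · simp [F, (h0 0).2 rfl] at hs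
  · intro x _ hx
    obtain ⟨j, hj⟩ : ∃ j, e (f x) j ≠ 0 := by
      by_contra! h'
      exact hx ((h0 x).1 (e.map_eq_zero_iff.1 (funext h')))
    refine Finset.prod_eq_zero (Finset.mem_univ j) ?_
    revert hj
    generalize e (f x) j = c
    revert c
    decide
  · simp

end Cfsg.Agent.Involutions.Suzuki.BoolDeg
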