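import Cfsg.Agent.Lib.Involutions.Suzuki.Exponent
import Cfsg.Agent.Lib.Involutions.Suzuki.Center
import Cfsg.Agent.Lib.Involutions.Suzuki.BooleanDegree

/-!
# Higman's theorem on the central quotient of a Suzuki 2-group

Squares and commutators are central; the squaring map of `P / Z(P)` is anisotropic, so
`|P : Z(P)| ≤ q ^ 2`, and regularity on involutions forces `q - 1 ∣ |P : Z(P)| - 1`.
-/

set_option autoImplicit false
set_option linter.unusedSectionVars false
set_option linter.style.haveILetI false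

namespace Cfsg.Agent.Involutions.Suzuki

open Involutions.Basic

variable {P : Type*} [Group P] [Finite P] {K : Subgroup (MulAut P)}

/-- An automorphism regular on involutions is fixed-point-free. -/
theorem fpf_of_regular (hK : Regular K) (h2 : IsPGroup 2 P) : Exponent.Fpf K := by
  intro k hk x hx
  by_contra hx1
  obtain ⟨j, hj⟩ := IsPGroup.iff_orderOf.1 h2 x
  obtain ⟨i, rfl⟩ : ∃ i, j = i + 1 := ⟨j - 1, by
    rcases j with _ | j
    · rw [pow_zero, orderOf_eq_one_iff] at hj; exact absurd hj hx1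
    · omega⟩
  have hw : x ^ 2 ^ i * x ^ 2 ^ i = 1 := by
    rw [← pow_add, ← two_mul, ← pow_succ', ← hj, pow_orderOf_eq_one]
  have hw1 : x ^ 2 ^ i ≠ 1 := pow_ne_one_of_lt_orderOf (by positivity)
    (hj ▸ Nat.pow_lt_pow_right one_lt_two (by omega))
  exact hk ((hK.regular _ _ hw1 hw hw1 hw).unique (by rw [map_pow, hx]) (by simp))

theorem central_quotient (hP : Cfsg.IsSuzukiTwoGroup P) :
    (∀ x : P, x * x ∈ Subgroup.center P) ∧ (∀ x y : P, x⁻¹ * y⁻¹ * x * y ∈ Subgroup.center P) ∧
      (Nat.card P = Nat.card (Subgroup.center P) ^ 2 ∨ Nat.card P = Nat.card (Subgroup.center P) ^ 3) ∧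
      Monoid.exponent P = 4 := by
  classical
  obtain ⟨K, hK⟩ := regular_of_isSuzuki hP
  have h2 := hP.2.1
  have hne := hP.2.2.1
  obtain ⟨t₁, t₂, ht12, ht1, ht1', ht2, ht2'⟩ := hP.2.2.2.1
  haveI : Fact (Nat.Prime 2) := ⟨Nat.prime_two⟩
  have hK1 : ∃ k : K, k ≠ 1 := by
    obtain ⟨k, hk, -⟩ := hK.regular t₁ t₂ ht1 ht1' ht2 ht2'
    exact ⟨k, fun e => ht12 (by rw [← hk, e]; simp)⟩
  set Z := Subgroup.center P with hZdef
  have hcen : ∀ x : P, x ∈ Z ↔ x * x = 1 := fun x =>
    ⟨fun h => center_sq hK h2 hne h, fun h => Subgroup.mem_center_iff.2 (hK.central x h)⟩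
  have hsq : ∀ x : P, x * x ∈ Z := fun x =>
    (hcen _).2 (Exponent.sq_sq_eq_one hK h2 (fpf_of_regular hK h2) hK1 hne x)
  have hzc : ∀ z ∈ Z, ∀ g : P, g * z = z * g := fun z hz g => Subgroup.mem_center_iff.1 hz g
  have hcomm : ∀ x y : P, x⁻¹ * y⁻¹ * x * y ∈ Z := fun x y => by
    rw [show x⁻¹ * y⁻¹ * x * y = (x⁻¹ * x⁻¹) * ((x * y⁻¹) * (x * y⁻¹)) * (y * y) by
      rw [show x⁻¹ * x⁻¹ * (x * y⁻¹ * (x * y⁻¹)) * (y * y) = x⁻¹ * y⁻¹ * x * y by group]]
    exact Z.mul_mem (Z.mul_mem (hsq _) (hsq _)) (hsq _)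
  refine ⟨hsq, hcomm, ?_, ?_⟩
  swap
  · refine Nat.dvd_antisymm (Monoid.exponent_dvd_of_forall_pow_eq_one fun x => ?_) ?_
    · rw [show x ^ 4 = x * x * (x * x) by simp [pow_succ, mul_assoc]]; exact (hcen _).1 (hsq x)
    obtain ⟨g, hg⟩ : ∃ g : P, g * g ≠ 1 := by
      by_contra! h
      obtain ⟨x, y, hxy⟩ := hne
      exact hxy ((hzc x ((hcen x).2 (h x)) y).symm)
    have h4 : orderOf g = 2 ^ (1 + 1) := orderOf_eq_prime_pow (by rwa [pow_one, sq])
      (by rw [show (2 : ℕ) ^ (1 + 1) = 4 by norm_num, show g ^ 4 = g * g * (g * g) by simp [pow_succ, mul_assoc]]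
          exact (hcen _).1 (hsq g))
    exact (h4 ▸ Monoid.order_dvd_exponent g : 2 ^ (1 + 1) ∣ Monoid.exponent P)
  -- the squaring map on the quotient
  letI : CommGroup Z := { (inferInstance : Group Z) with mul_comm := fun a b => Subtype.ext (hzc _ b.2 a.1) }
  have hcb : ∀ a b : P ⧸ Z, a * b = b * a := by
    intro a b
    induction a using QuotientGroup.induction_on with | H x =>
    induction b using QuotientGroup.induction_on with | H y =>
    rw [← QuotientGroup.mk_mul, ← QuotientGroup.mk_mul, QuotientGroup.eq,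
      show (x * y)⁻¹ * (y * x) = y⁻¹ * x⁻¹ * y * x by group]
    exact hcomm y x
  letI : CommGroup (P ⧸ Z) := { (inferInstance : Group (P ⧸ Z)) with mul_comm := hcb }
  let c : P → P → P := fun x y => x⁻¹ * y * x * y⁻¹
  have hc : ∀ x y, c x y ∈ Z := fun x y => by
    have := hcomm x y⁻¹
    simpa [c] using this
  have hexpand : ∀ x y : P, x * y * (x * y) = x * x * c x y * (y * y) := fun x y => by
    show _ = x * x * (x⁻¹ * y * x * y⁻¹) * (y * y)
    group
  have hcmul : ∀ x y z : P, c x (y * z) = c x y * c x z := fun x y z => by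
    calc c x (y * z) = x⁻¹ * y * x * (x⁻¹ * z * x * z⁻¹) * y⁻¹ := by
          show x⁻¹ * (y * z) * x * (y * z)⁻¹ = _
          group
      _ = x⁻¹ * y * x * (y⁻¹ * (x⁻¹ * z * x * z⁻¹)) := by
          show _ = x⁻¹ * y * x * (y⁻¹ * c x z)
          rw [hzc _ (hc x z) y⁻¹]
          show _ = x⁻¹ * y * x * (x⁻¹ * z * x * z⁻¹ * y⁻¹)
          group
      _ = _ := by show _ = x⁻¹ * y * x * y⁻¹ * (x⁻¹ * z * x * z⁻¹); group
  let sqZ : P → Z := fun x => ⟨x * x, hsq x⟩
  have hsqZ : ∀ (x : P) (z : Z), sqZ (x * z.1) = sqZ x := fun x z => Subtype.ext (by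
    show x * z.1 * (x * z.1) = x * x
    rw [show x * z.1 * (x * z.1) = x * (z.1 * x) * z.1 by group, ← hzc _ z.2 x,
      show x * (x * z.1) * z.1 = x * x * (z.1 * z.1) by group, (hcen _).1 z.2, mul_one])
  let S : P ⧸ Z → Z := fun u => Quotient.liftOn' u sqZ fun x y h => by
    rw [QuotientGroup.leftRel_apply] at h
    rw [show y = x * (⟨x⁻¹ * y, h⟩ : Z).1 from (mul_inv_cancel_left x y).symm, hsqZ]
  have hS : ∀ x : P, S (QuotientGroup.mk x) = sqZ x := fun x => rfl
  obtain ⟨n, hn⟩ := (h2.to_subgroup Z).exists_card_eq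
  obtain ⟨m, hm⟩ := (h2.to_quotient Z).exists_card_eq
  have hn2 : 2 ≤ n := by
    by_contra h
    haveI := Fintype.ofFinite Z
    have h1 : Nat.card Z ≤ 2 := hn ▸ (Nat.pow_le_pow_right two_pos (show n ≤ 1 by omega)).trans (by norm_num)
    have h3 : ({⟨1, Z.one_mem⟩, ⟨t₁, (hcen _).2 ht1'⟩, ⟨t₂, (hcen _).2 ht2'⟩} : Finset Z).card = 3 :=
      Finset.card_eq_three.2 ⟨_, _, _, fun e => ht1 (congrArg Subtype.val e).symm,
        fun e => ht2 (congrArg Subtype.val e).symm, fun e => ht12 (congrArg Subtype.val e), rfl⟩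
    have := Finset.card_le_univ ({⟨1, Z.one_mem⟩, ⟨t₁, (hcen _).2 ht1'⟩, ⟨t₂, (hcen _).2 ht2'⟩} : Finset Z)
    rw [Nat.card_eq_fintype_card] at h1
    omega
  have hmle : m ≤ 2 * n := by
    refine BoolDeg.dim_le (V := Additive (P ⧸ Z)) (Z := Additive Z) ?_ (fun z => ?_)
      (fun v => Additive.ofMul (S (Additive.toMul v))) ?_ ?_
      ((Nat.card_congr Additive.toMul).trans hm) ((Nat.card_congr Additive.toMul).trans hn)
    · intro v
      show (Additive.toMul v) * (Additive.toMul v) = (1 : P ⧸ Z)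
      induction (Additive.toMul v) using QuotientGroup.induction_on with | H x =>
      rw [← QuotientGroup.mk_mul, QuotientGroup.eq_one_iff]
      exact hsq x
    · exact Subtype.ext ((hcen _).1 (Additive.toMul z : Z).2)
    · intro u v w
      show S (Additive.toMul u * Additive.toMul v * Additive.toMul w) *
          S (Additive.toMul u * Additive.toMul v) * S (Additive.toMul u * Additive.toMul w) *
          S (Additive.toMul u) =
        S (Additive.toMul v * Additive.toMul w) * S (Additive.toMul v) * S (Additive.toMul w) * S 1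
      induction (Additive.toMul u) using QuotientGroup.induction_on with | H x =>
      induction (Additive.toMul v) using QuotientGroup.induction_on with | H y =>
      induction (Additive.toMul w) using QuotientGroup.induction_on with | H z =>
      have e0 : ∀ p q : P, S (QuotientGroup.mk (p * q)) =
          sqZ p * ⟨c p q, hc p q⟩ * sqZ q := fun p q => Subtype.ext (hexpand p q)
      have ec : (⟨c x (y * z), hc _ _⟩ : Z) = ⟨c x y, hc _ _⟩ * ⟨c x z, hc _ _⟩ :=
        Subtype.ext (hcmul x y z)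
      have hS1 : S 1 = 1 := Subtype.ext (one_mul 1)
      have hee : ∀ p : Z, p * p = 1 := fun p => Subtype.ext ((hcen _).1 p.2)
      rw [hS1, mul_one, mul_assoc (QuotientGroup.mk x : P ⧸ Z), ← QuotientGroup.mk_mul,
        ← QuotientGroup.mk_mul, ← QuotientGroup.mk_mul, ← QuotientGroup.mk_mul, e0 x (y * z), e0 x y,
        e0 x z, hS, hS, hS, hS, ec]
      calc _ = (sqZ x * sqZ x) * (sqZ x * sqZ x) * ((⟨c x y, hc _ _⟩ : Z) * ⟨c x y, hc _ _⟩) *
            ((⟨c x z, hc _ _⟩ : Z) * ⟨c x z, hc _ _⟩) * (sqZ (y * z) * sqZ y * sqZ z) := by ac_rfl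
        _ = _ := by simp only [hee, one_mul]
    · intro v
      show S (Additive.toMul v) = 1 ↔ Additive.toMul v = 1
      induction (Additive.toMul v) using QuotientGroup.induction_on with | H x =>
      rw [hS, QuotientGroup.eq_one_iff, hcen, Subtype.ext_iff]
      rfl
  -- the fibres of squaring
  haveI := Fintype.ofFinite P
  have hPcard : Nat.card P = 2 ^ (m + n) := by
    rw [pow_add, ← hm, ← hn]; exact Subgroup.card_eq_card_quotient_mul_card_subgroup Z
  let fib : P → Finset P := fun z => Finset.univ.filter fun x => x * x = z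
  have hfib : ∀ z w : P, z ≠ 1 → z * z = 1 → w ≠ 1 → w * w = 1 → (fib z).card = (fib w).card := by
    intro z w hz hz' hw hw'
    obtain ⟨k, hk, -⟩ := hK.regular z w hz hz' hw hw'
    refine Finset.card_bij (fun x _ => (k : MulAut P) x) (fun x hx => ?_)
      (fun x _ y _ h => (k : MulAut P).injective h) fun y hy => ⟨(k : MulAut P).symm y, ?_, by simp⟩
    · simp only [fib, Finset.mem_filter, Finset.mem_univ, true_and] at hx ⊢
      rw [← map_mul, hx, hk]
    · simp only [fib, Finset.mem_filter, Finset.mem_univ, true_and] at hy ⊢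
      rw [← map_mul, hy, ← hk, MulEquiv.symm_apply_apply]
  let I : Finset P := Finset.univ.filter fun z => z ∈ Z ∧ z ≠ 1
  let O : Finset P := Finset.univ.filter fun x => x ∉ Z
  have hZc : (Finset.univ.filter fun x : P => x ∈ Z).card = 2 ^ n := by
    rw [← hn, ← Fintype.card_subtype, Nat.card_eq_fintype_card]
  have hI : I.card + 1 = 2 ^ n := by
    rw [← hZc]
    have : I = (Finset.univ.filter fun x : P => x ∈ Z).erase 1 := by ext x; simp [I, and_comm]
    rw [this, Finset.card_erase_add_one (by simp [Z.one_mem])]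
  have hO : O.card + 2 ^ n = 2 ^ (m + n) := by
    rw [← hPcard, Nat.card_eq_fintype_card, ← Finset.card_univ, ← hZc, add_comm]
    exact Finset.card_filter_add_card_filter_not (s := Finset.univ) fun x => x ∈ Z
  have hdvd : 2 ^ n - 1 ∣ 2 ^ n * (2 ^ m - 1) := by
    have h1 : O.card = ∑ z ∈ I, (O.filter fun x => x * x = z).card :=
      Finset.card_eq_sum_card_fiberwise fun x hx => by
        simp only [O, I, Finset.coe_filter, Finset.mem_univ, true_and, Set.mem_ofPred_eq] at hx ⊢
        exact ⟨hsq x, fun e => hx ((hcen x).2 e)⟩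
    have h1' : ∀ z ∈ I, (O.filter fun x => x * x = z) = fib z := fun z hz => by
      simp only [I, Finset.mem_filter, Finset.mem_univ, true_and] at hz
      ext x
      simp only [O, fib, Finset.mem_filter, Finset.mem_univ, true_and]
      exact ⟨fun h => h.2, fun h => ⟨fun hx => hz.2 (h ▸ (hcen x).1 hx), h⟩⟩
    have h3 : ∑ z ∈ I, (O.filter fun x => x * x = z).card = ∑ _z ∈ I, (fib t₁).card :=
      Finset.sum_congr rfl fun z hz => by
        rw [h1' z hz]
        simp only [I, Finset.mem_filter, Finset.mem_univ, true_and] at hz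
        exact hfib z t₁ hz.2 ((hcen z).1 hz.1) ht1 ht1'
    rw [h3, Finset.sum_const, smul_eq_mul] at h1
    refine ⟨(fib t₁).card, ?_⟩
    rw [Nat.mul_sub, mul_one, ← pow_add, add_comm n m, show 2 ^ n - 1 = I.card by omega, ← h1]
    omega
  have hdvd' : 2 ^ n - 1 ∣ 2 ^ m - 1 := by
    refine (Nat.Coprime.pow_right n ?_).dvd_of_dvd_mul_left hdvd
    refine (Nat.prime_two.coprime_iff_not_dvd.2 ?_).symm
    have := (Nat.even_pow.2 ⟨even_two, (by omega : n ≠ 0)⟩ : Even (2 ^ n))
    obtain ⟨j, hj⟩ := this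
    have := Nat.one_le_two_pow (n := n)
    omega
  have hnm : n ∣ m := by
    have hg := Nat.pow_sub_one_gcd_pow_sub_one 2 n m
    rw [Nat.gcd_eq_left hdvd'] at hg
    have : 2 ^ Nat.gcd n m = 2 ^ n := by
      have := Nat.one_le_two_pow (n := n)
      have := Nat.one_le_two_pow (n := Nat.gcd n m)
      omega
    exact Nat.pow_right_injective le_rfl this ▸ Nat.gcd_dvd_right n m
  have hm0 : m ≠ 0 := by
    rintro rfl
    have hZtop : Z = ⊤ := Subgroup.eq_top_of_card_eq Z (by rw [hn, hPcard, zero_add])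
    obtain ⟨x, y, hxy⟩ := hne
    exact hxy (hzc y (hZtop ▸ Subgroup.mem_top y) x)
  obtain ⟨r, rfl⟩ := hnm
  have hr : r ≤ 2 := by
    by_contra h
    have : n * 3 ≤ n * r := Nat.mul_le_mul_left _ (by omega)
    omega
  rw [hPcard, hn]
  interval_cases r
  · simp at hm0
  · left; rw [← pow_mul]; ring
  · right; rw [← pow_mul]; ring

end Cfsg.Agent.Involutions.Suzuki
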