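import Mathlib

/-!
# Additive, biadditive and quadratic maps of a finite field of characteristic two
-/

set_option autoImplicit false
set_option linter.unusedSectionVars false

namespace Cfsg.Agent.Involutions.Suzuki.FieldMaps

variable {F : Type*} [Field F]

theorem linearIndependent_aut :
    LinearIndependent F (fun σ : F ≃+* F => ((σ : F →+* F) : F → F)) :=
  (linearIndependent_monoidHom F F).comp (fun σ : F ≃+* F => (σ : F →+* F).toMonoidHom)
    fun σ τ h => RingEquiv.ext fun x => DFunLike.congr_fun h x

variable [Fintype F] [CharP F 2]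

noncomputable instance : Fintype (F ≃+* F) :=
  have : Finite (F ≃+* F) := Finite.of_injective _ DFunLike.coe_injective
  Fintype.ofFinite _

/-- `c ↦ ∑ c_σ σ`. -/
noncomputable def combine : ((F ≃+* F) → F) →+ (F →+ F) :=
  AddMonoidHom.mk' (fun c => ∑ σ, (AddMonoidHom.mulLeft (c σ)).comp (σ : F →+* F).toAddMonoidHom)
    fun c d => by
      ext x
      simp [add_mul, Finset.sum_add_distrib]

omit [CharP F 2] in
theorem combine_apply (c : (F ≃+* F) → F) (x : F) : combine c x = ∑ σ, c σ * σ x := by
  simp [combine]

omit [CharP F 2] in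
theorem combine_injective : Function.Injective (combine (F := F)) := by
  intro c d h
  refine funext fun σ => ?_
  have hli := Fintype.linearIndependent_iff.1 (linearIndependent_aut (F := F)) (c - d) (funext fun x => ?_) σ
  · exact sub_eq_zero.1 hli
  · have hx := DFunLike.congr_fun h x
    rw [combine_apply, combine_apply, ← sub_eq_zero, ← Finset.sum_sub_distrib] at hx
    simpa [sub_mul] using hx

theorem combine_surjective : Function.Surjective (combine (F := F)) := by
  classical
  letI : Algebra (ZMod 2) F := ZMod.algebra F 2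
  have b := Module.finBasis (ZMod 2) F
  haveI : Finite (F →+ F) := Finite.of_injective _ DFunLike.coe_injective
  have h1 : Nat.card (F →+ F) ≤ Nat.card (Fin (Module.finrank (ZMod 2) F) → F) := by
    refine Nat.card_le_card_of_injective (fun f i => f (b i)) fun f g h => ?_
    have hfg : f.toZModLinearMap 2 = g.toZModLinearMap 2 := b.ext fun i => congrFun h i
    exact AddMonoidHom.ext fun x => LinearMap.congr_fun hfg x
  have h2 : Module.finrank (ZMod 2) F ≤ Fintype.card (F ≃+* F) := by
    rw [← IsGalois.card_aut_eq_finrank (ZMod 2) F, Nat.card_eq_fintype_card]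
    exact Fintype.card_le_of_injective (fun σ => σ.toRingEquiv)
      fun σ τ h => AlgEquiv.ext fun x => RingEquiv.congr_fun h x
  have h3 : Nat.card (F →+ F) ≤ Nat.card ((F ≃+* F) → F) := by
    refine h1.trans ?_
    rw [Nat.card_fun, Nat.card_fun, Nat.card_eq_fintype_card (α := F ≃+* F), Nat.card_fin]
    exact Nat.pow_le_pow_right Nat.card_pos h2
  exact ((Nat.bijective_iff_injective_and_card (combine (F := F))).2 ⟨combine_injective,
    le_antisymm (Nat.card_le_card_of_injective _ combine_injective) h3⟩).2

theorem exists_additive (f : F →+ F) :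
    ∃ (s : Finset (F ≃+* F)) (c : (F ≃+* F) → F), ∀ x : F, f x = ∑ σ ∈ s, c σ * σ x := by
  obtain ⟨c, rfl⟩ := combine_surjective f
  exact ⟨Finset.univ, c, combine_apply c⟩

theorem exists_biadditive (B : F →+ F →+ F) :
    ∃ (s : Finset ((F ≃+* F) × (F ≃+* F))) (c : (F ≃+* F) × (F ≃+* F) → F),
      ∀ x y : F, B x y = ∑ p ∈ s, c p * (p.1 x * p.2 y) := by
  classical
  let e := AddEquiv.ofBijective (combine (F := F)) ⟨combine_injective, combine_surjective⟩
  let coef : (F ≃+* F) → (F →+ F) := fun τ =>
    ((Pi.evalAddMonoidHom (fun _ : F ≃+* F => F) τ).comp e.symm.toAddMonoidHom).comp B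
  choose d hd using fun τ => combine_surjective (coef τ)
  refine ⟨Finset.univ, fun p => d p.2 p.1, fun x y => ?_⟩
  have h1 : B x y = ∑ τ, e.symm (B x) τ * τ y := by
    rw [← combine_apply]
    exact (DFunLike.congr_fun (e.apply_symm_apply (B x)) y).symm
  rw [h1, Fintype.sum_prod_type, Finset.sum_comm]
  refine Finset.sum_congr rfl fun τ _ => ?_
  rw [show e.symm (B x) τ = coef τ x from rfl, ← hd τ, combine_apply, Finset.sum_mul]
  exact Finset.sum_congr rfl fun σ _ => mul_assoc _ _ _

theorem exists_quadratic (q : F → F)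
    (hq : ∀ x y z : F, q (x + y + z) + q (x + y) + q (x + z) + q (y + z) + q x + q y + q z = 0) :
    ∃ (s : Finset ((F ≃+* F) × (F ≃+* F))) (c : (F ≃+* F) × (F ≃+* F) → F),
      ∀ x : F, q x = ∑ p ∈ s, c p * (p.1 x * p.2 x) := by
  classical
  letI : Algebra (ZMod 2) F := ZMod.algebra F 2
  have b := Module.finBasis (ZMod 2) F
  have htwo : ∀ x : F, x + x = 0 := CharTwo.add_self_eq_zero
  have h0 : q 0 = 0 := by
    have h := hq 0 0 0
    simp only [add_zero] at h
    linear_combination h - 3 * htwo (q 0)
  have hadd : ∀ x y z : F, (q (x + y + z) + q (x + y) + q z) =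
      (q (x + z) + q x + q z) + (q (y + z) + q y + q z) := by
    intro x y z
    linear_combination hq x y z - htwo (q (x + z)) - htwo (q x) - htwo (q (y + z)) - htwo (q y)
      - htwo (q z)
  have hcomm : ∀ x y : F, q (x + y) + q x + q y = q (y + x) + q y + q x := fun x y => by
    rw [add_comm y x]; ring
  let B₀ : F → F →+ F := fun x => AddMonoidHom.mk' (fun y => q (x + y) + q x + q y) fun y z => by
    rw [hcomm x (y + z), hcomm x y, hcomm x z]
    exact hadd y z x
  let B : F →ₗ[ZMod 2] F →ₗ[ZMod 2] F := AddMonoidHom.toZModLinearMap 2 (AddMonoidHom.mk'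
    (fun x => (B₀ x).toZModLinearMap 2) fun x y => LinearMap.ext fun z => hadd x y z)
  have hB : ∀ x y, B x y = q (x + y) + q x + q y := fun _ _ => rfl
  let d : Fin (Module.finrank (ZMod 2) F) → Fin (Module.finrank (ZMod 2) F) → F := fun i j =>
    if i = j then q (b i) else if i < j then B (b i) (b j) else 0
  let β : F →ₗ[ZMod 2] F →ₗ[ZMod 2] F := b.constr ℕ fun i => b.constr ℕ (d i)
  have hβ : ∀ i j, β (b i) (b j) = d i j := fun i j => by simp [β]
  have hpol : β + β.flip = B := by
    refine b.ext fun i => b.ext fun j => ?_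
    simp only [LinearMap.add_apply, LinearMap.flip_apply, hβ, d]
    rcases lt_trichotomy i j with h | rfl | h
    · rw [if_neg h.ne, if_pos h, if_neg h.ne', if_neg h.asymm, add_zero]
    · rw [if_pos rfl, hB, htwo (b i), h0, zero_add]
    · rw [if_neg h.ne', if_neg h.asymm, if_neg h.ne, if_pos h, zero_add, hB, hB, hcomm]
  let r : F →+ F := AddMonoidHom.mk' (fun x => q x + β x x) fun x y => by
    have h := LinearMap.congr_fun (LinearMap.congr_fun hpol x) y
    simp only [LinearMap.add_apply, LinearMap.flip_apply, hB] at h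
    simp only [map_add, LinearMap.add_apply]
    linear_combination h + htwo (q (x + y)) - htwo 0
  have hr : r.toZModLinearMap 2 = 0 := b.ext fun i => by
    show q (b i) + β (b i) (b i) = 0
    rw [hβ]
    simp only [d, if_pos]
    exact htwo _
  let βa : F →+ F →+ F := AddMonoidHom.mk' (fun x => (β x).toAddMonoidHom) fun x y => by
    ext z; simp
  obtain ⟨s, c, hc⟩ := exists_biadditive βa
  refine ⟨s, c, fun x => ?_⟩
  rw [← hc x x]
  have h : q x + β x x = 0 := LinearMap.congr_fun hr x
  exact CharTwo.add_eq_zero.1 h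

end Cfsg.Agent.Involutions.Suzuki.FieldMaps
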