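import Mathlib

/-!
# A commutative group regular on the nonzero vectors is a multiplicative group of a field
-/

set_option autoImplicit false
set_option linter.style.haveILetI false

namespace Cfsg.Agent.Involutions.Suzuki.FieldModel

/-- A finite elementary abelian 2-group with a commutative group regular on its nonzero elements can
be identified with any field of its order, the group acting by scalars. -/
theorem exists_model {K V : Type*} [CommGroup K] [AddCommGroup V] [Finite V]
    (F : Type) [Field F] [Fintype F] (hcard : Nat.card V = Fintype.card F)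
    (act : K → V →+ V) (hmul : ∀ k l v, act (k * l) v = act k (act l v))
    (hne : ∀ k v, v ≠ 0 → act k v ≠ 0)
    (hreg : ∀ v w : V, v ≠ 0 → w ≠ 0 → ∃! k, act k v = w) :
    ∃ (e : V ≃+ F) (lam : K → F), (∀ k, lam k ≠ 0) ∧ (∀ a : F, a ≠ 0 → ∃ k, lam k = a) ∧
      ∀ k v, e (act k v) = lam k * e v := by
  classical
  haveI : Nontrivial V := Finite.one_lt_card_iff_nontrivial.1 (hcard ▸ Fintype.one_lt_card)
  obtain ⟨o, ho⟩ := exists_ne (0 : V)
  choose k hk hku using fun (v : V) (hv : v ≠ 0) => hreg o v ho hv
  let M : V → V →+ V := fun v => if hv : v ≠ 0 then act (k v hv) else 0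
  have hM : ∀ l, M (act l o) = act l := fun l => by
    show (if hv : act l o ≠ 0 then act (k _ hv) else 0) = _
    rw [dif_pos (hne l o ho), ← hku _ (hne l o ho) l rfl]
  have hM0 : M 0 = 0 := dif_neg fun h => h rfl
  have hone : act 1 o = o := by
    obtain ⟨l, hl, -⟩ := hreg o o ho ho
    have h := hmul 1 l o
    rw [one_mul, hl] at h
    exact h.symm
  have hrep : ∀ v : V, v = 0 ∨ ∃ l, act l o = v := fun v =>
    (em (v = 0)).imp id fun hv => ⟨k v hv, hk v hv⟩
  have hact1 : ∀ v, act 1 v = v := fun v => by
    rcases hrep v with rfl | ⟨l, rfl⟩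
    · exact map_zero _
    · rw [← hmul, one_mul]
  have hcomm : ∀ a b, M a b = M b a := by
    intro a b
    rcases hrep a with rfl | ⟨i, rfl⟩ <;> rcases hrep b with rfl | ⟨j, rfl⟩
    · rfl
    · rw [hM0, map_zero]; rfl
    · rw [hM0, map_zero]; rfl
    · rw [hM, hM, ← hmul, ← hmul, mul_comm]
  have hassoc : ∀ a b c, M (M a b) c = M a (M b c) := by
    intro a b c
    rcases hrep a with rfl | ⟨i, rfl⟩
    · simp [hM0]
    rcases hrep b with rfl | ⟨j, rfl⟩
    · simp [hM0]
    rw [hM, hM, ← hmul, hM, hmul]
  letI : Mul V := ⟨fun a b => M a b⟩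
  letI : One V := ⟨o⟩
  letI : CommRing V :=
    { (inferInstance : AddCommGroup V) with
      mul := fun a b => M a b
      one := o
      left_distrib := fun a b c => map_add (M a) b c
      right_distrib := fun a b c => by
        show M (a + b) c = M a c + M b c
        rw [hcomm (a + b), hcomm a, hcomm b, map_add]
      zero_mul := fun a => by show M 0 a = 0; rw [hM0]; rfl
      mul_zero := fun a => map_zero (M a)
      mul_assoc := hassoc
      one_mul := fun a => by
        show M o a = a
        conv_lhs => rw [← hone, hM, hact1]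
      mul_one := fun a => by
        show M a o = a
        rw [hcomm, ← hone, hM, hact1]
      mul_comm := hcomm }
  haveI : IsDomain V := by
    haveI : NoZeroDivisors V := ⟨fun {a b} (hab : M a b = 0) => by
      by_contra! h
      obtain ⟨i, hi⟩ := (hrep a).resolve_left h.1
      rw [← hi, hM] at hab
      exact hne i b h.2 hab⟩
    exact NoZeroDivisors.to_isDomain _
  haveI := Fintype.ofFinite V
  letI : Field V := Fintype.fieldOfDomain V
  let e : V ≃+* F := FiniteField.ringEquivOfCardEq (by rw [← hcard, Nat.card_eq_fintype_card])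
  have hmulM : ∀ a b : V, a * b = M a b := fun a b => rfl
  refine ⟨e.toAddEquiv, fun l => e (act l o), fun l h => hne l o ho (e.map_eq_zero_iff.1 h),
    fun a ha => ⟨k (e.symm a) (fun h => ha (e.symm.map_eq_zero_iff.1 h)), ?_⟩, fun l v => ?_⟩
  · show e (act (k (e.symm a) _) o) = a
    rw [hk, e.apply_symm_apply]
  · show e (act l v) = e (act l o) * e v
    rw [← map_mul, hmulM, hM]

end Cfsg.Agent.Involutions.Suzuki.FieldModel
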