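import Mathlib

/-!
# Central extensions of elementary abelian 2-groups are determined by their squaring map
-/

set_option autoImplicit false

namespace Cfsg.Agent.Involutions.Suzuki.SquareExtension

/-- `P` is a central extension of `Z` by `W` with squaring map `q`. -/
structure Ext (P : Type*) [Group P] {W Z : Type*} [AddCommGroup W] [AddCommGroup Z] (q : W → Z)
    where
  proj : P → W
  incl : Z → P
  proj_mul : ∀ x y, proj (x * y) = proj x + proj y
  proj_surj : Function.Surjective proj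
  incl_add : ∀ a b, incl (a + b) = incl a * incl b
  incl_inj : Function.Injective incl
  proj_eq_zero : ∀ x, proj x = 0 ↔ ∃ a, incl a = x
  central : ∀ a x, x * incl a = incl a * x
  sq : ∀ x, x * x = incl (q (proj x))

variable {P Q W Z : Type*} [Group P] [Group Q] [AddCommGroup W] [AddCommGroup Z] {q : W → Z}

theorem Ext.incl_zero (E : Ext P q) : E.incl 0 = 1 := by
  have h := E.incl_add 0 0
  rw [add_zero] at h
  exact left_eq_mul.1 h

theorem Ext.proj_one (E : Ext P q) : E.proj 1 = 0 := by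
  have h := E.proj_mul 1 1
  rw [one_mul] at h
  exact left_eq_add.1 h

theorem Ext.proj_inv (E : Ext P q) (x : P) : E.proj x⁻¹ = -E.proj x := by
  have h := E.proj_mul x x⁻¹
  rw [mul_inv_cancel, E.proj_one] at h
  exact eq_neg_of_add_eq_zero_right h.symm

theorem Ext.proj_incl (E : Ext P q) (a : Z) : E.proj (E.incl a) = 0 :=
  (E.proj_eq_zero _).2 ⟨a, rfl⟩

/-- The pairs with equal images. -/
def fibre (E : Ext P q) (E' : Ext Q q) : Subgroup (P × Q) where
  carrier := {r | E.proj r.1 = E'.proj r.2}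
  one_mem' := by simp [E.proj_one, E'.proj_one]
  mul_mem' := fun {a b} (ha : E.proj a.1 = E'.proj a.2) (hb : E.proj b.1 = E'.proj b.2) => by
    show E.proj (a.1 * b.1) = E'.proj (a.2 * b.2)
    rw [E.proj_mul, E'.proj_mul, ha, hb]
  inv_mem' := fun {a} (ha : E.proj a.1 = E'.proj a.2) => by
    show E.proj a.1⁻¹ = E'.proj a.2⁻¹
    rw [E.proj_inv, E'.proj_inv, ha]

/-- The pairs of equal central elements. -/
def diag (E : Ext P q) (E' : Ext Q q) : Subgroup (P × Q) where
  carrier := Set.range fun a => (E.incl a, E'.incl a)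
  one_mem' := ⟨0, by simp [E.incl_zero, E'.incl_zero, Prod.ext_iff]⟩
  mul_mem' := by
    rintro _ _ ⟨a, rfl⟩ ⟨b, rfl⟩
    exact ⟨a + b, by simp [E.incl_add, E'.incl_add]⟩
  inv_mem' := by
    rintro _ ⟨a, rfl⟩
    refine ⟨-a, eq_inv_of_mul_eq_one_left ?_⟩
    simp [← E.incl_add, ← E'.incl_add, E.incl_zero, E'.incl_zero, Prod.ext_iff]

theorem exists_mulEquiv [Finite P] [Finite Q] (E : Ext P q) (E' : Ext Q q) :
    ∃ f : P ≃* Q, (∀ x, E'.proj (f x) = E.proj x) ∧ ∀ a, f (E.incl a) = E'.incl a := by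
  classical
  let R := fibre E E'
  let D := diag E E'
  have hDR : D ≤ R := by
    rintro _ ⟨a, rfl⟩
    show E.proj (E.incl a) = E'.proj (E'.incl a)
    rw [E.proj_incl, E'.proj_incl]
  have hsq : ∀ r ∈ R, r * r ∈ D := fun r (hr : E.proj r.1 = E'.proj r.2) =>
    ⟨q (E.proj r.1), Prod.ext (E.sq r.1).symm
      (show E'.incl (q (E.proj r.1)) = r.2 * r.2 by rw [hr, E'.sq])⟩
  let Good : Subgroup (P × Q) → Prop := fun G =>
    D ≤ G ∧ G ≤ R ∧ ∀ a, (E.incl a, (1 : Q)) ∈ G → a = 0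
  have hD : Good D := by
    refine ⟨le_rfl, hDR, fun a => ?_⟩
    rintro ⟨b, hb⟩
    obtain ⟨h1, h2⟩ := Prod.ext_iff.1 hb
    rw [← E.incl_inj h1]
    exact E'.incl_inj (h2.trans E'.incl_zero.symm)
  obtain ⟨G, ⟨⟨hDG, hGR, hG⟩, hmax⟩⟩ :=
    (Set.toFinite {G | Good G}).exists_maximal ⟨D, hD⟩
  have hnorm : ∀ x ∈ R, ∀ g ∈ G, x * g * x⁻¹ ∈ G := fun x hx g hg => by
    rw [show x * g * x⁻¹ = (x * g) * (x * g) * g⁻¹ * (x * x)⁻¹ by group]
    exact mul_mem (mul_mem (hDG (hsq _ (mul_mem hx (hGR hg)))) (inv_mem hg))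
      (inv_mem (hDG (hsq _ hx)))
  have hcover : ∀ r ∈ R, ∃ a, r * (E.incl a, (1 : Q))⁻¹ ∈ G := by
    intro r hr
    by_contra! h
    have hrG : r ∉ G := fun hr' => h 0 (by simpa [E.incl_zero, Prod.mk_one_one] using hr')
    have hrr : r * r ∈ G := hDG (hsq r hr)
    let G' : Subgroup (P × Q) :=
      { carrier := {x | x ∈ G ∨ x * r⁻¹ ∈ G}
        one_mem' := Or.inl (one_mem _)
        mul_mem' := by
          rintro x y (hx | hx) (hy | hy)
          · exact Or.inl (mul_mem hx hy)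
          · exact Or.inr (by rw [mul_assoc]; exact mul_mem hx hy)
          · refine Or.inr ?_
            rw [show x * y * r⁻¹ = (x * r⁻¹) * (r * y * r⁻¹) by group]
            exact mul_mem hx (hnorm r hr y hy)
          · refine Or.inl ?_
            rw [show x * y = (x * r⁻¹) * (r * (y * r⁻¹) * r⁻¹) * (r * r) by group]
            exact mul_mem (mul_mem hx (hnorm r hr _ hy)) hrr
        inv_mem' := by
          rintro x (hx | hx)
          · exact Or.inl (inv_mem hx)
          · refine Or.inr ?_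
            rw [show x⁻¹ * r⁻¹ = r⁻¹ * (x * r⁻¹)⁻¹ * r⁻¹⁻¹ * (r * r)⁻¹ by group]
            exact mul_mem (hnorm r⁻¹ (inv_mem hr) _ (inv_mem hx)) (inv_mem hrr) }
    have hle : G ≤ G' := fun x hx => Or.inl hx
    have hG' : Good G' := by
      refine ⟨hDG.trans hle, ?_, ?_⟩
      · rintro x (hx | hx)
        · exact hGR hx
        · simpa using mul_mem (hGR hx) hr
      · rintro a (ha | ha)
        · exact hG a ha
        · exact (h a (by simpa using inv_mem ha)).elim
    exact hrG (hmax hG' hle (Or.inr (by rw [mul_inv_cancel]; exact one_mem _)))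
  have hfun : ∀ p : P, ∃! y : Q, (p, y) ∈ G := by
    intro p
    obtain ⟨y, hy⟩ := E'.proj_surj (E.proj p)
    obtain ⟨a, ha⟩ := hcover (p, y) hy.symm
    refine ⟨y * E'.incl a, ?_, fun z hz => ?_⟩
    · have := mul_mem ha (hDG ⟨a, rfl⟩)
      simpa using this
    · have h1 : ((1 : P), (y * E'.incl a)⁻¹ * z) ∈ G := by
        have h0 : (p, y * E'.incl a) ∈ G := by simpa using mul_mem ha (hDG ⟨a, rfl⟩)
        simpa using mul_mem (inv_mem h0) hz
      obtain ⟨b, hb⟩ := (E'.proj_eq_zero _).1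
        (show E'.proj ((y * E'.incl a)⁻¹ * z) = 0 from (hGR h1).symm.trans E.proj_one)
      rw [← hb] at h1
      have hb0 : b = 0 := hG b (by simpa using mul_mem (hDG ⟨b, rfl⟩) (inv_mem h1))
      rw [hb0, E'.incl_zero] at hb
      exact (inv_mul_eq_one.1 hb.symm).symm
  choose f hf hfu using hfun
  let φ : P →* Q := MonoidHom.mk' f fun x y => (hfu _ _ (by simpa using mul_mem (hf x) (hf y))).symm
  refine ⟨MulEquiv.ofBijective φ ⟨?_, ?_⟩, fun x => (hGR (hf x)).symm,
    fun a => (hfu _ _ (hDG ⟨a, rfl⟩)).symm⟩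
  · rw [injective_iff_map_eq_one]
    intro x hx
    have hxG : (x, (1 : Q)) ∈ G := hx ▸ hf x
    obtain ⟨a, rfl⟩ := (E.proj_eq_zero x).1 (((hGR hxG : E.proj x = E'.proj 1)).trans E'.proj_one)
    rw [hG a hxG, E.incl_zero]
  · intro y
    obtain ⟨p, hp⟩ := E.proj_surj (E'.proj y)
    obtain ⟨a, ha⟩ := hcover (p, y) hp
    exact ⟨p * (E.incl a)⁻¹, (hfu _ _ (by simpa using ha)).symm⟩

theorem nonempty_mulEquiv [Finite P] [Finite Q] (E : Ext P q) (E' : Ext Q q) :
    Nonempty (P ≃* Q) :=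
  let ⟨f, _, _⟩ := exists_mulEquiv E E'
  ⟨f⟩

end Cfsg.Agent.Involutions.Suzuki.SquareExtension
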