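import Cfsg.Prelude.Def_LieRecognition
import Cfsg.Agent.Lib.Involutions.Suzuki.Center
import Cfsg.Agent.Lib.Involutions.Suzuki.FieldMaps
import Cfsg.Agent.Lib.Involutions.Suzuki.FieldModel
import Cfsg.Agent.Lib.Involutions.Suzuki.SquareExtension

/-!
# Suzuki 2-groups of order the square of the order of the centre are of type A
-/

set_option autoImplicit false
set_option linter.style.haveILetI false
set_option linter.unusedSectionVars false

namespace Cfsg.Agent.Involutions.Suzuki.TypeA

open Cfsg.Agent.Involutions.Suzuki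

section Model

variable {F : Type} [Field F] [Fintype F] [CharP F 2] (φ : F ≃+* F)

/-- The matrix of the pair `(x, y)`. -/
def mat (x y : F) : Matrix (Fin 3) (Fin 3) F := !![1, 0, 0; x, 1, 0; y, φ x, 1]

theorem mat_mul (x y x' y' : F) :
    mat φ x y * mat φ x' y' = mat φ (x + x') (y + y' + φ x * x') := by
  ext i j
  fin_cases i <;> fin_cases j <;>
    (simp [mat, Matrix.mul_apply, Fin.sum_univ_three]; try ring)

theorem mat_zero : mat φ 0 0 = 1 := by
  ext i j
  fin_cases i <;> fin_cases j <;> simp [mat]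

/-- The unit of the pair `(x, y)`. -/
def unit (x y : F) : GL (Fin 3) F where
  val := mat φ x y
  inv := mat φ (-x) (-y + φ x * x)
  val_inv := by
    rw [mat_mul, show y + (-y + φ x * x) + φ x * -x = 0 by ring, add_neg_cancel, mat_zero]
  inv_val := by
    rw [mat_mul, show -y + φ x * x + y + φ (-x) * x = 0 by rw [map_neg]; ring, neg_add_cancel,
      mat_zero]

theorem unit_mul (x y x' y' : F) :
    unit φ x y * unit φ x' y' = unit φ (x + x') (y + y' + φ x * x') :=
  Units.ext (mat_mul φ x y x' y')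

theorem unit_zero : unit φ 0 0 = 1 := Units.ext (mat_zero φ)

theorem unit_inv (x y : F) : (unit φ x y)⁻¹ = unit φ (-x) (-y + φ x * x) := Units.ext rfl

theorem unit_injective {x y x' y' : F} (h : unit φ x y = unit φ x' y') : x = x' ∧ y = y' := by
  have h' : mat φ x y = mat φ x' y' := congrArg Units.val h
  exact ⟨congrFun (congrFun h' 1) 0, congrFun (congrFun h' 2) 0⟩

theorem mem_iff {g : GL (Fin 3) F} :
    g ∈ Cfsg.suzukiTypeA F (φ : F →+* F) ↔ ∃ x y, unit φ x y = g := by
  constructor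
  · intro hg
    induction hg using Subgroup.closure_induction with
    | mem g hg => obtain ⟨x, y, h⟩ := hg; exact ⟨x, y, Units.ext h.symm⟩
    | one => exact ⟨0, 0, unit_zero φ⟩
    | mul a b _ _ ha hb =>
      obtain ⟨x, y, rfl⟩ := ha
      obtain ⟨x', y', rfl⟩ := hb
      exact ⟨_, _, (unit_mul φ x y x' y').symm⟩
    | inv a _ ha => obtain ⟨x, y, rfl⟩ := ha; exact ⟨_, _, (unit_inv φ x y).symm⟩
  · rintro ⟨x, y, rfl⟩
    exact Subgroup.subset_closure ⟨x, y, rfl⟩

noncomputable def modelExt :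
    SquareExtension.Ext (Cfsg.suzukiTypeA F (φ : F →+* F)) (fun a : F => φ a * a) where
  proj g := (g.1 : Matrix (Fin 3) (Fin 3) F) 1 0
  incl a := ⟨unit φ 0 a, (mem_iff φ).2 ⟨0, a, rfl⟩⟩
  proj_mul := by
    rintro ⟨g, hg⟩ ⟨h, hh⟩
    obtain ⟨x, y, rfl⟩ := (mem_iff φ).1 hg
    obtain ⟨x', y', rfl⟩ := (mem_iff φ).1 hh
    show (mat φ x y * mat φ x' y') 1 0 = mat φ x y 1 0 + mat φ x' y' 1 0
    rw [mat_mul]
    rfl
  proj_surj x := ⟨⟨unit φ x 0, (mem_iff φ).2 ⟨x, 0, rfl⟩⟩, rfl⟩
  incl_add a b := Subtype.ext (by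
    show unit φ 0 (a + b) = unit φ 0 a * unit φ 0 b
    rw [unit_mul]; simp)
  incl_inj a b h := (unit_injective φ (congrArg Subtype.val h)).2
  proj_eq_zero := by
    rintro ⟨g, hg⟩
    obtain ⟨x, y, rfl⟩ := (mem_iff φ).1 hg
    show x = 0 ↔ _
    constructor
    · rintro rfl
      exact ⟨y, rfl⟩
    · rintro ⟨a, ha⟩
      exact (unit_injective φ (congrArg Subtype.val ha)).1.symm
  central := by
    rintro a ⟨g, hg⟩
    obtain ⟨x, y, rfl⟩ := (mem_iff φ).1 hg
    refine Subtype.ext (show unit φ x y * unit φ 0 a = unit φ 0 a * unit φ x y from ?_)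
    rw [unit_mul, unit_mul]
    simp [add_comm]
  sq := by
    rintro ⟨g, hg⟩
    obtain ⟨x, y, rfl⟩ := (mem_iff φ).1 hg
    refine Subtype.ext (show unit φ x y * unit φ x y = unit φ 0 (φ x * x) from ?_)
    rw [unit_mul, CharTwo.add_self_eq_zero, CharTwo.add_self_eq_zero, zero_add]

omit [CharP F 2] in
theorem exists_inverted [CharP F 2] (h : Even (orderOf φ)) : ∃ x : F, x ≠ 1 ∧ x ≠ 0 ∧ φ x * x = 1 := by
  classical
  haveI : Finite (F ≃+* F) := Finite.of_injective _ DFunLike.coe_injective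
  haveI : Fintype (Subgroup.zpowers φ) := Fintype.ofFinite _
  haveI : Fintype (Subgroup.zpowers (φ ^ 2)) := Fintype.ofFinite _
  by_cases hfix : ∀ e : F, φ (φ e) = e → φ e = e
  · exfalso
    have heq : FixedPoints.subfield (Subgroup.zpowers φ) F
        = FixedPoints.subfield (Subgroup.zpowers (φ ^ 2)) F := by
      ext e
      constructor
      · rintro he ⟨g, hg⟩
        exact he ⟨g, Subgroup.zpowers_le.2 (Subgroup.pow_mem _ (Subgroup.mem_zpowers φ) 2) hg⟩
      · rintro he ⟨g, hg⟩
        have h2 : φ (φ e) = e := by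
          have := he ⟨φ ^ 2, Subgroup.mem_zpowers _⟩
          rw [pow_two] at this
          exact this
        have hstab : φ ∈ MulAction.stabilizer (F ≃+* F) e := hfix e h2
        exact Subgroup.zpowers_le.2 hstab hg
    have hcongr : ∀ A B : Subfield F, A = B → Module.finrank A F = Module.finrank B F := by
      rintro A _ rfl; rfl
    have hcard := hcongr _ _ heq
    rw [FixedPoints.finrank_eq_card, FixedPoints.finrank_eq_card, ← Nat.card_eq_fintype_card,
      ← Nat.card_eq_fintype_card, Nat.card_zpowers, Nat.card_zpowers, orderOf_pow,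
      Nat.gcd_eq_right h.two_dvd] at hcard
    have := orderOf_pos φ
    omega
  · push Not at hfix
    obtain ⟨e, he2, he⟩ := hfix
    have he0 : e ≠ 0 := fun h0 => he (by simp [h0])
    have hφe : φ e ≠ 0 := φ.map_ne_zero_iff.2 he0
    refine ⟨φ e / e, fun h1 => he (eq_of_div_eq_one h1), div_ne_zero hφe he0, ?_⟩
    rw [map_div₀, he2]
    field_simp

end Model

variable {P : Type*} [Group P] [Finite P] {K : Subgroup (MulAut P)}

theorem map_center (k : MulAut P) {x : P} (hx : x ∈ Subgroup.center P) :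
    k x ∈ Subgroup.center P := Subgroup.mem_center_iff.2 fun g => by
  obtain ⟨g', rfl⟩ := k.surjective g
  rw [← map_mul, Subgroup.mem_center_iff.1 hx, map_mul]

theorem sq_mem_center (hK : Regular K) (h2 : IsPGroup 2 P) (hne : ∃ x y : P, x * y ≠ y * x)
    (hcard : Nat.card P = Nat.card (Subgroup.center P) ^ 2) (x : P) :
    x * x ∈ Subgroup.center P := by
  classical
  set Z := Subgroup.center P with hZ
  have hZsq : ∀ z ∈ Z, z * z = 1 := fun z hz => center_sq hK h2 hne hz
  have hinv : ∀ g : P, g * g = 1 → g ∈ Z := fun g hg => Subgroup.mem_center_iff.2 (hK.central g hg)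
  have hZtop : Z ≠ ⊤ := fun h => by
    obtain ⟨p, r, hpr⟩ := hne
    exact hpr (Subgroup.mem_center_iff.1 (h ▸ Subgroup.mem_top r : r ∈ Z) p)
  obtain ⟨g, hg, hgZ⟩ := SetLike.exists_of_lt (lt_layer (A := Z) h2 hZtop)
  have hg2 : g * g ∈ Z := (mem_layer.1 hg).1
  have hg1 : g * g ≠ 1 := fun h => hgZ (hinv g h)
  have hlinv : ∀ (k : MulAut P) {y}, y ∈ layer Z → k y ∈ layer Z := fun k y hy => by
    obtain ⟨h₁, h₂⟩ := mem_layer.1 hy
    refine mem_layer.2 ⟨by rw [← map_mul]; exact map_center k h₁, fun h => ?_⟩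
    obtain ⟨h', rfl⟩ := k.surjective h
    simpa using map_center k (h₂ h')
  let S : ↥(layer Z) → Z := fun y => ⟨y.1 * y.1, (mem_layer.1 y.2).1⟩
  have hS : Function.Surjective S := by
    rintro ⟨z, hz⟩
    by_cases hz1 : z = 1
    · exact ⟨1, by simp [S, hz1]⟩
    obtain ⟨k, hk, -⟩ := hK.regular _ _ hg1 (hZsq _ hg2) hz1 (hZsq z hz)
    exact ⟨⟨(k : MulAut P) g, hlinv _ hg⟩, Subtype.ext (by
      show (k : MulAut P) g * (k : MulAut P) g = z
      rw [← map_mul]; exact hk)⟩
  choose rep hrep using hS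
  have hinj : Function.Injective
      (fun p : Z × Z => (⟨(rep p.1).1 * p.2.1,
        mul_mem (rep p.1).2 (le_of_lt (lt_layer (A := Z) h2 hZtop) p.2.2)⟩ : ↥(layer Z))) := by
    rintro ⟨a, b⟩ ⟨a', b'⟩ h
    have h' : (rep a).1 * b.1 = (rep a').1 * b'.1 := congrArg Subtype.val h
    have key : ∀ (u : P) (w : Z), u * w.1 * (u * w.1) = u * u := fun u w => by
      rw [show u * w.1 * (u * w.1) = u * (w.1 * u) * w.1 by group,
        ← Subgroup.mem_center_iff.1 w.2 u,
        show u * (u * w.1) * w.1 = u * u * (w.1 * w.1) by group, hZsq _ w.2, mul_one]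
    have haa : a = a' := by
      refine Subtype.ext ?_
      rw [← congrArg Subtype.val (hrep a), ← congrArg Subtype.val (hrep a')]
      show (rep a).1 * (rep a).1 = (rep a').1 * (rep a').1
      rw [← key _ b, h', key]
    subst haa
    exact Prod.ext rfl (Subtype.ext (mul_left_cancel h'))
  have hle := Nat.card_le_card_of_injective _ hinj
  rw [Nat.card_prod, ← pow_two, ← hcard] at hle
  have htop : layer Z = ⊤ := Subgroup.eq_top_of_le_card _ hle
  exact (mem_layer.1 (htop ▸ Subgroup.mem_top x : x ∈ layer Z)).1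

/-- The model of a group of type A in which a given regular group of automorphisms is the torus. -/
theorem type_a_data (hK : Regular K) (h2 : IsPGroup 2 P) (hne : ∃ x y : P, x * y ≠ y * x)
    (hcard : Nat.card P = Nat.card (Subgroup.center P) ^ 2) :
    ∃ (F : Type) (_ : Field F) (_ : Fintype F) (_ : CharP F 2) (φ : F ≃+* F)
      (f : P ≃* Cfsg.suzukiTypeA F (φ : F →+* F)) (lam : K → F),
      Fintype.card F = Nat.card (Subgroup.center P) ∧ φ ≠ RingEquiv.refl F ∧ Odd (orderOf φ) ∧
        (∀ k : K, lam k ≠ 0) ∧ (∀ a, a ≠ 0 → ∃ k, lam k = a) ∧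
        (∀ k l : K, lam (k * l) = lam k * lam l) ∧
        (∀ (k : K) x y z, (f x : GL (Fin 3) F) = unit φ y z →
          ∃ w, (f ((k : MulAut P) x) : GL (Fin 3) F) = unit φ (lam k * y) w) ∧
        (∀ (k : K) x z, (f x : GL (Fin 3) F) = unit φ 0 z →
          (f ((k : MulAut P) x) : GL (Fin 3) F) = unit φ 0 (φ (lam k) * lam k * z)) := by
  classical
  set Z := Subgroup.center P with hZdef
  have hsq : ∀ x : P, x * x ∈ Z := sq_mem_center hK h2 hne hcard
  have hZsq : ∀ z ∈ Z, z * z = 1 := fun z hz => center_sq hK h2 hne hz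
  have hinv : ∀ g : P, g * g = 1 → g ∈ Z := fun g hg => Subgroup.mem_center_iff.2 (hK.central g hg)
  have hcz : ∀ z ∈ Z, ∀ g : P, g * z = z * g := fun z hz g => Subgroup.mem_center_iff.1 hz g
  -- the field
  obtain ⟨n, hn⟩ := (h2.to_subgroup Z).exists_card_eq
  have hn0 : n ≠ 0 := by
    rintro rfl
    haveI : Subsingleton P := (Nat.card_eq_one_iff_unique.1 (by rw [hcard, hn]; norm_num)).1
    obtain ⟨x, y, hxy⟩ := hne
    exact hxy (Subsingleton.elim _ _)
  let F := GaloisField 2 n
  letI : Fintype F := Fintype.ofFinite F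
  have hF : Fintype.card F = Nat.card Z := by
    rw [← Nat.card_eq_fintype_card, hn]; exact GaloisField.card 2 n hn0
  letI : CommGroup K := { (inferInstance : Group K) with mul_comm := hK.comm }
  -- the model of the centre
  letI : CommGroup Z :=
    { (inferInstance : Group Z) with mul_comm := fun a b => Subtype.ext (hcz _ b.2 a.1) }
  let actZ : K → Additive Z →+ Additive Z := fun k =>
    MonoidHom.toAdditive (((k : MulAut P).toMonoidHom.comp Z.subtype).codRestrict Z
      fun z => map_center _ z.2)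
  have hactZ : ∀ (k : K) (z : Additive Z), ((Additive.toMul (actZ k z) : Z) : P) =
      (k : MulAut P) ((Additive.toMul z : Z) : P) := fun k z => rfl
  have hextZ : ∀ a b : Additive Z,
      ((Additive.toMul a : Z) : P) = ((Additive.toMul b : Z) : P) → a = b := fun a b h => Subtype.ext h
  have hnz : ∀ a : Additive Z, a ≠ 0 → ((Additive.toMul a : Z) : P) ≠ 1 :=
    fun a ha h => ha (hextZ _ _ h)
  obtain ⟨eZ, mu, hmu0, -, hmu⟩ := FieldModel.exists_model (K := ↥K) F
    ((Nat.card_congr Additive.toMul).trans hF.symm) actZ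
    (fun k l z => hextZ _ _ rfl)
    (fun k z hz h => hnz z hz ((k : MulAut P).map_eq_one_iff.1 (by rw [← hactZ, h]; rfl)))
    (fun a b ha hb => by
      obtain ⟨k, hk, hku⟩ := hK.regular _ _ (hnz a ha) (hZsq _ (Additive.toMul a : Z).2)
        (hnz b hb) (hZsq _ (Additive.toMul b : Z).2)
      exact ⟨k, hextZ _ _ hk, fun l hl => hku l (by show (l : MulAut P) _ = _; rw [← hactZ, hl])⟩)
  -- squares on the quotient
  let sqZ : P → Z := fun x => ⟨x * x, hsq x⟩
  have hsqZ : ∀ (x : P) (z : Z), sqZ (x * z.1) = sqZ x := fun x z => Subtype.ext (by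
    show x * z.1 * (x * z.1) = x * x
    rw [show x * z.1 * (x * z.1) = x * (z.1 * x) * z.1 by group, ← hcz _ z.2 x,
      show x * (x * z.1) * z.1 = x * x * (z.1 * z.1) by group, hZsq _ z.2, mul_one])
  obtain ⟨g₀, hg₀⟩ : ∃ g : P, g * g ≠ 1 := by
    by_contra! h
    obtain ⟨x, y, hxy⟩ := hne
    exact hxy ((hcz _ (hinv x (h x)) y).symm)
  let S : P ⧸ Z → Z := fun u => Quotient.liftOn' u sqZ fun x y h => by
    rw [QuotientGroup.leftRel_apply] at h
    rw [show y = x * (⟨x⁻¹ * y, h⟩ : Z).1 from (mul_inv_cancel_left x y).symm, hsqZ]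
  have hSmk : ∀ x : P, S (x : P ⧸ Z) = sqZ x := fun x => rfl
  have hSsurj : Function.Surjective S := by
    rintro ⟨z, hz⟩
    by_cases hz1 : z = 1
    · exact ⟨((1 : P) : P ⧸ Z), Subtype.ext (by show (1 : P) * 1 = z; rw [hz1, one_mul])⟩
    obtain ⟨k, hk, -⟩ := hK.regular _ _ hg₀ (hZsq _ (hsq g₀)) hz1 (hZsq z hz)
    exact ⟨(((k : MulAut P) g₀ : P) : P ⧸ Z),
      Subtype.ext (by show _ * _ = _; rw [← map_mul]; exact hk)⟩
  have hSbij : Function.Bijective S := by
    refine (Nat.bijective_iff_surjective_and_card S).2 ⟨hSsurj, ?_⟩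
    have h := Subgroup.card_eq_card_quotient_mul_card_subgroup Z
    rw [hcard, pow_two] at h
    exact (Nat.eq_of_mul_eq_mul_right Nat.card_pos h).symm
  -- the model of the quotient
  letI : CommGroup (P ⧸ Z) :=
    { (inferInstance : Group (P ⧸ Z)) with
      mul_comm := fun u v => by
        induction u using QuotientGroup.induction_on with
        | H x =>
          induction v using QuotientGroup.induction_on with
          | H y =>
            have key : ∀ w : P, (w : P ⧸ Z) * w = 1 := fun w => by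
              rw [← QuotientGroup.mk_mul]; exact (QuotientGroup.eq_one_iff _).2 (hsq w)
            have hi : ∀ w : P, (w : P ⧸ Z)⁻¹ = w := fun w => inv_eq_of_mul_eq_one_left (key w)
            calc (x : P ⧸ Z) * y = ((x * y : P) : P ⧸ Z)⁻¹ := (hi (x * y)).symm
              _ = (y : P ⧸ Z)⁻¹ * (x : P ⧸ Z)⁻¹ := by rw [QuotientGroup.mk_mul, mul_inv_rev]
              _ = y * x := by rw [hi, hi] }
  let actV : K → Additive (P ⧸ Z) →+ Additive (P ⧸ Z) := fun k =>
    MonoidHom.toAdditive (QuotientGroup.map Z Z (k : MulAut P).toMonoidHom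
      fun z hz => map_center _ hz)
  let mkV : P → Additive (P ⧸ Z) := fun x => Additive.ofMul (x : P ⧸ Z)
  have hmkV : Function.Surjective mkV := fun u => by
    obtain ⟨x, hx⟩ := QuotientGroup.mk_surjective (Additive.toMul u)
    exact ⟨x, hx⟩
  have hactV : ∀ (k : K) (x : P), actV k (mkV x) = mkV ((k : MulAut P) x) := fun k x => rfl
  have hV0 : ∀ x : P, mkV x = 0 ↔ x ∈ Z := fun x => QuotientGroup.eq_one_iff x
  have hVsq : ∀ x y : P, mkV x = mkV y ↔ x * x = y * y := fun x y =>
    ⟨fun h => congrArg Subtype.val (congrArg S h),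
      fun h => hSbij.1 (show S (x : P ⧸ Z) = S (y : P ⧸ Z) from Subtype.ext h)⟩
  have hVne : ∀ x : P, mkV x ≠ 0 → x * x ≠ 1 := fun x hx h => hx ((hV0 x).2 (hinv x h))
  obtain ⟨eV, lam, hlam0, hlams, hlam⟩ := FieldModel.exists_model (K := ↥K) F
    (show Nat.card (Additive (P ⧸ Z)) = Fintype.card F by
      rw [hF]; exact (Nat.card_congr Additive.toMul).trans (Nat.card_eq_of_bijective S hSbij))
    actV
    (fun k l u => by
      obtain ⟨x, rfl⟩ := hmkV u
      rw [hactV, hactV, hactV, coe_mul_apply])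
    (fun k u hu h => by
      obtain ⟨x, rfl⟩ := hmkV u
      rw [hactV, hV0] at h
      refine hu ((hV0 x).2 ?_)
      simpa using map_center (k : MulAut P)⁻¹ h)
    (fun u w hu hw => by
      obtain ⟨x, rfl⟩ := hmkV u
      obtain ⟨y, rfl⟩ := hmkV w
      obtain ⟨k, hk, hku⟩ := hK.regular _ _ (hVne x hu) (hZsq _ (hsq x)) (hVne y hw)
        (hZsq _ (hsq y))
      refine ⟨k, ?_, fun l hl => hku l ?_⟩
      · show actV k (mkV x) = mkV y
        rw [hactV, hVsq, ← map_mul]
        exact hk
      · have hl' : actV l (mkV x) = mkV y := hl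
        rw [hactV, hVsq, ← map_mul] at hl'
        exact hl')
  -- the squaring map in coordinates
  let π : P → F := fun x => eV (mkV x)
  have hπmul : ∀ x y, π (x * y) = π x + π y := fun x y => by
    show eV (mkV (x * y)) = eV (mkV x) + eV (mkV y)
    rw [← map_add]; rfl
  have hπsurj : Function.Surjective π := eV.surjective.comp hmkV
  let s : P → F := fun x => eZ (Additive.ofMul (sqZ x))
  have hZadd : ∀ a b : Z,
      eZ (Additive.ofMul (a * b)) = eZ (Additive.ofMul a) + eZ (Additive.ofMul b) :=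
    fun a b => map_add eZ _ _
  have hcomm : ∀ x y : P, x⁻¹ * y * x * y⁻¹ ∈ Z := fun x y => by
    rw [show x⁻¹ * y * x * y⁻¹ = (x * x)⁻¹ * ((x * y) * (x * y)) * (y * y)⁻¹ by group]
    exact mul_mem (mul_mem (inv_mem (hsq x)) (hsq _)) (inv_mem (hsq y))
  let C : P → P → Z := fun x y => ⟨x⁻¹ * y * x * y⁻¹, hcomm x y⟩
  have hsC : ∀ x y, s (x * y) = s x + s y + eZ (Additive.ofMul (C x y)) := fun x y => by
    show eZ (Additive.ofMul (sqZ (x * y))) =
      eZ (Additive.ofMul (sqZ x)) + eZ (Additive.ofMul (sqZ y)) + _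
    rw [add_right_comm, ← hZadd, ← hZadd]
    refine congrArg (fun a => eZ (Additive.ofMul a)) (Subtype.ext ?_)
    show x * y * (x * y) = x * x * (x⁻¹ * y * x * y⁻¹) * (y * y)
    group
  have hCadd : ∀ x y z, C x (y * z) = C x y * C x z := fun x y z => Subtype.ext (by
    show x⁻¹ * (y * z) * x * (y * z)⁻¹ = (x⁻¹ * y * x * y⁻¹) * (x⁻¹ * z * x * z⁻¹)
    calc x⁻¹ * (y * z) * x * (y * z)⁻¹ = x⁻¹ * y * x * ((x⁻¹ * z * x * z⁻¹) * y⁻¹) := by group
      _ = x⁻¹ * y * x * (y⁻¹ * (x⁻¹ * z * x * z⁻¹)) := by rw [hcz _ (hcomm x z) y⁻¹]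
      _ = (x⁻¹ * y * x * y⁻¹) * (x⁻¹ * z * x * z⁻¹) := by group)
  have hs_eq : ∀ x y, π x = π y → s x = s y := fun x y h => by
    have h' := (hVsq x y).1 (eV.injective h)
    show eZ (Additive.ofMul (sqZ x)) = eZ (Additive.ofMul (sqZ y))
    rw [show sqZ x = sqZ y from Subtype.ext h']
  let q : F → F := fun a => s (Function.surjInv hπsurj a)
  have hq : ∀ x, q (π x) = s x := fun x => hs_eq _ _ (Function.surjInv_eq hπsurj _)
  have hcub : ∀ a b c : F,
      q (a + b + c) + q (a + b) + q (a + c) + q (b + c) + q a + q b + q c = 0 := by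
    intro a b c
    obtain ⟨x, rfl⟩ := hπsurj a
    obtain ⟨y, rfl⟩ := hπsurj b
    obtain ⟨z, rfl⟩ := hπsurj c
    simp only [← hπmul, hq]
    rw [show s (x * y * z) = s (x * (y * z)) by rw [mul_assoc], hsC x (y * z), hCadd, hZadd,
      hsC y z, hsC x y, hsC x z]
    linear_combination (2 * (s x + s y + s z) + eZ (Additive.ofMul (C y z)) +
      eZ (Additive.ofMul (C x y)) + eZ (Additive.ofMul (C x z))) * (CharTwo.two_eq_zero (R := F))
  have hqK : ∀ k a, q (lam k * a) = mu k * q a := fun k a => by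
    obtain ⟨x, rfl⟩ := hπsurj a
    show q (lam k * eV (mkV x)) = _
    rw [← hlam, hactV, show eV (mkV ((k : MulAut P) x)) = π ((k : MulAut P) x) from rfl, hq, hq]
    show eZ (Additive.ofMul (sqZ ((k : MulAut P) x))) = mu k * eZ (Additive.ofMul (sqZ x))
    rw [← hmu]
    exact congrArg eZ (hextZ _ _ (map_mul (k : MulAut P) x x).symm)
  have hs0 : ∀ x, s x = 0 ↔ π x = 0 := fun x => by
    constructor
    · intro h
      have h1 : x * x = 1 := congrArg (fun a : Additive Z => ((Additive.toMul a : Z) : P))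
        (eZ.map_eq_zero_iff.1 h)
      show eV (mkV x) = 0
      rw [(hV0 x).2 (hinv x h1), map_zero]
    · intro h
      have h1 := (hV0 x).1 (eV.map_eq_zero_iff.1 h)
      show eZ (Additive.ofMul (sqZ x)) = 0
      rw [show sqZ x = 1 from Subtype.ext (hZsq x h1)]
      exact map_zero eZ
  have hq0 : ∀ a, q a = 0 ↔ a = 0 := fun a => by
    obtain ⟨x, rfl⟩ := hπsurj a
    rw [hq, hs0]
  have hqinj : Function.Injective q := by
    intro a b h
    obtain ⟨x, rfl⟩ := hπsurj a
    obtain ⟨y, rfl⟩ := hπsurj b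
    rw [hq, hq] at h
    have := congrArg (fun c : Additive Z => ((Additive.toMul c : Z) : P)) (eZ.injective h)
    show eV (mkV x) = eV (mkV y)
    rw [(hVsq x y).2 this]
  -- it is a product of two automorphisms
  set c₁ := q 1 with hc₁
  have hc0 : c₁ ≠ 0 := fun h => one_ne_zero ((hq0 1).1 h)
  have hqmul : ∀ a b, q (a * b) * c₁ = q a * q b := by
    intro a b
    by_cases ha : a = 0
    · subst ha; simp [(hq0 0).2 rfl]
    obtain ⟨k, rfl⟩ := hlams a ha
    have h1 := hqK k 1
    rw [mul_one] at h1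
    rw [hqK, h1]
    ring
  let χ : F →* F :=
    { toFun := fun a => q a / c₁
      map_one' := div_self hc0
      map_mul' := fun a b => by
        show q (a * b) / c₁ = q a / c₁ * (q b / c₁)
        rw [div_mul_div_comm, div_eq_div_iff hc0 (mul_ne_zero hc0 hc0)]
        linear_combination c₁ * hqmul a b }
  obtain ⟨S', cf, hcf⟩ := FieldMaps.exists_quadratic q hcub
  let pr : (F ≃+* F) × (F ≃+* F) → (F →* F) := fun p =>
    (p.1 : F →+* F).toMonoidHom * (p.2 : F →+* F).toMonoidHom
  obtain ⟨p, -, hp⟩ : ∃ p ∈ S', pr p = χ := by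
    by_contra! hnot
    refine (linearIndependent_monoidHom F F).notMem_span_image
      (s := pr '' (S' : Set _)) (x := χ) ?_ ?_
    · rintro ⟨p, hp, h⟩; exact hnot p hp h
    · have hχ : ((χ : F →* F) : F → F) = ∑ p ∈ S', (cf p / c₁) • ((pr p : F →* F) : F → F) := by
        funext a
        simp only [Finset.sum_apply, Pi.smul_apply, smul_eq_mul]
        show q a / c₁ = _
        rw [hcf, Finset.sum_div]
        exact Finset.sum_congr rfl fun p _ => by
          show cf p * (p.1 a * p.2 a) / c₁ = cf p / c₁ * (p.1 a * p.2 a); ring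
      rw [hχ]
      exact Submodule.sum_mem _ fun p hp => Submodule.smul_mem _ _
        (Submodule.subset_span ⟨pr p, ⟨p, hp, rfl⟩, rfl⟩)
  obtain ⟨σ, τ⟩ := p
  have hqform : ∀ a, q a = c₁ * (σ a * τ a) := fun a => by
    have h : σ a * τ a = q a / c₁ := DFunLike.congr_fun hp a
    rw [h, mul_div_cancel₀ _ hc0]
  set φ : F ≃+* F := τ.trans σ.symm with hφdef
  have hφ : ∀ a, σ (φ a * a) = σ a * τ a := fun a => by
    rw [map_mul, hφdef, RingEquiv.trans_apply, RingEquiv.apply_symm_apply, mul_comm]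
  -- the extension
  let inclP : F → P := fun a => ((Additive.toMul (eZ.symm (c₁ * σ a)) : Z) : P)
  let E : SquareExtension.Ext P (fun a : F => φ a * a) :=
    { proj := π
      incl := inclP
      proj_mul := hπmul
      proj_surj := hπsurj
      incl_add := fun a b => by
        show ((Additive.toMul (eZ.symm (c₁ * σ (a + b))) : Z) : P) = _
        rw [map_add, mul_add, map_add]; rfl
      incl_inj := fun a b h =>
        σ.injective (mul_left_cancel₀ hc0 (eZ.symm.injective (hextZ _ _ h)))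
      proj_eq_zero := fun x => by
        constructor
        · intro h
          have hx := (hV0 x).1 (eV.map_eq_zero_iff.1 h)
          refine ⟨σ.symm (c₁⁻¹ * eZ (Additive.ofMul ⟨x, hx⟩)), ?_⟩
          show ((Additive.toMul (eZ.symm _) : Z) : P) = x
          rw [RingEquiv.apply_symm_apply, mul_inv_cancel_left₀ hc0, AddEquiv.symm_apply_apply]
          rfl
        · rintro ⟨a, rfl⟩
          show eV (mkV (inclP a)) = 0
          rw [(hV0 _).2 (Additive.toMul (eZ.symm (c₁ * σ a)) : Z).2, map_zero]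
      central := fun a x => hcz _ (Additive.toMul (eZ.symm (c₁ * σ a)) : Z).2 x
      sq := fun x => by
        show x * x = ((Additive.toMul (eZ.symm (c₁ * σ (φ (π x) * π x))) : Z) : P)
        rw [hφ, ← hqform, hq]
        show x * x = ((Additive.toMul (eZ.symm (eZ (Additive.ofMul (sqZ x)))) : Z) : P)
        rw [AddEquiv.symm_apply_apply]
        rfl }
  obtain ⟨f, hfp, hfi⟩ := SquareExtension.exists_mulEquiv E (modelExt φ)
  have hlam1 : ∀ k l : K, lam (k * l) = lam k * lam l := fun k l => by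
    obtain ⟨x, hx⟩ := hπsurj 1
    have h1 : ∀ (k : K) y, π ((k : MulAut P) y) = lam k * π y := fun k y => by
      show eV (mkV ((k : MulAut P) y)) = lam k * eV (mkV y)
      rw [← hactV, hlam]
    have h2 := h1 (k * l) x
    rw [coe_mul_apply, h1, h1, hx, mul_one, mul_one] at h2
    exact h2.symm
  have hmu1 : ∀ k : K, mu k = σ (φ (lam k) * lam k) := fun k => by
    have h1 := hqK k 1
    rw [mul_one, hqform (lam k), ← hφ] at h1
    exact mul_left_cancel₀ hc0 (by rw [h1, mul_comm])
  refine ⟨F, inferInstance, inferInstance, inferInstance, φ, f, lam, hF, ?_, ?_, hlam0, hlams, hlam1,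
    ?_, ?_⟩
  rotate_left 2
  · intro k x y z hxy
    have hx : π x = y := by
      have h1 := hfp x
      change ((f x : GL (Fin 3) F) : Matrix (Fin 3) (Fin 3) F) 1 0 = π x at h1
      rw [hxy] at h1
      exact h1.symm
    obtain ⟨y', w, hw⟩ := (mem_iff φ).1 (f ((k : MulAut P) x)).2
    refine ⟨w, ?_⟩
    have h1 := hfp ((k : MulAut P) x)
    change ((f ((k : MulAut P) x) : GL (Fin 3) F) : Matrix (Fin 3) (Fin 3) F) 1 0 = _ at h1
    rw [← hw] at h1
    have h2 : y' = lam k * y := by
      rw [← hx]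
      exact h1.trans (by
        show eV (mkV ((k : MulAut P) x)) = lam k * eV (mkV x)
        rw [← hactV, hlam])
    rw [← hw, h2]
  · intro k x z hxz
    have hx : x = inclP z := f.injective (Subtype.ext (hxz.trans (congrArg Subtype.val (hfi z)).symm))
    have hkx : (k : MulAut P) x = inclP (φ (lam k) * lam k * z) := by
      rw [hx]
      show (k : MulAut P) ((Additive.toMul (eZ.symm (c₁ * σ z)) : Z) : P) =
        ((Additive.toMul (eZ.symm (c₁ * σ (φ (lam k) * lam k * z))) : Z) : P)
      rw [← hactZ]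
      refine congrArg (fun a : Additive Z => ((Additive.toMul a : Z) : P)) ?_
      apply eZ.injective
      rw [hmu, AddEquiv.apply_symm_apply, AddEquiv.apply_symm_apply, map_mul σ, ← hmu1]
      ring
    rw [hkx]
    exact congrArg Subtype.val (hfi _)
  · intro hrefl
    obtain ⟨x, y, hxy⟩ := hne
    have hadd : ∀ a b : F, q (a + b) = q a + q b := fun a b => by
      rw [hqform, hqform, hqform, ← hφ, ← hφ, ← hφ, hrefl]
      simp only [RingEquiv.refl_apply]
      rw [CharTwo.add_mul_self]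
      · rw [map_add, mul_add]
    have h := hsC x y
    rw [← hq (x * y), hπmul, hadd, hq, hq, left_eq_add] at h
    have h1 : x⁻¹ * y * x * y⁻¹ = 1 := congrArg (fun a : Additive Z => ((Additive.toMul a : Z) : P))
      (eZ.map_eq_zero_iff.1 h)
    exact hxy (by
      rw [mul_inv_eq_one, mul_assoc, inv_mul_eq_iff_eq_mul] at h1
      exact h1.symm)
  · rw [← Nat.not_even_iff_odd]
    intro hev
    obtain ⟨x, hx1, -, hx⟩ := exists_inverted φ hev
    refine hx1 (hqinj ?_)
    rw [hqform x, hqform 1, ← hφ x, ← hφ 1, hx, map_one φ, one_mul]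

theorem type_a (hP : Cfsg.IsSuzukiTwoGroup P)
    (hcard : Nat.card P = Nat.card (Subgroup.center P) ^ 2) :
    ∃ (F : Type) (_ : Field F) (_ : Fintype F) (φ : F ≃+* F),
      Fintype.card F = Nat.card (Subgroup.center P) ∧ φ ≠ RingEquiv.refl F ∧ Odd (orderOf φ) ∧
        Nonempty (P ≃* Cfsg.suzukiTypeA F (φ : F →+* F)) := by
  obtain ⟨K, hK⟩ := regular_of_isSuzuki hP
  obtain ⟨F, iF, iT, _, φ, f, -, hF, hφ, hodd, -⟩ := type_a_data hK hP.2.1 hP.2.2.1 hcard
  exact ⟨F, iF, iT, φ, hF, hφ, hodd, ⟨f⟩⟩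

end Cfsg.Agent.Involutions.Suzuki.TypeA
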