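import Cfsg.Agent.Lib.Involutions.Suzuki.Order
import Cfsg.Agent.Lib.Involutions.Suzuki.Center
import Cfsg.Agent.Lib.CharTheory.Zassenhaus.Exists
import Cfsg.Agent.S0738
import Cfsg.Agent.S0741
import Cfsg.Agent.S0345
import Cfsg.Agent.S1139

/-!
# Recognition of the Suzuki groups among simple Zassenhaus groups
-/

set_option autoImplicit false
set_option linter.style.haveILetI false
set_option linter.unusedSectionVars false

namespace Cfsg.Agent.Involutions.Suzuki.Zass

open Cfsg.Agent.CharTheory.Zassenhaus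
open Involutions.Basic

universe u v

variable {G : Type u} {Ω : Type v} [Group G] [MulAction G Ω] [Fintype Ω] {a b : Ω}

/-- A subgroup of a point stabiliser that is regular on the other points gives a configuration. -/
theorem config_of_regular (hZ : Cfsg.IsZassenhausGroup G Ω) (hab : a ≠ b) (U : Subgroup G)
    (hle : U ≤ MulAction.stabilizer G a)
    (hreg : ∀ y z : Ω, y ≠ a → z ≠ a → ∃! u : U, (u : G) • y = z) : Config a b U where
  zass := hZ
  ne := hab
  le := hle
  card := by
    classical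
    have hne : ∀ u : U, (u : G) • b ≠ a := fun u e =>
      hab (MulAction.injective (u : G) ((hle u.2 : (u : G) • a = a).trans e.symm))
    let f : U → {c : Ω // c ≠ a} := fun u => ⟨(u : G) • b, hne u⟩
    have hf : Function.Bijective f := by
      refine ⟨fun u v e => ?_, fun c => ?_⟩
      · exact (hreg b ((v : G) • b) hab.symm (hne v)).unique (congrArg Subtype.val e) rfl
      · obtain ⟨u, hu, -⟩ := hreg b c hab.symm c.2
        exact ⟨u, Subtype.ext hu⟩
    rw [Nat.card_congr (Equiv.ofBijective f hf), Nat.card_eq_fintype_card, Fintype.card_subtype_compl,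
      Fintype.card_subtype_eq]
    have : 0 < Fintype.card Ω := Fintype.card_pos_iff.2 ⟨a⟩
    omega
  fix u hu hu1 c hc := by
    by_contra hca
    exact hu1 (congrArg Subtype.val
      ((hreg c c hca hca).unique (y₁ := ⟨u, hu⟩) (y₂ := 1) hc (one_smul G c)))

theorem regular_kernel [Finite G] {H : Subgroup G} (hc : Config a b H) :
    ∀ y z : Ω, y ≠ a → z ≠ a → ∃! u : H, (u : G) • y = z := by
  intro y z hy hz
  obtain ⟨u, hu, rfl⟩ := exists_mem_smul hc hy
  obtain ⟨v, hv, rfl⟩ := exists_mem_smul hc hz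
  refine ⟨⟨v * u⁻¹, mul_mem hv (inv_mem hu)⟩, by simp [mul_smul], fun w hw => ?_⟩
  have h := eq_of_smul_eq_a hc (mul_mem w.2 hu) hv (by rw [mul_smul]; exact hw)
  exact Subtype.ext (eq_mul_inv_of_mul_eq h)

theorem normal_kernel [Finite G] {H : Subgroup G} (hc : Config a b H) :
    (H.subgroupOf (MulAction.stabilizer G a)).Normal :=
  ⟨fun _ hu g => conj_mem hc g.2 hu⟩

variable [Fintype G] [IsSimpleGroup G] {H : Subgroup G}

/-- A non-abelian kernel forces two-point stabilisers of odd order. -/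
theorem hyp_of_nonab (hc : Config a b H) (h2 : IsPGroup 2 H) (hna : ∃ x y : H, x * y ≠ y * x) :
    Hyp a b H := by
  refine ⟨hc, ?_, h2, hna⟩
  by_contra ho
  have he := Nat.not_odd_iff_even.1 ho
  have hcomm := (S0738.result hc.zass hc.ne (S0741.result hc.zass hc.ne he) H hc.le (normal_kernel hc)
    (regular_kernel hc)).1
  obtain ⟨x, y, hxy⟩ := hna
  exact hxy (hcomm.is_comm.comm x y)

theorem isSuzuki (hh : Hyp a b H) : Cfsg.IsSuzuki G := by
  obtain ⟨n, ⟨m, rfl⟩, hn, hH, hd, -⟩ := main hh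
  refine ⟨inferInstance, m, by omega, ?_⟩
  rw [card_group' hh.cfg, hH, show Nat.card (two (G := G) a b) = 2 ^ (2 * m + 1) - 1 from Nat.eq_sub_of_add_eq hd]
  ring

/-- The kernel is a Suzuki 2-group of type A. -/
theorem type_A (hh : Hyp a b H) {n : ℕ} (hV : Nat.card (V hh) = 2 ^ n)
    (hH : Nat.card H = (2 ^ n) ^ 2) :
    ∃ (F : Type) (_ : Field F) (_ : Fintype F) (φ : F ≃+* F), Fintype.card F = 2 ^ n ∧
      Nonempty (H ≃* Cfsg.suzukiTypeA F (φ : F →+* F)) := by
  have hreg := regular hh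
  have hcen : ∀ x : H, x ∈ Subgroup.center H ↔ (x : G) ∈ V hh := fun x =>
    ⟨fun hx => ⟨x.2, congrArg Subtype.val (center_sq hreg hh.pgroup hh.nonab hx)⟩,
      fun hx => Subgroup.mem_center_iff.2 fun g => Subtype.ext (inv_central hh x.2 hx.2 g.2).symm⟩
  have hZc : Nat.card (Subgroup.center H) = 2 ^ n := by
    rw [← hV]
    exact Nat.card_congr
      { toFun := fun x => ⟨((x : H) : G), (hcen _).1 x.2⟩
        invFun := fun x => ⟨⟨x.1, x.2.1⟩, (hcen _).2 x.2⟩
        left_inv := fun x => rfl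
        right_inv := fun x => rfl }
  haveI : IsCyclic (two (G := G) a b) := (S0345.result hh.cfg.zass hh.cfg.ne).1
  have hP : Cfsg.IsSuzukiTwoGroup H := by
    refine ⟨inferInstance, hh.pgroup, hh.nonab, ?_, (act hh).range,
      isCyclic_of_surjective _ (act hh).rangeRestrict_surjective, hreg.regular⟩
    obtain ⟨z, hz, hz1⟩ := exists_inv_two hh
    obtain ⟨k, hk, hk1⟩ := (Subgroup.bot_or_exists_ne_one _).resolve_left
      (Cfsg.Agent.CharactersDeep.Zassenhaus.two_point_ne_bot hh.cfg.zass hh.cfg.ne)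
    have hw := conj_V hh hk.1 hz
    refine ⟨⟨z, hz.1⟩, ⟨_, hw.1⟩, fun e => hz1 (conj_eq_self hh hk hk1 hz.1 ?_),
      fun e => hz1 (congrArg Subtype.val e), Subtype.ext hz.2, fun e => hz1 ?_, Subtype.ext hw.2⟩
    · exact (congrArg Subtype.val e).symm
    · simpa using congrArg Subtype.val e
  obtain ⟨F, i1, i2, φ, hF, -, -, hiso⟩ := S1139.result hP (by rw [hZc, hH])
  exact ⟨F, i1, i2, φ, hF.trans hZc, hiso⟩

end Cfsg.Agent.Involutions.Suzuki.Zass
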