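import Cfsg.Agent.Lib.Involutions.Suzuki.Center
import Cfsg.Agent.Lib.Involutions.Suzuki.FieldMaps
import Cfsg.Agent.Lib.Involutions.Suzuki.FieldModel
import Cfsg.Agent.Lib.Cores.Nilpotent

/-!
# Exponent four

A non-abelian 2-group with a commutative group of automorphisms which is regular on the
involutions and fixed point free on the group has exponent four.
-/

set_option autoImplicit false
set_option linter.unusedSectionVars false
set_option linter.style.haveILetI false

namespace Cfsg.Agent.Involutions.Suzuki.Exponent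

open FieldMaps
open Involutions.Basic

section FieldLemmas

variable {F : Type*} [Field F] [Fintype F] [CharP F 2]

/-- Two scalings `λ/σ(λ)` conjugate under an automorphism come from the same automorphism. -/
theorem eq_of_conjugate {ρ σ τ : F ≃+* F} (hσ : σ ≠ RingEquiv.refl F) (hτ : τ ≠ RingEquiv.refl F)
    (h : ∀ x : F, ρ x * τ x = x * ρ (σ x)) : σ = τ := by
  classical
  have htwo : ∀ x : F, x + x = 0 := CharTwo.add_self_eq_zero
  have hpol : ∀ x y : F, ρ x * τ y + τ x * ρ y = x * ρ (σ y) + ρ (σ x) * y := by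
    intro x y
    have e := h (x + y)
    simp only [map_add] at e
    linear_combination e - h x - h y
  let θ : F ≃+* F := σ.trans ρ
  have hθ : ∀ x, θ x = ρ (σ x) := fun _ => rfl
  have hcoef : ∀ x : F, (Pi.single τ (ρ x) + Pi.single ρ (τ x) : (F ≃+* F) → F) =
      Pi.single θ x + Pi.single (RingEquiv.refl F) (ρ (σ x)) := by
    intro x
    refine combine_injective (AddMonoidHom.ext fun y => ?_)
    rw [combine_apply, combine_apply]
    simp only [Pi.add_apply, add_mul, Finset.sum_add_distrib]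
    rw [Finset.sum_eq_single τ, Finset.sum_eq_single ρ, Finset.sum_eq_single θ,
      Finset.sum_eq_single (RingEquiv.refl F)]
    · simpa [hθ] using hpol x y
    all_goals intros; simp_all [Pi.single_eq_of_ne]
  by_contra hne
  have e := congrFun (hcoef 1) τ
  by_cases hρτ : ρ = τ
  · subst hρτ
    by_cases hθ1 : θ = RingEquiv.refl F
    · refine hτ (RingEquiv.ext fun x => ?_)
      have e1 := h x
      rw [← hθ, hθ1, RingEquiv.refl_apply] at e1
      have e2 : (ρ x + x) * (ρ x + x) = 0 := by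
        linear_combination e1 + htwo (x * x) + ρ x * htwo x
      exact CharTwo.add_eq_zero.1 (mul_self_eq_zero.1 e2)
    · have hθρ : θ ≠ ρ := fun e' => hσ (RingEquiv.ext fun x => ρ.injective (RingEquiv.congr_fun e' x))
      have e3 := congrFun (hcoef 1) θ
      simp [Pi.single_eq_of_ne, hθρ, hθ1] at e3
  · by_cases hθτ : θ = τ
    · subst hθτ
      simp only [map_one, Pi.add_apply, Pi.single_eq_same, Pi.single_eq_of_ne (Ne.symm hρτ), add_zero,
        Pi.single_eq_of_ne hτ] at e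
      refine hne (RingEquiv.ext fun x => ?_)
      have e5 := congrFun (hcoef x) θ
      simp only [Pi.add_apply, Pi.single_eq_same, Pi.single_eq_of_ne (Ne.symm hρτ), add_zero,
        Pi.single_eq_of_ne hτ] at e5
      rw [hθ]
      have hid : ∀ z : F, ρ z = z := fun z => by
        have e6 := congrFun (hcoef z) (σ.trans ρ)
        simp only [θ, Pi.add_apply, Pi.single_eq_same, Pi.single_eq_of_ne (Ne.symm hρτ), add_zero,
          Pi.single_eq_of_ne hτ] at e6
        exact e6
      exact (hid _).symm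
    · simp [Pi.single_eq_of_ne, Ne.symm hρτ, Ne.symm hθτ, hτ] at e

end FieldLemmas

variable {P : Type*} [Group P] [Finite P] {K : Subgroup (MulAut P)}

/-- The non-trivial members of `K` fix no non-trivial element. -/
def Fpf (K : Subgroup (MulAut P)) : Prop :=
  ∀ k : K, k ≠ 1 → ∀ x : P, (k : MulAut P) x = x → x = 1

theorem exists_inv_mul_apply (hf : Fpf K) {k : K} (hk : k ≠ 1) (x : P) :
    ∃ y : P, y⁻¹ * (k : MulAut P) y = x := by
  refine ((Finite.injective_iff_surjective (f := fun y : P => y⁻¹ * (k : MulAut P) y)).1 ?_) x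
  intro y z h
  have h' : y⁻¹ * (k : MulAut P) y = z⁻¹ * (k : MulAut P) z := h
  have e : (k : MulAut P) (z * y⁻¹) = z * y⁻¹ := by
    rw [map_mul, map_inv, show (k : MulAut P) z = z * (y⁻¹ * (k : MulAut P) y) by rw [h']; group]
    group
  exact (mul_inv_eq_one.1 (hf k hk _ e)).symm

/-- An invariant additive function is zero. -/
theorem additive_eq_zero (hf : Fpf K) {k : K} (hk : k ≠ 1) {R : Type*} [AddGroup R] (f : P → R)
    (hadd : ∀ x y, f (x * y) = f x + f y) (hinv : ∀ x, f ((k : MulAut P) x) = f x) (x : P) :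
    f x = 0 := by
  obtain ⟨y, rfl⟩ := exists_inv_mul_apply hf hk x
  rw [hadd, hinv]
  have h1 : f 1 = 0 := left_eq_add.1 (by rw [← hadd, one_mul])
  rw [← hadd, inv_mul_cancel, h1]

/-- The subgroup of involutions. -/
def invols (hK : Regular K) : Subgroup P where
  carrier := {x | x * x = 1}
  one_mem' := one_mul 1
  mul_mem' := fun hx hy => sq_mul hK hx hy
  inv_mem' := fun {x} hx => by
    show x⁻¹ * x⁻¹ = 1
    rw [← mul_inv_rev, hx, inv_one]

theorem mem_invols {hK : Regular K} {x : P} : x ∈ invols hK ↔ x * x = 1 := Iff.rfl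

theorem invols_normal (hK : Regular K) : (invols hK).Normal :=
  ⟨fun x hx g => by rw [hK.central x hx g, mul_inv_cancel_right]; exact hx⟩

/-- The subgroup generated by the squares. -/
def squares (P : Type*) [Group P] : Subgroup P := Subgroup.closure (Set.range fun x : P => x * x)

omit [Finite P] in
theorem sq_mem_squares (x : P) : x * x ∈ squares P := Subgroup.subset_closure ⟨x, rfl⟩

omit [Finite P] in
theorem squares_map (k : MulAut P) {x : P} (hx : x ∈ squares P) : k x ∈ squares P := by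
  refine Subgroup.closure_induction (fun y hy => ?_) (by simp) (fun a b _ _ ha hb => ?_)
    (fun a _ ha => ?_) hx
  · obtain ⟨z, rfl⟩ := hy
    exact Subgroup.subset_closure ⟨k z, (map_mul k z z).symm⟩
  · rw [map_mul]; exact mul_mem ha hb
  · rw [map_inv]; exact inv_mem ha

omit [Finite P] in
theorem squares_normal : (squares P).Normal :=
  ⟨fun x hx g => squares_map (MulAut.conj g) hx⟩

omit [Finite P] in
theorem comm_mem_squares (x y : P) : x * y * x⁻¹ * y⁻¹ ∈ squares P := by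
  rw [show x * y * x⁻¹ * y⁻¹ = (x * y * (x * y)) * (y⁻¹ * (x⁻¹ * x⁻¹) * y⁻¹⁻¹) * (y⁻¹ * y⁻¹) by group]
  exact mul_mem (mul_mem (sq_mem_squares _) (squares_normal.conj_mem _ (sq_mem_squares _) _))
    (sq_mem_squares _)

variable (hK : Regular K) (h2 : IsPGroup 2 P)
include hK h2

/-- A group of exponent more than four has an element of order four among the squares, central
modulo the involutions. -/
theorem exists_layer_square (hexp : ∃ x : P, x * x * (x * x) ≠ 1) :
    ∃ g : P, g ∈ squares P ∧ g * g ≠ 1 ∧ g * g * (g * g) = 1 ∧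
      ∀ u, (g * u * g⁻¹ * u⁻¹) * (g * u * g⁻¹ * u⁻¹) = 1 := by
  classical
  haveI := invols_normal hK
  haveI : Fact (Nat.Prime 2) := ⟨Nat.prime_two⟩
  haveI := (h2.to_quotient (invols hK)).isNilpotent
  haveI := squares_normal (P := P)
  haveI : ((squares P).map (QuotientGroup.mk' (invols hK))).Normal :=
    Subgroup.Normal.map inferInstance _ (QuotientGroup.mk'_surjective _)
  have hne : (squares P).map (QuotientGroup.mk' (invols hK)) ≠ ⊥ := by
    obtain ⟨x, hx⟩ := hexp
    intro h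
    rw [Subgroup.map_eq_bot_iff, QuotientGroup.ker_mk'] at h
    exact hx (h (sq_mem_squares x))
  set Q := (squares P).map (QuotientGroup.mk' (invols hK)) ⊓ Subgroup.center (P ⧸ invols hK)
  haveI : Nontrivial Q := (Subgroup.nontrivial_iff_ne_bot _).2 (Cores.inf_center_ne_bot hne)
  obtain ⟨q, hq, -⟩ := Involutions.TwoGroups.exists_central_involution
    (((h2.to_quotient (invols hK))).to_subgroup Q)
  obtain ⟨hq2, hq1⟩ := orderOf_two_iff.1 hq
  obtain ⟨⟨g, hg, hgq⟩, hc⟩ := q.2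
  have e2 : ((g * g : P) : P ⧸ invols hK) = 1 := by
    rw [QuotientGroup.mk_mul]
    have := congrArg Subtype.val hq2
    rw [show (QuotientGroup.mk' (invols hK)) g = (g : P ⧸ invols hK) from rfl] at hgq
    rw [hgq]
    simpa using this
  refine ⟨g, hg, fun h => hq1 (Subtype.ext ?_), (QuotientGroup.eq_one_iff _).1 e2, fun u => ?_⟩
  · rw [← hgq]
    exact (QuotientGroup.eq_one_iff _).2 h
  · refine (QuotientGroup.eq_one_iff (N := invols hK) (g * u * g⁻¹ * u⁻¹)).1 ?_
    simp only [QuotientGroup.mk_mul, QuotientGroup.mk_inv]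
    rw [show (g : P ⧸ invols hK) = q.1 from hgq]
    rw [← Subgroup.mem_center_iff.1 hc (u : P ⧸ invols hK)]
    group

theorem sq_sq_eq_one (hf : Fpf K) (hK1 : ∃ k : K, k ≠ 1) (hne : ∃ x y : P, x * y ≠ y * x)
    (x : P) : x * x * (x * x) = 1 := by
  classical
  by_contra hx
  obtain ⟨g, hgM, hg1, hg4, hgV⟩ := exists_layer_square hK h2 ⟨x, hx⟩
  obtain ⟨k₀, hk₀⟩ := hK1
  set V := invols hK with hV
  have hVc : ∀ v ∈ V, ∀ w : P, w * v = v * w := fun v hv => hK.central v hv
  have hVsq : ∀ v ∈ V, v * v = 1 := fun v hv => hv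
  -- the elements of the squares which are central modulo the involutions
  let InA : P → Prop := fun a => a ∈ squares P ∧ a * a ∈ V ∧
    ∀ u, a * u * a⁻¹ * u⁻¹ ∈ V
  have hconjV : ∀ v ∈ V, ∀ w : P, w * v * w⁻¹ = v := fun v hv w => by
    rw [hVc v hv, mul_inv_cancel_right]
  have hAmap : ∀ (k : K) (a : P), InA a → InA ((k : MulAut P) a) := by
    rintro k a ⟨h1, h3, h4⟩
    refine ⟨squares_map _ h1, by rw [← map_mul]; exact sq_map _ h3, fun u => ?_⟩
    obtain ⟨u', rfl⟩ := (k : MulAut P).surjective u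
    rw [← map_inv, ← map_mul, ← map_mul, ← map_inv, ← map_mul]
    exact sq_map _ (h4 u')
  have hgA : InA g := ⟨hgM, hg4, hgV⟩
  -- they centralise the squares
  have hcomm : ∀ a : P, (∀ u, a * u * a⁻¹ * u⁻¹ ∈ V) → ∀ m ∈ squares P, a * m = m * a := by
    intro a ha m hm
    refine Subgroup.closure_induction (fun y hy => ?_) (by simp)
      (fun p q _ _ hp hq => by rw [← mul_assoc, hp, mul_assoc, hq, mul_assoc])
      (fun p _ hp => (Commute.inv_right hp).eq) hm
    obtain ⟨u, rfl⟩ := hy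
    have h1 : a * u * a⁻¹ = (a * u * a⁻¹ * u⁻¹) * u := by group
    have h3 : a * (u * u) * a⁻¹ = u * u := by
      calc a * (u * u) * a⁻¹ = (a * u * a⁻¹) * (a * u * a⁻¹) := by group
        _ = (a * u * a⁻¹ * u⁻¹) * (u * (a * u * a⁻¹ * u⁻¹)) * u := by rw [h1]; group
        _ = (a * u * a⁻¹ * u⁻¹) * (a * u * a⁻¹ * u⁻¹) * (u * u) := by rw [hVc _ (ha u)]; group
        _ = u * u := by rw [hVsq _ (ha u), one_mul]
    exact mul_inv_eq_iff_eq_mul.1 h3
  have hroot : ∀ v : P, v * v = 1 → ∃ a, InA a ∧ a * a = v := by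
    intro v hv
    by_cases hv1 : v = 1
    · exact ⟨1, ⟨one_mem _, by simp [V.one_mem], fun u => by simp [V.one_mem]⟩, by simp [hv1]⟩
    obtain ⟨k, hk, -⟩ := hK.regular _ _ hg1 hg4 hv1 hv
    exact ⟨(k : MulAut P) g, hAmap k g hgA, by rw [← map_mul, hk]⟩
  have hVM : ∀ v : P, v * v = 1 → v ∈ squares P := fun v hv => by
    obtain ⟨a, -, rfl⟩ := hroot v hv
    exact sq_mem_squares a
  have hVA : ∀ v ∈ V, InA v := fun v hv => ⟨hVM v hv, by rw [hVsq v hv]; exact V.one_mem,
    fun u => by rw [← hVc v hv u, mul_inv_cancel_right, mul_inv_cancel]; exact V.one_mem⟩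
  have hAmul : ∀ a b, InA a → InA b → InA (a * b) := by
    intro a b ha hb
    refine ⟨mul_mem ha.1 hb.1, ?_, fun u => ?_⟩
    · rw [show a * b * (a * b) = a * (b * a) * b by group, ← hcomm a ha.2.2 b hb.1,
        show a * (a * b) * b = (a * a) * (b * b) by group]
      exact V.mul_mem ha.2.1 hb.2.1
    · rw [show a * b * u * (a * b)⁻¹ * u⁻¹ =
          a * (b * u * b⁻¹ * u⁻¹) * a⁻¹ * (a * u * a⁻¹ * u⁻¹) by group, hconjV _ (hb.2.2 u)]
      exact V.mul_mem (hb.2.2 u) (ha.2.2 u)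
  have hin : ∀ m ∈ squares P, m * m ∈ V → InA m := by
    intro m hm hm2
    obtain ⟨a, ha, hasq⟩ := hroot _ hm2
    have h5 : a⁻¹ * m ∈ V := by
      show a⁻¹ * m * (a⁻¹ * m) = 1
      rw [show a⁻¹ * m * (a⁻¹ * m) = a⁻¹ * (m * a⁻¹) * m by group,
        ← (Commute.inv_left (show Commute a m from hcomm a ha.2.2 m hm)).eq,
        show a⁻¹ * (a⁻¹ * m) * m = (a * a)⁻¹ * (m * m) by group, hasq, inv_mul_cancel]
    have := hAmul a _ ha (hVA _ h5)
    rwa [mul_inv_cancel_left] at this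
  -- coordinates on the involutions
  letI : CommGroup K := { (inferInstance : Group K) with mul_comm := hK.comm }
  letI : CommGroup V :=
    { (inferInstance : Group V) with mul_comm := fun a b => Subtype.ext (hVc _ b.2 a.1) }
  obtain ⟨n, hn⟩ := (h2.to_subgroup V).exists_card_eq
  haveI : Fact (Nat.Prime 2) := ⟨Nat.prime_two⟩
  have hn0 : n ≠ 0 := by
    rintro rfl
    haveI : Subsingleton V := (Nat.card_eq_one_iff_unique.1 (by rw [hn]; norm_num)).1
    exact hg1 (congrArg Subtype.val (Subsingleton.elim (⟨g * g, hg4⟩ : V) 1))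
  obtain ⟨F, _, _, _, hFcard⟩ : ∃ (F : Type) (_ : Field F) (_ : Fintype F) (_ : CharP F 2),
      Fintype.card F = 2 ^ n :=
    ⟨GaloisField 2 n, inferInstance, Fintype.ofFinite _, inferInstance, by
      rw [← @Nat.card_eq_fintype_card _ (Fintype.ofFinite _)]; exact GaloisField.card 2 n hn0⟩
  let actV : K → Additive V →+ Additive V := fun k =>
    MonoidHom.toAdditive (((k : MulAut P).toMonoidHom.comp V.subtype).codRestrict V
      fun v => sq_map _ v.2)
  have hext : ∀ a b : Additive V,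
      ((Additive.toMul a : V) : P) = ((Additive.toMul b : V) : P) → a = b := fun a b h => Subtype.ext h
  have hnz : ∀ a : Additive V, a ≠ 0 → ((Additive.toMul a : V) : P) ≠ 1 :=
    fun a ha h => ha (hext _ _ h)
  obtain ⟨eV, lam, hlam0, hlamsurj, hlam⟩ := FieldModel.exists_model (K := ↥K) F
    ((Nat.card_congr Additive.toMul).trans (hn.trans hFcard.symm))
    actV
    (fun k l z => hext _ _ rfl)
    (fun k z hz h => hnz z hz ((k : MulAut P).map_eq_one_iff.1 (congrArg (fun a => ((Additive.toMul a : V) : P)) h)))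
    (fun a b ha hb => by
      obtain ⟨k, hk, hku⟩ := hK.regular _ _ (hnz a ha) (Additive.toMul a : V).2
        (hnz b hb) (Additive.toMul b : V).2
      exact ⟨k, hext _ _ hk, fun l hl => hku l (congrArg (fun a => ((Additive.toMul a : V) : P)) hl)⟩)
  let E : P → F := fun v => if h : v ∈ V then eV (Additive.ofMul (⟨v, h⟩ : V)) else 0
  have hE : ∀ {v} (h : v ∈ V), E v = eV (Additive.ofMul (⟨v, h⟩ : V)) := fun h => dif_pos h
  have hEmul : ∀ {v w}, v ∈ V → w ∈ V → E (v * w) = E v + E w := fun hv hw => by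
    rw [hE hv, hE hw, hE (V.mul_mem hv hw), ← map_add]; rfl
  have hEk : ∀ (k : K) {v}, v ∈ V → E ((k : MulAut P) v) = lam k * E v := fun k v hv => by
    rw [hE hv, hE (v := (k : MulAut P) v) (sq_map _ hv), ← hlam]; rfl
  have hE0 : ∀ {v}, v ∈ V → E v = 0 → v = 1 := fun hv h => by
    rw [hE hv, EmbeddingLike.map_eq_zero_iff] at h
    exact congrArg Subtype.val (show (⟨_, hv⟩ : V) = 1 from h)
  have hE1 : E 1 = 0 := left_eq_add.1 (by rw [← hEmul V.one_mem V.one_mem, one_mul])
  choose s hsA hsE using fun ξ : F =>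
    let ⟨a, ha, hae⟩ := hroot ((Additive.toMul (eV.symm ξ) : V) : P) (Additive.toMul (eV.symm ξ) : V).2
    (⟨a, ha, by rw [hae, hE (Additive.toMul (eV.symm ξ) : V).2]; exact eV.apply_symm_apply ξ⟩ :
      ∃ a, InA a ∧ E (a * a) = ξ)
  let br : P → P → F := fun a u => E (a * u * a⁻¹ * u⁻¹)
  have hbr1 : ∀ {a} u v, InA a → br a (u * v) = br a u + br a v := by
    intro a u v ha
    simp only [br]
    rw [← hEmul (ha.2.2 u) (ha.2.2 v)]
    congr 1
    rw [show a * (u * v) * a⁻¹ * (u * v)⁻¹ =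
      (a * u * a⁻¹ * u⁻¹) * (u * (a * v * a⁻¹ * v⁻¹) * u⁻¹) by group, hconjV _ (ha.2.2 v)]
  have hbr2 : ∀ {a b} u, InA a → InA b → br (a * b) u = br a u + br b u := by
    intro a b u ha hb
    simp only [br]
    rw [add_comm, ← hEmul (hb.2.2 u) (ha.2.2 u)]
    congr 1
    rw [show a * b * u * (a * b)⁻¹ * u⁻¹ =
      a * (b * u * b⁻¹ * u⁻¹) * a⁻¹ * (a * u * a⁻¹ * u⁻¹) by group, hconjV _ (hb.2.2 u)]
  have hsame : ∀ {a} u, InA a → br a u = br (s (E (a * a))) u := by
    intro a u ha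
    set b := s (E (a * a))
    have hb : InA b := hsA _
    have hab : a * a = b * b := by
      have e : E (b * b) = E (a * a) := hsE (E (a * a))
      exact (congrArg Subtype.val (Additive.ofMul.injective (eV.injective
        ((hE hb.2.1).symm.trans (e.trans (hE ha.2.1)))))).symm
    have hm : b⁻¹ * a ∈ V := by
      show b⁻¹ * a * (b⁻¹ * a) = 1
      rw [show b⁻¹ * a * (b⁻¹ * a) = b⁻¹ * (a * b⁻¹) * a by group,
        ← (Commute.inv_left (show Commute b a from hcomm b hb.2.2 a ha.1)).eq,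
        show b⁻¹ * (b⁻¹ * a) * a = (b * b)⁻¹ * (a * a) by group, hab, inv_mul_cancel]
    have h0 : br (b⁻¹ * a) u = 0 := by
      simp only [br]
      rw [← hVc _ hm u, mul_inv_cancel_right, mul_inv_cancel, hE1]
    have := hbr2 u hb (hVA _ hm)
    rw [mul_inv_cancel_left, h0, add_zero] at this
    exact this
  let Φ : P → F →+ F := fun u => AddMonoidHom.mk' (fun ξ => br (s ξ) u) fun ξ η => by
    rw [← hbr2 u (hsA ξ) (hsA η), hsame u (hAmul _ _ (hsA ξ) (hsA η))]
    congr 1
    rw [show s ξ * s η * (s ξ * s η) = (s ξ * s ξ) * (s η * s η) by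
      rw [show s ξ * s η * (s ξ * s η) = s ξ * (s η * s ξ) * s η by group,
        ← hcomm _ (hsA ξ).2.2 _ (hsA η).1]; group, hEmul (hsA ξ).2.1 (hsA η).2.1, hsE, hsE]
  have hΦbr : ∀ u {a}, InA a → Φ u (E (a * a)) = br a u := fun u a ha => (hsame u ha).symm
  let e' := AddEquiv.ofBijective (combine (F := F)) ⟨combine_injective, combine_surjective⟩
  let c : P → (F ≃+* F) → F := fun u => e'.symm (Φ u)
  have hcΦ : ∀ u ξ, Φ u ξ = ∑ σ, c u σ * σ ξ := fun u ξ => by
    rw [← combine_apply]; exact (DFunLike.congr_fun (e'.apply_symm_apply (Φ u)) ξ).symm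
  have hΦadd : ∀ u v, Φ (u * v) = Φ u + Φ v := fun u v =>
    AddMonoidHom.ext fun ξ => hbr1 u v (hsA ξ)
  have hcadd : ∀ u v σ, c (u * v) σ = c u σ + c v σ := fun u v σ => by
    simp only [c, hΦadd, map_add, Pi.add_apply]
  have hc1 : ∀ σ, c 1 σ = 0 := fun σ => left_eq_add.1 (by rw [← hcadd, one_mul])
  have hcM : ∀ {m}, m ∈ squares P → ∀ σ, c m σ = 0 := by
    intro m hm σ
    have : Φ m = 0 := AddMonoidHom.ext fun ξ => by
      show E _ = 0
      rw [hcomm _ (hsA ξ).2.2 m hm, mul_inv_cancel_right, mul_inv_cancel, hE1]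
    simp [c, this]
  let χ : (F ≃+* F) → K → F := fun σ k => lam k / σ (lam k)
  have hσlam : ∀ (σ : F ≃+* F) k, σ (lam k) ≠ 0 := fun σ k => σ.map_ne_zero_iff.2 (hlam0 k)
  have hck : ∀ (k : K) u σ, c ((k : MulAut P) u) σ = χ σ k * c u σ := by
    intro k u σ
    have hfun : ∀ ξ, Φ ((k : MulAut P) u) (lam k * ξ) = lam k * Φ u ξ := by
      intro ξ
      have hka := hAmap k _ (hsA ξ)
      have hsq : E ((k : MulAut P) (s ξ) * (k : MulAut P) (s ξ)) = lam k * ξ := by
        rw [← map_mul, hEk k (hsA ξ).2.1, hsE]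
      rw [← hsq, hΦbr _ hka]
      show E _ = lam k * E _
      rw [← hEk k ((hsA ξ).2.2 u)]
      simp only [map_mul, map_inv]
    have e : (fun τ => c ((k : MulAut P) u) τ * τ (lam k)) = fun τ => lam k * c u τ := by
      refine combine_injective (AddMonoidHom.ext fun ξ => ?_)
      have h := hfun ξ
      rw [hcΦ, hcΦ, Finset.mul_sum] at h
      rw [combine_apply, combine_apply]
      simpa [mul_assoc] using h
    have := congrFun e σ
    simp only [χ]
    rw [div_mul_eq_mul_div, eq_div_iff (hσlam σ k), this]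
  have hχ0 : ∀ σ k, χ σ k ≠ 0 := fun σ k => div_ne_zero (hlam0 k) (hσlam σ k)
  -- non-vanishing components
  have hχinj : ∀ σ, (∃ u, c u σ ≠ 0) → ∀ k : K, χ σ k = 1 → k = 1 := by
    rintro σ ⟨u, hu⟩ k hk
    by_contra hk1
    exact hu (additive_eq_zero hf hk1 (fun v => c v σ) (fun v w => hcadd v w σ)
      (fun v => by rw [hck, hk, one_mul]) u)
  have hrefl : ∀ u, c u (RingEquiv.refl F) = 0 := fun u => by
    by_contra h
    exact hk₀ (hχinj _ ⟨u, h⟩ k₀ (div_self (hlam0 k₀)))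
  have hχmul : ∀ σ k l, χ σ (k * l) = χ σ k * χ σ l := by
    intro σ k l
    have hl : lam (k * l) = lam k * lam l := by
      obtain ⟨a, ha⟩ : ∃ a : Additive V, a ≠ 0 :=
        ⟨Additive.ofMul (⟨g * g, hg4⟩ : V), fun h => hg1 (congrArg Subtype.val (show (⟨g * g, hg4⟩ : V) = 1 from h))⟩
      have h0 : eV a ≠ 0 := fun h => ha (EmbeddingLike.map_eq_zero_iff.1 h)
      refine mul_right_cancel₀ h0 ?_
      rw [mul_assoc, ← hlam, ← hlam, ← hlam]; rfl
    simp only [χ, hl, map_mul, div_mul_div_comm]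
  have hχsurj : ∀ σ, (∃ u, c u σ ≠ 0) → ∀ μ : F, μ ≠ 0 → ∃ k : K, χ σ k = μ := by
    intro σ hσ μ hμ
    have hinj : Function.Injective (fun k : K => (⟨χ σ k, hχ0 σ k⟩ : {x : F // x ≠ 0})) := by
      intro k l h
      have h' : χ σ k = χ σ l := congrArg Subtype.val h
      refine mul_inv_eq_one.1 (hχinj σ hσ _ ?_)
      have e := hχmul σ (k * l⁻¹) l
      rw [inv_mul_cancel_right, h'] at e
      exact (mul_eq_right₀ (hχ0 σ l)).1 e.symm
    have hcardle : Nat.card {x : F // x ≠ 0} ≤ Nat.card K :=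
      Nat.card_le_card_of_surjective (fun k => (⟨lam k, hlam0 k⟩ : {x : F // x ≠ 0}))
        fun x => let ⟨k, hk⟩ := hlamsurj x.1 x.2; ⟨k, Subtype.ext hk⟩
    haveI : Finite K := Finite.of_injective _ hinj
    obtain ⟨k, hk⟩ := ((Nat.bijective_iff_injective_and_card _).2
      ⟨hinj, le_antisymm (Nat.card_le_card_of_injective _ hinj) hcardle⟩).2 ⟨μ, hμ⟩
    exact ⟨k, congrArg Subtype.val hk⟩
  -- an element with a single component
  obtain ⟨u₀, hu₀⟩ : ∃ u, ∃ σ, c u σ ≠ 0 := by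
    by_contra! h
    refine hg1 (center_sq hK h2 hne (Subgroup.mem_center_iff.2 fun u => ?_))
    have h0 : Φ u (E (g * g)) = 0 := by rw [hcΦ]; simp [h u]
    rw [hΦbr u hgA] at h0
    have h7 := hE0 (hgA.2.2 u) h0
    rw [mul_inv_eq_one, mul_inv_eq_iff_eq_mul] at h7
    exact h7.symm
  let supp : P → Finset (F ≃+* F) := fun u => Finset.univ.filter fun σ => c u σ ≠ 0
  obtain ⟨y, hy, hmin⟩ := Set.exists_min_image {u : P | ∃ σ, c u σ ≠ 0} (fun u => (supp u).card)
    (Set.toFinite _) ⟨u₀, hu₀⟩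
  obtain ⟨σ, hσy⟩ := hy
  have hpure : ∀ τ, c y τ ≠ 0 → τ = σ := by
    intro τ hτy
    by_contra hne'
    let Y := Subgroup.closure (Set.range fun k : K => (k : MulAut P) y)
    have hsupp : ∀ z ∈ Y, ∀ π, c y π = 0 → c z π = 0 := by
      intro z hz π hπ
      refine Subgroup.closure_induction (fun w hw => ?_) (hc1 π)
        (fun p q _ _ hp hq => by rw [hcadd, hp, hq, add_zero]) (fun p _ hp => ?_) hz
      · obtain ⟨k, rfl⟩ := hw; rw [hck, hπ, mul_zero]
      · have := hcadd p p⁻¹ π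
        rwa [mul_inv_cancel, hc1, hp, zero_add, eq_comm] at this
    have hzero : ∀ z ∈ Y, c z σ = 0 → c z τ = 0 := by
      intro z hz hzσ
      by_contra hzτ
      have hlt : (supp z).card < (supp y).card := by
        refine Finset.card_lt_card (Finset.ssubset_iff_of_subset ?_ |>.2 ⟨σ, ?_, ?_⟩)
        · intro π hπ
          simp only [supp, Finset.mem_filter, Finset.mem_univ, true_and] at hπ ⊢
          exact fun h => hπ (hsupp z hz π h)
        · simp [supp, hσy]
        · simp [supp, hzσ]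
      exact absurd (hmin z ⟨τ, hzτ⟩) (not_le.2 hlt)
    have hex : ∀ μ : F, ∃ z ∈ Y, c z σ = μ * c y σ := by
      intro μ
      by_cases hμ : μ = 0
      · exact ⟨1, Y.one_mem, by rw [hc1, hμ, zero_mul]⟩
      obtain ⟨k, rfl⟩ := hχsurj σ ⟨y, hσy⟩ μ hμ
      exact ⟨_, Subgroup.subset_closure ⟨k, rfl⟩, hck k y σ⟩
    choose z hzY hz using hex
    have hzadd : ∀ μ {w}, w ∈ Y → c w σ = μ * c y σ → c w τ = c (z μ) τ := by
      intro μ w hw hwσ
      have hcinv : ∀ π, c (z μ)⁻¹ π = -c (z μ) π := fun π => by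
        refine eq_neg_of_add_eq_zero_right ?_
        rw [← hcadd, mul_inv_cancel, hc1]
      have h9 := hzero _ (Y.mul_mem hw (Y.inv_mem (hzY μ))) (by rw [hcadd, hcinv, hwσ, hz, add_neg_cancel])
      rwa [hcadd, hcinv, add_neg_eq_zero] at h9
    let ρ₀ : F → F := fun μ => c (z μ) τ / c y τ
    have hρadd : ∀ μ ν, ρ₀ (μ + ν) = ρ₀ μ + ρ₀ ν := by
      intro μ ν
      have := hzadd (μ + ν) (Y.mul_mem (hzY μ) (hzY ν)) (by rw [hcadd, hz, hz, add_mul])
      simp only [ρ₀]
      rw [← this, hcadd, add_div]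
    have hρχ : ∀ k, ρ₀ (χ σ k) = χ τ k := by
      intro k
      have := hzadd (χ σ k) (Subgroup.subset_closure ⟨k, rfl⟩) (hck k y σ)
      simp only [ρ₀]
      rw [← this, hck, mul_div_assoc, div_self hτy, mul_one]
    have hρ0 : ρ₀ 0 = 0 := (left_eq_add (a := ρ₀ 0)).1 (by rw [← hρadd, add_zero])
    have hρ1 : ρ₀ 1 = 1 := by
      have h11 : ∀ π, χ π 1 = 1 := fun π => (mul_eq_left₀ (hχ0 π 1)).1 (by rw [← hχmul, one_mul])
      rw [← h11 σ, hρχ, h11, h11]
    have hρmul : ∀ μ ν, ρ₀ (μ * ν) = ρ₀ μ * ρ₀ ν := by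
      intro μ ν
      by_cases hμ : μ = 0
      · simp [hμ, hρ0]
      by_cases hν : ν = 0
      · simp [hν, hρ0]
      obtain ⟨k, rfl⟩ := hχsurj σ ⟨y, hσy⟩ μ hμ
      obtain ⟨l, rfl⟩ := hχsurj σ ⟨y, hσy⟩ ν hν
      rw [← hχmul, hρχ, hρχ, hρχ, hχmul]
    let ρh : F →+* F := { toFun := ρ₀, map_one' := hρ1, map_mul' := hρmul, map_zero' := hρ0, map_add' := hρadd }
    let ρ : F ≃+* F := RingEquiv.ofBijective ρh (Finite.injective_iff_bijective.1 ρh.injective)
    refine hne' (eq_of_conjugate (ρ := ρ) (σ := σ) (τ := τ) (fun e => hσy (by rw [e]; exact hrefl y))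
      (fun e => hτy (by rw [e]; exact hrefl y))
      fun x => ?_).symm
    by_cases hx0 : x = 0
    · simp [hx0]
    obtain ⟨k, rfl⟩ := hlamsurj x hx0
    have h := hρχ k
    have h' : ρ (lam k) / ρ (σ (lam k)) = lam k / τ (lam k) := by rw [← map_div₀]; exact h
    rw [div_eq_div_iff (ρ.map_ne_zero_iff.2 (hσlam σ k)) (hσlam τ k)] at h'
    linear_combination h'
  let N : P → Prop := fun u => ∀ ξ, Φ u ξ = c u σ * σ ξ
  have hyN : ∀ k : K, N ((k : MulAut P) y) := fun k ξ => by
    rw [hcΦ]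
    refine Finset.sum_eq_single σ (fun τ _ hτ => ?_) (by simp)
    rw [hck, show c y τ = 0 from by_contra fun h => hτ (hpure τ h), mul_zero, zero_mul]
  have hNmul : ∀ {u v}, N u → N v → N (u * v) := fun hu hv ξ => by
    rw [hΦadd, AddMonoidHom.add_apply, hu, hv, hcadd, add_mul]
  have hNM : ∀ {m}, m ∈ squares P → N m := fun hm ξ => by rw [hcΦ, hcM hm σ]; simp [hcM hm]
  have hNk : ∀ (k : K) {u}, N u → N ((k : MulAut P) u) := by
    intro k u hu ξ
    have hc' : c u = Pi.single σ (c u σ) := by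
      refine combine_injective (AddMonoidHom.ext fun η => ?_)
      rw [combine_apply, combine_apply, ← hcΦ, hu η, Finset.sum_eq_single σ]
      · rw [Pi.single_eq_same]
      · intro τ _ hτ
        rw [Pi.single_eq_of_ne hτ, zero_mul]
      · exact fun h => absurd (Finset.mem_univ σ) h
    rw [hcΦ, Finset.sum_eq_single σ]
    · intro τ _ hτ
      rw [hck, hc', Pi.single_eq_of_ne hτ, mul_zero, zero_mul]
    · exact fun h => absurd (Finset.mem_univ σ) h
  have hNex : ∀ μ : F, ∃ u, N u ∧ c u σ = μ := by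
    intro μ
    by_cases hμ : μ = 0
    · exact ⟨1, hNM (one_mem _), by rw [hc1, hμ]⟩
    obtain ⟨k, hk⟩ := hχsurj σ ⟨y, hσy⟩ (μ / c y σ) (div_ne_zero hμ hσy)
    exact ⟨_, hyN k, by rw [hck, hk, div_mul_cancel₀ _ hσy]⟩
  -- such elements have order at most four
  have hinjN : ∀ {u a}, N u → c u σ ≠ 0 → InA a → a * u = u * a → a * a = 1 := by
    intro u a hu hcu ha hau
    have h := hΦbr u ha
    rw [hu, show br a u = 0 by simp only [br]; rw [hau, mul_inv_cancel_right, mul_inv_cancel, hE1],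
      mul_eq_zero, or_iff_right hcu, RingEquiv.map_eq_zero_iff] at h
    exact hE0 ha.2.1 h
  have hord : ∀ {u}, N u → c u σ ≠ 0 → u * u ∈ V := by
    intro u hu hcu
    obtain ⟨m, hm⟩ := IsPGroup.iff_orderOf.1 h2 u
    by_contra hu4
    obtain ⟨j, rfl⟩ : ∃ j, m = j + 3 := by
      refine ⟨m - 3, ?_⟩
      by_contra h
      refine hu4 ?_
      show u * u * (u * u) = 1
      rw [← pow_two u, ← pow_add]
      refine orderOf_dvd_iff_pow_eq_one.1 ?_
      rw [hm, show (2 + 2 : ℕ) = 2 ^ 2 from rfl]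
      exact pow_dvd_pow 2 (by omega)
    have h7 : u ^ 2 ^ (j + 1) * u ^ 2 ^ (j + 1) ∈ V := by
      show _ = (1 : P)
      rw [← pow_add, ← pow_add, show 2 ^ (j + 1) + 2 ^ (j + 1) + (2 ^ (j + 1) + 2 ^ (j + 1)) = 2 ^ (j + 3) by ring, ← hm]
      exact pow_orderOf_eq_one u
    have ha : InA (u ^ 2 ^ (j + 1)) := hin _ (by
      rw [pow_succ, pow_mul, pow_two]; exact sq_mem_squares _) h7
    have h8 := hinjN hu hcu ha (Commute.pow_self u _).eq
    rw [← pow_add] at h8
    exact pow_ne_one_of_lt_orderOf (by positivity) (by rw [hm, ← two_mul, ← pow_succ']; exact Nat.pow_lt_pow_right one_lt_two (by omega)) h8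
  have hF3 : ∃ μ : F, μ ≠ 0 ∧ μ ≠ 1 := by
    refine ⟨χ σ k₀, hχ0 σ k₀, fun h => hk₀ (hχinj σ ⟨y, hσy⟩ k₀ h)⟩
  obtain ⟨μ, hμ0, hμ1⟩ := hF3
  obtain ⟨u₁, hu₁, hc₁⟩ := hNex 1
  obtain ⟨u₂, hu₂, hc₂⟩ := hNex μ
  have hc₁0 : c u₁ σ ≠ 0 := by rw [hc₁]; exact one_ne_zero
  have hc₂0 : c u₂ σ ≠ 0 := by rw [hc₂]; exact hμ0
  have hMA : ∀ m ∈ squares P, InA m := by
    intro m hm
    refine hin m hm ?_
    haveI := invols_normal hK
    have hq : ∀ {u}, N u → c u σ ≠ 0 →
        (u : P ⧸ V) * u = 1 ∧ (u : P ⧸ V) * m * u = (m : P ⧸ V)⁻¹ := by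
      intro u hu hcu
      have e1 : (u : P ⧸ V) * u = 1 := by
        rw [← QuotientGroup.mk_mul]; exact (QuotientGroup.eq_one_iff _).2 (hord hu hcu)
      have e3 := hord (hNmul hu (hNM hm)) (by rw [hcadd, hcM hm, add_zero]; exact hcu)
      have e2 := (QuotientGroup.eq_one_iff (N := V) _).2 e3
      rw [QuotientGroup.mk_mul, QuotientGroup.mk_mul] at e2
      exact ⟨e1, eq_inv_of_mul_eq_one_left (by rw [← e2]; group)⟩
    have hc₃ : c (u₁ * u₂) σ ≠ 0 := by
      rw [hcadd, hc₁, hc₂]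
      exact fun h => hμ1 (CharTwo.add_eq_zero.1 h).symm
    obtain ⟨a1, b1⟩ := hq hu₁ hc₁0
    obtain ⟨a2, b2⟩ := hq hu₂ hc₂0
    obtain ⟨a3, b3⟩ := hq (hNmul hu₁ hu₂) hc₃
    rw [QuotientGroup.mk_mul] at a3 b3
    set p : P ⧸ V := ↑u₁
    set r : P ⧸ V := ↑u₂
    set w : P ⧸ V := ↑m
    have ppinv : p⁻¹ = p := inv_eq_of_mul_eq_one_right a1
    have rinv : r⁻¹ = r := inv_eq_of_mul_eq_one_right a2
    have hrp : r * p = p * r := by
      rw [← inv_eq_of_mul_eq_one_right a3, mul_inv_rev, ppinv, rinv]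
    have hb2 : r * w⁻¹ * r = w := by
      have e : (r * w * r)⁻¹ = w := by rw [b2, inv_inv]
      rw [mul_inv_rev, mul_inv_rev, rinv, ← mul_assoc] at e
      exact e
    have hb1 : p * w⁻¹ * p = w := by
      have e : (p * w * p)⁻¹ = w := by rw [b1, inv_inv]
      rw [mul_inv_rev, mul_inv_rev, ppinv, ← mul_assoc] at e
      exact e
    have key : w⁻¹ = w := by
      rw [← b3]
      calc p * r * w * (p * r) = p * r * w * (r * p) := by rw [hrp]
        _ = p * (r * w * r) * p := by group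
        _ = p * w⁻¹ * p := by rw [b2]
        _ = w := hb1
    refine (QuotientGroup.eq_one_iff _).1 ?_
    rw [QuotientGroup.mk_mul]
    exact inv_eq_iff_mul_eq_one.1 key
  -- commutators with such elements
  let f : P → P → F := fun b u => E ((b * u * b⁻¹ * u⁻¹) * (b * u * b⁻¹ * u⁻¹))
  have hCA : ∀ b u : P, InA (b * u * b⁻¹ * u⁻¹) := fun b u => hMA _ (comm_mem_squares b u)
  have hsq2 : ∀ {p q}, InA p → InA q → E (p * q * (p * q)) = E (p * p) + E (q * q) := by
    intro p q hp hq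
    rw [show p * q * (p * q) = p * (q * p) * q by group, ← hcomm p hp.2.2 q hq.1,
      show p * (p * q) * q = (p * p) * (q * q) by group, hEmul hp.2.1 hq.2.1]
  have hconjA : ∀ {p} w, InA p → InA (w * p * w⁻¹) ∧ w * p * w⁻¹ * (w * p * w⁻¹) = p * p := by
    intro p w hp
    refine ⟨hMA _ (squares_normal.conj_mem _ hp.1 w), ?_⟩
    rw [show w * p * w⁻¹ * (w * p * w⁻¹) = w * (p * p) * w⁻¹ by group, hconjV _ hp.2.1]
  have hfadd : ∀ b u v, f b (u * v) = f b u + f b v := by
    intro b u v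
    obtain ⟨h1, h3⟩ := hconjA u (hCA b v)
    simp only [f]
    rw [show b * (u * v) * b⁻¹ * (u * v)⁻¹ =
        (b * u * b⁻¹ * u⁻¹) * (u * (b * v * b⁻¹ * v⁻¹) * u⁻¹) by group,
      hsq2 (hCA b u) h1, h3]
  have hfadd' : ∀ b b' u, f (b * b') u = f b u + f b' u := by
    intro b b' u
    obtain ⟨h1, h3⟩ := hconjA b (hCA b' u)
    simp only [f]
    rw [show b * b' * u * (b * b')⁻¹ * u⁻¹ =
        (b * (b' * u * b'⁻¹ * u⁻¹) * b⁻¹) * (b * u * b⁻¹ * u⁻¹) by group,
      hsq2 h1 (hCA b u), h3, add_comm]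
  have hfix : ∀ b {u}, N u → c u σ ≠ 0 → c u σ * σ (f b u) = f b u := by
    intro b u hu hcu
    set p := b * u * b⁻¹ * u⁻¹ with hp
    have huu := hord hu hcu
    have h3 : u * p * u⁻¹ = p⁻¹ := by
      calc u * p * u⁻¹ = u * b * u⁻¹ * ((u * u) * b⁻¹) * (u * u)⁻¹ := by rw [hp]; group
        _ = u * b * u⁻¹ * (b⁻¹ * (u * u)) * (u * u)⁻¹ := by rw [hVc _ huu b⁻¹]
        _ = p⁻¹ := by rw [hp]; group
    have h4 : p * u * p⁻¹ * u⁻¹ = p * p := by
      calc p * u * p⁻¹ * u⁻¹ = p * (u * p * u⁻¹)⁻¹ := by group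
        _ = p * p := by rw [h3, inv_inv]
    have := hΦbr u (hCA b u)
    rw [hu, show br p u = E (p * p) by simp only [br]; rw [h4]] at this
    exact this
  have hker : ∀ b {w}, N w → c w σ = 0 → f b w = 0 := by
    intro b w hw hcw
    have h1 : ∀ {u}, N u → c u σ ≠ 0 → c u σ * σ (f b w) = f b w := by
      intro u hu hcu
      have e := hfix b (hNmul hu hw) (by rw [hcadd, hcw, add_zero]; exact hcu)
      rw [hcadd, hcw, add_zero, hfadd, map_add, mul_add, hfix b hu hcu] at e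
      exact add_left_cancel e
    have e1 := h1 hu₁ hc₁0
    have e2 := h1 hu₂ hc₂0
    rw [hc₁, one_mul] at e1
    rw [hc₂, e1] at e2
    exact by_contra fun h => hμ1 ((mul_eq_right₀ h).1 e2)
  let G' : P → F → F := fun b t => f b (hNex t).choose
  have hG' : ∀ b {u}, N u → G' b (c u σ) = f b u := by
    intro b u hu
    obtain ⟨h1, h3⟩ := (hNex (c u σ)).choose_spec
    set v := (hNex (c u σ)).choose
    have huv : N (u * v) := hNmul hu h1
    have h0 := hker b huv (by rw [hcadd, h3, CharTwo.add_self_eq_zero])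
    rw [hfadd] at h0
    exact (CharTwo.add_eq_zero.1 h0).symm
  have hGfix : ∀ b t, t ≠ 0 → t * σ (G' b t) = G' b t := by
    intro b t ht
    obtain ⟨u, hu, rfl⟩ := hNex t
    rw [hG' b hu]; exact hfix b hu ht
  have hGadd : ∀ b t t', G' b (t + t') = G' b t + G' b t' := by
    intro b t t'
    obtain ⟨u, hu, rfl⟩ := hNex t
    obtain ⟨v, hv, rfl⟩ := hNex t'
    rw [← hcadd, hG' b (hNmul hu hv), hG' b hu, hG' b hv, hfadd]
  have hidem : ∀ b, G' b 1 * G' b 1 = G' b 1 := by
    intro b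
    set ε := G' b 1
    have h1 : σ ε = ε := by have := hGfix b 1 one_ne_zero; rwa [one_mul] at this
    have hpol : ∀ t : F, G' b t = t * t * ε ∧ σ (G' b t) = t * ε := by
      intro t
      by_cases ht0 : t = 0
      · have : G' b 0 = 0 := (left_eq_add (a := G' b 0)).1 (by rw [← hGadd, add_zero])
        simp [ht0, this]
      by_cases ht1 : t = 1
      · subst ht1; simp [h1]; exact ⟨rfl, h1⟩
      have ht : t + 1 ≠ 0 := fun h => ht1 (CharTwo.add_eq_zero.1 h)
      have e := hGfix b (t + 1) ht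
      have e' := hGfix b t ht0
      rw [hGadd, map_add] at e
      have h3 : σ (G' b t) = t * ε := by
        linear_combination e - e' - (t + 1) * h1 - CharTwo.add_self_eq_zero (t * ε) + CharTwo.add_self_eq_zero (0 : F)
      exact ⟨by rw [← e', h3]; ring, h3⟩
    obtain ⟨e1, e2⟩ := hpol ε
    rw [e1, map_mul, map_mul, h1] at e2
    by_cases hε : ε = 0
    · simp [hε]
    exact mul_right_cancel₀ hε (by linear_combination e2)
  have hGk : ∀ (k : K) b, G' ((k : MulAut P) b) 1 = G' b 1 := by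
    intro k b
    have hN1 : N ((k : MulAut P) u₁) := hNk k hu₁
    have h3 : f ((k : MulAut P) b) ((k : MulAut P) u₁) = lam k * f b u₁ := by
      simp only [f]
      rw [← hEk k (hCA b u₁).2.1]
      simp only [map_mul, map_inv]
    rw [← hG' b hu₁, ← hG' _ hN1, hck, hc₁, mul_one] at h3
    -- the scaling of the fixed value
    have hlin : ∀ t, G' ((k : MulAut P) b) t = t * t * G' ((k : MulAut P) b) 1 := by
      intro t
      have hε1 : σ (G' ((k : MulAut P) b) 1) = G' ((k : MulAut P) b) 1 := by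
        have := hGfix ((k : MulAut P) b) 1 one_ne_zero; rwa [one_mul] at this
      by_cases ht0 : t = 0
      · have : G' ((k : MulAut P) b) 0 = 0 := (left_eq_add (a := G' ((k : MulAut P) b) 0)).1 (by rw [← hGadd, add_zero])
        simp [ht0, this]
      by_cases ht1 : t = 1
      · simp [ht1]
      have ht : t + 1 ≠ 0 := fun h => ht1 (CharTwo.add_eq_zero.1 h)
      have e := hGfix ((k : MulAut P) b) (t + 1) ht
      have e' := hGfix ((k : MulAut P) b) t ht0
      rw [hGadd, map_add] at e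
      have e5 : σ (G' ((k : MulAut P) b) t) = t * G' ((k : MulAut P) b) 1 := by
        linear_combination e - e' - (t + 1) * hε1 - CharTwo.add_self_eq_zero (t * G' ((k : MulAut P) b) 1) + CharTwo.add_self_eq_zero (0 : F)
      rw [← e', e5]; ring
    rw [hlin] at h3
    have hcases : ∀ e : F, e * e = e → e = 0 ∨ e = 1 := fun e he =>
      (em (e = 0)).imp_right fun h0 => mul_right_cancel₀ h0 (by rw [he, one_mul])
    rcases hcases _ (hidem b) with h | h <;> rcases hcases _ (hidem ((k : MulAut P) b)) with h' | h'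
    · rw [h, h']
    · rw [h, h', mul_one, mul_zero] at h3
      exact absurd h3 (mul_ne_zero (hχ0 σ k) (hχ0 σ k))
    · rw [h, h', mul_zero, mul_one] at h3
      exact absurd h3.symm (hlam0 k)
    · rw [h, h']
  have hf0 : ∀ b, f b u₁ = 0 := fun b =>
    additive_eq_zero hf hk₀ (fun b => f b u₁) (fun b b' => hfadd' b b' u₁) (fun b => by
      rw [← hG' b hu₁, ← hG' _ hu₁, hc₁, hGk]) b
  -- conclusion
  have hv : x * u₁ * x⁻¹ * u₁⁻¹ ∈ V := hE0 (hCA x u₁).2.1 (hf0 x)
  have hxx : (x * x) * u₁ = u₁ * (x * x) := by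
    set v := x * u₁ * x⁻¹ * u₁⁻¹ with hvdef
    have e1 : x * u₁ = v * u₁ * x := by rw [hvdef]; group
    calc (x * x) * u₁ = x * (x * u₁) := mul_assoc _ _ _
      _ = (x * v) * u₁ * x := by rw [e1]; group
      _ = v * (x * u₁) * x := by rw [hVc v hv x]; group
      _ = (v * v) * (u₁ * (x * x)) := by rw [e1]; group
      _ = u₁ * (x * x) := by rw [hVsq v hv, one_mul]
  exact hx (hinjN hu₁ hc₁0 (hMA _ (sq_mem_squares x)) hxx)

/-- The squares are central. -/
theorem sq_central (hf : Fpf K) (hK1 : ∃ k : K, k ≠ 1) (hne : ∃ x y : P, x * y ≠ y * x)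
    (x g : P) : g * (x * x) = (x * x) * g :=
  hK.central _ (sq_sq_eq_one hK h2 hf hK1 hne x) g

end Cfsg.Agent.Involutions.Suzuki.Exponent
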