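import Cfsg.Agent.Lib.Involutions.Suzuki.LocalChars
import Cfsg.Agent.OddChar.Coherence.TI
import Cfsg.Agent.Lib.Characters.Coherence

/-!
# The exceptional characters belonging to `H/V`

Induction gives a coherent family `μ` indexed by the characters of the point stabiliser trivial on `V`.
We record the degree, the value on involutions, the multiplicities and a norm inequality.
-/

set_option autoImplicit false
set_option linter.unusedSectionVars false
set_option linter.style.haveILetI false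

namespace Cfsg.Agent.Involutions.Suzuki.Zass

open Cfsg.Agent.CharTheory.Zassenhaus
open Cfsg.Agent.Characters
open Cfsg.Agent.CharTheory
open Cfsg.Agent.OddChar.Coherence
open Cfsg.Agent.OddChar.Isometry
open Cfsg.Agent.CharactersDeep
open scoped ComplexConjugate

universe u v

section Bessel

variable {G : Type u} [Group G] [Fintype G]

/-- A class function of small norm with equal integral products with many irreducibles is orthogonal
to all of them. -/
theorem eq_zero_of_many {s : ℕ} (μ : Fin s → G → ℂ) (hμ : ∀ i, Cfsg.IsIrrCharacter G (μ i))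
    (hinj : Function.Injective μ) {Φ : G → ℂ} (hΦ : Cfsg.IsClassFunction G Φ) {n : ℕ}
    (hn : Cfsg.classInner Φ Φ = (n : ℂ)) (hlt : n < s) {m : ℤ}
    (hm : ∀ i, Cfsg.classInner Φ (μ i) = (m : ℂ)) : m = 0 := by
  classical
  haveI := Fintype.ofFinite (Cfsg.IrrCharacter G)
  by_contra hm0
  have h := classInner_eq_sum Φ hΦ
  rw [hn, Finset.sum_congr rfl (g := fun ψ : Cfsg.IrrCharacter G =>
    ((‖Cfsg.classInner Φ (ψ : G → ℂ)‖ ^ 2 : ℝ) : ℂ)) (fun ψ _ => by
      rw [classInner_conj_symm Φ (ψ : G → ℂ), Complex.mul_conj']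
      push_cast; rfl), ← Complex.ofReal_sum, ← Complex.ofReal_natCast, Complex.ofReal_inj] at h
  let e : Fin s → Cfsg.IrrCharacter G := fun i => ⟨μ i, hμ i⟩
  have hle : ∑ ψ ∈ Finset.univ.image e, ‖Cfsg.classInner Φ (ψ : G → ℂ)‖ ^ 2 ≤ (n : ℝ) := by
    rw [h]
    exact Finset.sum_le_sum_of_subset_of_nonneg (Finset.subset_univ _) fun _ _ _ => by positivity
  rw [Finset.sum_image fun i _ j _ hij => hinj (congrArg Subtype.val hij),
    Finset.sum_congr rfl (g := fun _ => ((m ^ 2 : ℤ) : ℝ)) (fun i _ => by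
      rw [show ((e i : Cfsg.IrrCharacter G) : G → ℂ) = μ i from rfl, hm,
        show ((m : ℂ)) = ((m : ℝ) : ℂ) by norm_cast, Complex.norm_real, Real.norm_eq_abs, sq_abs]
      push_cast; rfl), Finset.sum_const, Finset.card_univ, Fintype.card_fin, nsmul_eq_mul] at hle
  have h1 : (1 : ℝ) ≤ ((m ^ 2 : ℤ) : ℝ) := by
    have : (1 : ℤ) ≤ m ^ 2 := by have := Int.one_le_abs hm0; nlinarith [sq_abs m, abs_nonneg m]
    exact_mod_cast this
  have h2 : (n : ℝ) < s := by exact_mod_cast hlt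
  have h3 : (0 : ℝ) ≤ s := by positivity
  nlinarith

end Bessel

variable {G : Type u} {Ω : Type v} [Group G] [MulAction G Ω] [Fintype Ω] {a b : Ω} {H : Subgroup G}
  [Fintype G] [IsSimpleGroup G] (hh : Hyp a b H)
include hh

local notation "B" => MulAction.stabilizer G a

theorem inner_perm [Fintype B] :
    Cfsg.classInner (Cfsg.indFun B fun _ => 1) (Cfsg.indFun B fun _ => 1) = ((2 : ℕ) : ℂ) := by
  classical
  haveI := pretransitive hh.cfg
  have hfix : ∀ g : G, Cfsg.indFun B (fun _ => 1) g = (nfix Ω g : ℂ) := by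
    intro g
    rw [IndBasic.indFun_one_eq_card_fixed, nfix]
    refine congrArg _ (Nat.card_congr (Equiv.subtypeEquiv
      (Equiv.ofBijective (MulAction.ofQuotientStabilizer G a)
        ⟨MulAction.injective_ofQuotientStabilizer G a, fun c => by
          obtain ⟨x, hx⟩ := MulAction.exists_smul_eq G a c
          exact ⟨(x : G ⧸ B), hx⟩⟩) fun q => ?_))
    show g • q = q ↔ g • MulAction.ofQuotientStabilizer G a q = MulAction.ofQuotientStabilizer G a q
    rw [← MulAction.ofQuotientStabilizer_smul]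
    exact ⟨fun h => by rw [h], fun h => MulAction.injective_ofQuotientStabilizer G a h⟩
  have h2 : ∑ g : G, (nfix Ω g : ℤ) * nfix Ω g = 2 * Nat.card G := by
    have h1 : ∀ g : G, (nfix Ω g : ℤ) * nfix Ω g =
        (nfix Ω g : ℤ) * ((nfix Ω g : ℤ) - 1) + nfix Ω g := fun g => by ring
    rw [Finset.sum_congr rfl fun g _ => h1 g, Finset.sum_add_distrib,
      sum_nfix_sub hh.cfg.zass hh.cfg.ne, sum_nfix hh.cfg.zass, card_group' hh.cfg, ← hh.cfg.card]
    push_cast; ring
  rw [classInner_def]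
  simp only [hfix, Complex.conj_natCast]
  have h3 : ∑ g : G, (nfix Ω g : ℂ) * (nfix Ω g : ℂ) = ((2 * Nat.card G : ℤ) : ℂ) := by
    rw [← h2]; push_cast; rfl
  rw [h3, inv_mul_eq_iff_eq_mul₀ natCard_ne_zero]
  push_cast; ring

/-- Fixed points conjugate an element into the point stabiliser. -/
theorem exists_conj_stab {g : G} {c : Ω} (hc : g • c = c) :
    ∃ t : G, (t * g * t⁻¹) • a = a := by
  haveI := pretransitive hh.cfg
  obtain ⟨t, ht⟩ := MulAction.exists_smul_eq G c a
  exact ⟨t, by rw [mul_smul, mul_smul, show t⁻¹ • a = c by rw [← ht, inv_smul_smul], hc, ht]⟩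

theorem exists_exceptional (q : ℕ) (hq : Nat.card (V hh) = q) (hbig : q ^ 3 ≤ Nat.card H) :
    ∃ (s : ℕ) (μ : Fin s → G → ℂ), 5 ≤ s ∧
      ((s * Nat.card (two (G := G) a b) + 1) * q = Nat.card H) ∧
      (∀ i, Cfsg.IsIrrCharacter G (μ i)) ∧ Function.Injective μ ∧
      (∀ i, μ i ≠ fun _ => 1) ∧
      (∀ g : G, (∀ c : Ω, g • c ≠ c) → ∀ i j, μ i g = μ j g) ∧
      ∀ i, ∃ (N : ℕ) (x c ε : ℤ), 0 < N ∧ ε * ε = 1 ∧ μ i 1 = (N : ℂ) ∧
        (∀ v ∈ V hh, v ≠ 1 → μ i v = (x : ℂ)) ∧
        (∀ g : G, g • a = a → g ∉ H → μ i g = 0) ∧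
        (q : ℤ) * Nat.card (two (G := G) a b) * (s * c + ε) = N + ((q : ℤ) - 1) * x ∧
        ∀ M : ℤ, (N : ℤ) = Nat.card (two (G := G) a b) * (s * c + ε + M) →
          ((Nat.card H : ℤ) + 1) * Nat.card (two (G := G) a b) *
            ((s * Nat.card (two (G := G) a b) + 1 : ℕ) * (s * c ^ 2 + 2 * ε * c) + M ^ 2) ≤
            (s * Nat.card (two (G := G) a b) + 1 : ℕ) * (N : ℤ) ^ 2 := by
  classical
  haveI := Fintype.ofFinite (MulAction.stabilizer G a)
  haveI := Fintype.ofFinite (Cfsg.IrrCharacter B)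
  haveI := kernel_normal hh
  haveI := V_sub_normal hh
  set d := Nat.card (two (G := G) a b) with hd
  set K := H.subgroupOf B with hKdef
  have hd3 := three_le_d hh
  have hqd : q = d + 1 := by rw [← hq, card_V hh]
  let S := {ξ : Cfsg.IrrCharacter B // TIFrobenius.Rel K (ξ : B → ℂ) ∧ TrivV hh (ξ : B → ℂ)}
  set s := Nat.card S with hs
  have hcount : (s * d + 1) * q = Nat.card H := by rw [← hq]; exact card_family hh
  have hs5 : 5 ≤ s := by
    by_contra h
    have h1 : s * d ≤ 4 * d := Nat.mul_le_mul_right _ (by omega)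
    have h2 : q * q * q ≤ (4 * d + 1) * q := by
      refine le_trans (le_of_eq (by ring)) (le_trans hbig ?_)
      rw [← hcount]; exact Nat.mul_le_mul_right _ (by omega)
    have h3 : q * q ≤ 4 * d + 1 := Nat.le_of_mul_le_mul_right h2 (by omega)
    have h4 : 4 * q ≤ q * q := Nat.mul_le_mul_right _ (by omega)
    omega
  let eS : Fin s ≃ S := (Finite.equivFin S).symm
  let i₀ : Fin s := ⟨0, by omega⟩
  let ξ : Fin s → B → ℂ := fun i => ((eS i).1 : B → ℂ)
  have hξinj : ∀ {i j}, ξ i = ξ j → i = j := fun {i j} h =>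
    eS.injective (Subtype.ext (Subtype.ext h))
  have hξirr : ∀ i, Cfsg.IsIrrCharacter B (ξ i) := fun i => (eS i).1.2
  have hξmem : ∀ i, ξ i ∈ TI.nontrivOn B K := fun i => ⟨hξirr i, (eS i).2.1⟩
  have hξdeg : ∀ i, ξ i 1 = (d : ℂ) := fun i => degree_trivV hh (hξirr i) (eS i).2.1 (eS i).2.2
  have hTI : ∀ y : B, y ∈ K → y ≠ 1 → ∀ t : G, ∀ ht : t⁻¹ * (y : G) * t ∈ B,
      (⟨_, ht⟩ : B) ∈ K → t ∈ B := fun y hy hy1 t ht htK => by
    have := mem_stabilizer_of_conj hh.cfg hy (fun e => hy1 (Subtype.ext e))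
      (t := t⁻¹) (by rw [inv_inv]; exact htK)
    simpa using Subgroup.inv_mem _ this
  obtain ⟨hiso, hiso1⟩ := TI.ind_isometry B K (cent_le hh) hTI (T := TI.nontrivOn B K) subset_rfl
  have hmemd : ∀ i, ξ i - ξ i₀ ∈ Cfsg.zspanOn (TI.nontrivOn B K) {1}ᶜ := fun i =>
    mem_zspanOn_compl_one ((zS _).sub_mem (mem_zS (hξmem i)) (mem_zS (hξmem i₀)))
      (by simp [hξdeg])
  let τ : Fin s → G → ℂ := fun i => Cfsg.indFun B (ξ i - ξ i₀)
  have hξinner : ∀ i j, Cfsg.classInner (ξ i) (ξ j) = if i = j then 1 else 0 := fun i j => by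
    split_ifs with h
    · rw [h]; exact classInner_isIrr_self (hξirr j)
    · exact classInner_isIrr_ne (hξirr i) (hξirr j) fun e => h (hξinj e)
  have hgram : ∀ i j, i ≠ i₀ → j ≠ i₀ → Cfsg.classInner (τ i) (τ j) = if i = j then 2 else 1 := by
    intro i j hi hj
    rw [show Cfsg.classInner (τ i) (τ j) = Cfsg.classInner (ξ i - ξ i₀) (ξ j - ξ i₀) from
      hiso.2.2.1 _ (hmemd i) _ (hmemd j)]
    rw [classInner_sub_left, classInner_sub_right, classInner_sub_right, hξinner, hξinner, hξinner,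
      hξinner, if_neg hi, if_neg (Ne.symm hj), if_pos rfl]
    split_ifs <;> norm_num
  obtain ⟨ε, hε, μ, hμ, hμinj, hτμ⟩ := exists_coherent_family i₀ τ
    (by simp only [τ, sub_self]; exact indFun_zero B)
    (fun i => hiso.2.2.2 _ (hmemd i)) (fun i => hiso1 _ (hmemd i)) hgram
  obtain ⟨εi, hεi, rfl⟩ : ∃ z : ℤ, z * z = 1 ∧ ε = (z : ℂ) := by
    rcases hε with rfl | rfl
    · exact ⟨1, one_mul 1, by simp⟩
    · exact ⟨-1, by norm_num, by simp⟩
  have hεne : (εi : ℂ) ≠ 0 := by
    intro e; rw [Int.cast_eq_zero] at e; rw [e] at hεi; norm_num at hεi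
  have hμinner : ∀ i j, Cfsg.classInner (μ i) (μ j) = if i = j then 1 else 0 := fun i j => by
    split_ifs with h
    · rw [h]; exact classInner_isIrr_self (hμ j)
    · exact classInner_isIrr_ne (hμ i) (hμ j) fun e => h (hμinj e)
  -- products with the differences
  have hflat : ∀ Φ : G → ℂ, Cfsg.IsClassFunction G Φ →
      (∀ u : B, u ∈ K → u ≠ 1 → Φ u = 1) → ∀ i, Cfsg.classInner Φ (τ i) = 0 := by
    intro Φ hΦ h1 i
    show Cfsg.classInner Φ (Cfsg.indFun B (ξ i - ξ i₀)) = 0
    rw [frobenius_reciprocity' B _ hΦ]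
    have e : Cfsg.classInner (fun u : B => Φ u) (ξ i - ξ i₀) =
        Cfsg.classInner (fun _ : B => (1 : ℂ)) (ξ i - ξ i₀) := by
      simp only [classInner_def]
      refine congrArg _ (Finset.sum_congr rfl fun u _ => ?_)
      by_cases hu : u ∈ K
      · by_cases hu1 : u = 1
        · subst hu1
          rw [show (ξ i - ξ i₀) 1 = 0 by simp [hξdeg], map_zero, mul_zero, mul_zero]
        · rw [h1 u hu hu1]
      · rw [Pi.sub_apply, TIFrobenius.vanish_off (cent_le hh) (hξirr i) (eS i).2.1 hu,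
          TIFrobenius.vanish_off (cent_le hh) (hξirr i₀) (eS i₀).2.1 hu, sub_self, map_zero,
          mul_zero, mul_zero]
    rw [e, classInner_sub_right]
    have h0 : ∀ j, Cfsg.classInner (fun _ : B => (1 : ℂ)) (ξ j) = 0 := fun j =>
      classInner_isIrr_ne isIrrCharacter_one (hξirr j) fun e => by
        obtain ⟨k, hk, hne⟩ := (eS j).2.1
        exact hne (by show ξ j k = ξ j 1; rw [← e])
    rw [h0, h0, sub_zero]
  have hconstmul : ∀ Φ : G → ℂ, (∀ i, Cfsg.classInner Φ (τ i) = 0) →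
      ∀ i, Cfsg.classInner Φ (μ i) = Cfsg.classInner Φ (μ i₀) := by
    intro Φ h i
    have := h i
    rw [hτμ, classInner_smul_right, classInner_sub_right, mul_eq_zero, sub_eq_zero] at this
    exact this.resolve_left (by simpa using hεne)
  have hkill : ∀ Φ : G → ℂ, Cfsg.IsCharacter G Φ → (∀ u : B, u ∈ K → u ≠ 1 → Φ u = 1) →
      ∀ {n : ℕ}, Cfsg.classInner Φ Φ = (n : ℂ) → n ≤ 2 → ∀ i, Cfsg.classInner Φ (μ i) = 0 := by
    intro Φ hΦ h1 n hn hn2 i
    have hcm := hconstmul Φ (hflat Φ (char_isClassFunction hΦ) h1)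
    obtain ⟨m, hm⟩ := classInner_char_nat hΦ (isCharacter_of_isIrr (hμ i₀))
    have h0 := eq_zero_of_many μ hμ hμinj (char_isClassFunction hΦ) hn (by omega) (m := (m : ℤ))
      (fun j => by rw [hcm, hm]; norm_cast)
    rw [hcm, hm]; exact_mod_cast h0
  have hone : ∀ i, μ i ≠ fun _ => 1 := fun i e => by
    have := hkill _ isCharacter_one (fun _ _ _ => rfl) (n := 1)
      (by rw [Nat.cast_one]; exact classInner_isIrr_self isIrrCharacter_one) (by norm_num) i
    rw [e, classInner_isIrr_self isIrrCharacter_one] at this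
    exact one_ne_zero this
  have hfree : ∀ g : G, (∀ c : Ω, g • c ≠ c) → ∀ i, μ i g = μ i₀ g := by
    intro g hg i
    have h0 : τ i g = 0 := by
      refine mul_left_cancel₀ (natCard_ne_zero (G := B)) ?_
      rw [mul_zero, IndBasic.card_mul_indFun]
      refine Finset.sum_eq_zero fun t _ => IndBasic.extendByZero_of_notMem B _ fun hm => hg (t • a) ?_
      have hm' : (t⁻¹ * g * t) • a = a := hm
      rwa [mul_smul, mul_smul, inv_smul_eq_iff] at hm'
    rw [hτμ, Pi.smul_apply, Pi.sub_apply, smul_eq_mul, mul_eq_zero, sub_eq_zero] at h0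
    exact h0.resolve_left hεne
  refine ⟨s, μ, hs5, hcount, hμ, hμinj, hone,
    fun g hg i j => (hfree g hg i).trans (hfree g hg j).symm, fun i₁ => ?_⟩
  set X := μ i₁
  have hXc := isCharacter_of_isIrr (hμ i₁)
  set r : B → ℂ := fun y => X y with hr
  have hrc : Cfsg.IsCharacter B r := isCharacter_restrict B hXc
  choose m hm using fun ψ : Cfsg.IrrCharacter B => classInner_char_nat hrc (irr_isCharacter ψ)
  obtain ⟨hlin, -⟩ := not_rel_irr hh.cfg hh.odd (L := B) rfl
  have hlin0 : ∀ ψ : Cfsg.IrrCharacter B, ¬ TIFrobenius.Rel K (ψ : B → ℂ) → m ψ = 0 := by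
    intro ψ hψ
    obtain ⟨h1, hH⟩ := hlin _ ψ.2 hψ
    set Φ := Cfsg.indFun B (ψ : B → ℂ) with hΦ
    have hΦc : Cfsg.IsCharacter G Φ := isCharacter_indFun B (irr_isCharacter ψ)
    have hval : ∀ u : B, u ∈ K → u ≠ 1 → Φ u = 1 := fun u hu hu1 => by
      refine mul_left_cancel₀ (natCard_ne_zero (G := B)) ?_
      rw [IndBasic.card_mul_indFun, mul_one]
      have hterm : ∀ t : G, Cfsg.extendByZero B (ψ : B → ℂ) (t⁻¹ * (u : G) * t) =
          if t ∈ B then 1 else 0 := by
        intro t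
        split_ifs with ht
        · have hm' : t⁻¹ * (u : G) * t ∈ H := by
            simpa using conj_mem hh.cfg (Subgroup.inv_mem _ ht) hu
          rw [IndBasic.extendByZero_of_mem B _ (hh.cfg.le hm')]
          exact hH _ hm'
        · refine IndBasic.extendByZero_of_notMem B _ fun hm' => ht ?_
          have hm'' : (t⁻¹ * (u : G) * t) • a = a := hm'
          rw [mul_smul, mul_smul, inv_smul_eq_iff] at hm''
          exact hh.cfg.fix u hu (fun e => hu1 (Subtype.ext e)) _ hm''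
      rw [Finset.sum_congr rfl fun t _ => hterm t, Finset.sum_boole, ← Fintype.card_subtype,
        ← Nat.card_eq_fintype_card]
    have e : (m ψ : ℂ) = conj (Cfsg.classInner Φ X) := by
      rw [← hm ψ, hΦ, frobenius_reciprocity B _ (char_isClassFunction hXc), ← classInner_conj_symm]
    have hnorm : ∃ n : ℕ, Cfsg.classInner Φ Φ = (n : ℂ) ∧ n ≤ 2 := by
      by_cases hψ1 : (ψ : B → ℂ) = fun _ => 1
      · exact ⟨2, by rw [hΦ, hψ1]; exact inner_perm hh, le_rfl⟩
      · refine ⟨1, ?_, by norm_num⟩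
        rw [Nat.cast_one]
        refine classInner_isIrr_self (S0881.result hh.cfg.zass hh.cfg.ne hh.odd ?_ H hh.cfg.le hh.cfg.card
          hh.cfg.fix _ ⟨irr_isCharacter ψ, h1⟩ hH hψ1).1
        show d < Fintype.card Ω - 2
        have h1' : q ^ 3 ≤ Nat.card H := hbig
        have h2' : q * q ≤ q ^ 3 := by rw [pow_succ, sq]; exact Nat.le_mul_of_pos_right _ (by omega)
        have h3' : 4 * q ≤ q * q := Nat.mul_le_mul_right _ (by omega)
        have := hh.cfg.card
        omega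
    obtain ⟨n, hn, hn2⟩ := hnorm
    rw [hkill Φ hΦc hval hn hn2 i₁, map_zero] at e
    exact_mod_cast e
  have hvan : ∀ g : G, g • a = a → g ∉ H → X g = 0 := by
    intro g hga hgH
    have h1 := congrFun (classFun_eq_sum (char_isClassFunction hrc)) ⟨g, hga⟩
    simp only [Finset.sum_apply, Pi.smul_apply, smul_eq_mul, hm] at h1
    rw [show X g = r ⟨g, hga⟩ from rfl, h1]
    refine Finset.sum_eq_zero fun ψ _ => ?_
    by_cases hψ : TIFrobenius.Rel K (ψ : B → ℂ)
    · rw [TIFrobenius.vanish_off (cent_le hh) ψ.2 hψ (x := ⟨g, hga⟩) hgH, mul_zero]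
    · rw [hlin0 ψ hψ, Nat.cast_zero, zero_mul]
  -- the multiplicities of the family
  set m' : Fin s → ℤ := fun i => (m (eS i).1 : ℤ) with hm'
  have hdiff : ∀ i, m' i - m' i₀ = εi * ((if i₁ = i then 1 else 0) - (if i₁ = i₀ then 1 else 0)) := by
    intro i
    have e : Cfsg.classInner X (τ i) = Cfsg.classInner r (ξ i - ξ i₀) :=
      frobenius_reciprocity' B _ (char_isClassFunction hXc)
    rw [hτμ, classInner_smul_right, classInner_sub_right, classInner_sub_right, hμinner, hμinner,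
      show Cfsg.classInner r (ξ i) = (m (eS i).1 : ℂ) from hm _,
      show Cfsg.classInner r (ξ i₀) = (m (eS i₀).1 : ℂ) from hm _,
      show conj ((εi : ℂ)) = (εi : ℂ) from map_intCast _ _] at e
    simp only [hm']
    exact_mod_cast e.symm
  set c : ℤ := m' i₁ - εi with hc
  have hmc : ∀ i, m' i = c + εi * (if i₁ = i then 1 else 0) := by
    intro i
    have h1 := hdiff i
    have h2 := hdiff i₁
    rw [if_pos rfl] at h2
    rw [hc]
    linarith
  have hA : ∑ i, m' i = s * c + εi := by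
    rw [Finset.sum_congr rfl fun i _ => hmc i, Finset.sum_add_distrib, Finset.sum_const,
      Finset.card_univ, Fintype.card_fin, ← Finset.mul_sum, Finset.sum_ite_eq, if_pos (Finset.mem_univ _),
      nsmul_eq_mul, mul_one]
  have hA2 : ∑ i, m' i ^ 2 = s * c ^ 2 + 2 * εi * c + 1 := by
    have h1 : ∀ i, m' i ^ 2 = c ^ 2 + (2 * εi * c + 1) * (if i₁ = i then 1 else 0) := fun i => by
      rw [hmc i]
      split_ifs
      · linear_combination hεi
      · ring
    rw [Finset.sum_congr rfl fun i _ => h1 i, Finset.sum_add_distrib, Finset.sum_const,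
      Finset.card_univ, Fintype.card_fin, ← Finset.mul_sum, Finset.sum_ite_eq, if_pos (Finset.mem_univ _),
      nsmul_eq_mul, mul_one]
    ring
  obtain ⟨N, hNpos, hN⟩ := irr_one_pos (hμ i₁)
  -- the two parts of the restriction
  let Sf := Finset.univ.filter fun ψ : Cfsg.IrrCharacter B =>
    TIFrobenius.Rel K (ψ : B → ℂ) ∧ TrivV hh (ψ : B → ℂ)
  let Of := Finset.univ.filter fun ψ : Cfsg.IrrCharacter B =>
    TIFrobenius.Rel K (ψ : B → ℂ) ∧ ¬ TrivV hh (ψ : B → ℂ)
  let Lf := Finset.univ.filter fun ψ : Cfsg.IrrCharacter B => ¬ TIFrobenius.Rel K (ψ : B → ℂ)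
  have hsplit : ∀ {R : Type} [AddCommMonoid R] (f : Cfsg.IrrCharacter B → R),
      ∑ ψ, f ψ = ∑ ψ ∈ Sf, f ψ + ∑ ψ ∈ Of, f ψ + ∑ ψ ∈ Lf, f ψ := by
    intro R _ f
    rw [← Finset.sum_filter_add_sum_filter_not Finset.univ
      (fun ψ : Cfsg.IrrCharacter B => TIFrobenius.Rel K (ψ : B → ℂ))]
    congr 1
    rw [← Finset.sum_filter_add_sum_filter_not (Finset.univ.filter _)
      (fun ψ : Cfsg.IrrCharacter B => TrivV hh (ψ : B → ℂ)), Finset.filter_filter, Finset.filter_filter]
  have hSf : ∀ {R : Type} [AddCommMonoid R] (f : Cfsg.IrrCharacter B → R),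
      ∑ ψ ∈ Sf, f ψ = ∑ i, f (eS i).1 := by
    intro R _ f
    rw [← Finset.sum_subtype Sf (p := fun ψ : Cfsg.IrrCharacter B =>
      TIFrobenius.Rel K (ψ : B → ℂ) ∧ TrivV hh (ψ : B → ℂ)) (fun ψ => by simp [Sf]) f |>.symm]
    exact (Equiv.sum_comp eS (fun ψ => f ψ.1)).symm
  choose dg hdg using fun ψ : Cfsg.IrrCharacter B => char_one_nat (irr_isCharacter ψ)
  have hdgS : ∀ i, dg (eS i).1 = d := fun i => by
    have := (hdg (eS i).1).symm.trans (hξdeg i); exact_mod_cast this
  have hNsum : (N : ℤ) = d * (s * c + εi) + ∑ ψ ∈ Of, (m ψ : ℤ) * dg ψ := by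
    have h1 := congrFun (classFun_eq_sum (char_isClassFunction hrc)) 1
    simp only [Finset.sum_apply, Pi.smul_apply, smul_eq_mul, hm, hdg] at h1
    rw [show r 1 = (N : ℂ) from hN] at h1
    have h2 : (N : ℤ) = ∑ ψ, (m ψ : ℤ) * dg ψ := by exact_mod_cast h1
    rw [hsplit, hSf, Finset.sum_eq_zero (s := Lf) (fun ψ hψ => by
      rw [hlin0 ψ (Finset.mem_filter.1 hψ).2, Nat.cast_zero, zero_mul]), add_zero] at h2
    rw [h2, ← hA, Finset.mul_sum]
    congr 1
    exact Finset.sum_congr rfl fun i _ => by rw [hdgS i]; ring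
  -- the value on the involutions
  obtain ⟨z, hz, hz1⟩ := exists_inv_two hh
  set W := (V hh).subgroupOf B with hW
  haveI := Fintype.ofFinite W
  have hconstV : ∀ (f : G → ℂ), Cfsg.IsClassFunction G f → ∀ v ∈ V hh, v ≠ 1 → f v = f z := by
    intro f hf v hv hv1
    obtain ⟨t, ht, rfl⟩ := exists_conj hh hz hz1 hv hv1
    exact hf z t
  have hVsum : ∑ w : W, X ((w : B) : G) = ((q : ℂ) * d * ((s : ℂ) * c + εi)) := by
    have hexp := classFun_eq_sum (char_isClassFunction hrc)
    have h1 : ∀ w : W, X ((w : B) : G) = ∑ ψ, (m ψ : ℂ) * (ψ : B → ℂ) w := fun w => by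
      rw [show X ((w : B) : G) = r w from rfl]
      conv_lhs => rw [hexp]
      simp [hm]
    rw [Finset.sum_congr rfl fun w _ => h1 w, Finset.sum_comm]
    simp only [← Finset.mul_sum]
    rw [hsplit, hSf, Finset.sum_eq_zero (s := Lf) (fun ψ hψ => by
      rw [hlin0 ψ (Finset.mem_filter.1 hψ).2, Nat.cast_zero, zero_mul]), add_zero,
      Finset.sum_eq_zero (s := Of) (fun ψ hψ => ?_), add_zero]
    · have hcW : (Fintype.card W : ℂ) = q := by
        rw [← Nat.card_eq_fintype_card, hW, card_V_sub hh, hq]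
      rw [Finset.sum_congr rfl (g := fun i => ((m' i : ℤ) : ℂ) * ((q : ℂ) * d)) fun i _ => ?_,
        ← Finset.sum_mul, ← Int.cast_sum, hA]
      · push_cast; ring
      · have hξW : ∀ w : W, ((eS i).1 : B → ℂ) (w : B) = (d : ℂ) := fun w =>
          ((eS i).2.2 (w : B) w.2).trans (hξdeg i)
        simp only [hξW, Finset.sum_const, Finset.card_univ, nsmul_eq_mul, hcW]
        simp [hm']
    · obtain ⟨-, hψ'⟩ := (Finset.mem_filter.1 hψ).2
      refine mul_eq_zero_of_right _ ?_
      by_contra hne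
      apply hψ'
      have hWirr : Cfsg.classInner (fun w : W => (ψ : B → ℂ) w) (fun _ : W => (1 : ℂ)) ≠ 0 := by
        rw [classInner_def]; simp only [map_one, mul_one]
        exact mul_ne_zero (inv_ne_zero natCard_ne_zero) hne
      have hresW : Cfsg.IsCharacter W (fun w : W => (ψ : B → ℂ) w) :=
        isCharacter_restrict W (irr_isCharacter ψ)
      intro x hx
      haveI := Fintype.ofFinite (Cfsg.IrrCharacter W)
      have h3 := classFun_eq_sum (char_isClassFunction hresW)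
      have hzero : ∀ η : Cfsg.IrrCharacter W, η ≠ trivIrr W →
          Cfsg.classInner (fun w : W => (ψ : B → ℂ) w) (η : W → ℂ) = 0 := by
        intro η hη
        by_contra hη0
        obtain ⟨t, ht⟩ := exists_conjugate_of_constituents W ψ.2 isIrrCharacter_one η.2 hWirr hη0
        exact hη (Subtype.ext (ht.trans rfl))
      rw [Finset.sum_eq_single (trivIrr W) (fun η _ hη => by rw [hzero η hη, zero_smul])
        (by simp)] at h3
      have ha := congrFun h3 ⟨x, hx⟩
      have hb := congrFun h3 1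
      simp only [Pi.smul_apply, trivIrr_coe, OneMemClass.coe_one] at ha hb
      exact ha.trans hb.symm
  have hVsum' : ∑ w : W, X ((w : B) : G) = (N : ℂ) + ((q : ℂ) - 1) * X z := by
    rw [← Finset.add_sum_erase _ _ (Finset.mem_univ (1 : W)), Finset.sum_congr rfl
      (g := fun _ => X z) fun w hw => hconstV X (char_isClassFunction hXc) _ w.2 fun e =>
        Finset.ne_of_mem_erase hw (Subtype.ext (Subtype.ext e)),
      Finset.sum_const, Finset.card_erase_of_mem (Finset.mem_univ _), Finset.card_univ,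
      ← Nat.card_eq_fintype_card, hW, card_V_sub hh, hq, nsmul_eq_mul,
      Nat.cast_sub (by omega), Nat.cast_one]
    simp only [OneMemClass.coe_one]
    exact congrArg (· + _) hN
  obtain ⟨x, hx⟩ : ∃ x : ℤ, X z = (x : ℂ) := by
    have hne : ((q : ℂ) - 1) ≠ 0 := by
      rw [sub_ne_zero, ne_eq, Nat.cast_eq_one]; omega
    have e : X z = ((((q : ℚ) * d * ((s : ℚ) * c + εi) - N) / ((q : ℚ) - 1) : ℚ) : ℂ) := by
      push_cast
      rw [eq_div_iff hne]
      linear_combination hVsum'.symm.trans hVsum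
    have hint : IsIntegral ℤ (X z) := char_value_isIntegral hXc z
    rw [e] at hint
    obtain ⟨x, hx⟩ := exists_int_of_isIntegral_ratCast hint
    exact ⟨x, e.trans (by rw [hx])⟩
  refine ⟨N, x, c, εi, hNpos, hεi, hN,
    fun v hv hv1 => (hconstV X (char_isClassFunction hXc) v hv hv1).trans hx, hvan, ?_, fun M hM => ?_⟩
  · have := hVsum.symm.trans hVsum'
    rw [hx] at this
    exact_mod_cast this
  -- the norm inequality
  have hOf : ∑ ψ ∈ Of, (m ψ : ℤ) * dg ψ = d * M := by rw [hM] at hNsum; linarith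
  have hBcard : (Nat.card B : ℤ) = Nat.card H * d := by
    exact_mod_cast card_stabilizer hh.cfg
  have hOf2 : ∑ ψ ∈ Of, (dg ψ : ℤ) ^ 2 = (d : ℤ) ^ 2 * (s * d + 1 : ℕ) := by
    have h1 := sum_degree_sq (G := B)
    simp only [hdg] at h1
    have h2 : ∑ ψ : Cfsg.IrrCharacter B, (dg ψ : ℤ) ^ 2 = (Nat.card B : ℤ) := by exact_mod_cast h1
    have hL : ∑ ψ ∈ Lf, (dg ψ : ℤ) ^ 2 = d := by
      rw [Finset.sum_congr rfl (g := fun _ => (1 : ℤ)) fun ψ hψ => by
        have := (hdg ψ).symm.trans (hlin _ ψ.2 (Finset.mem_filter.1 hψ).2).1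
        have : dg ψ = 1 := by exact_mod_cast this
        rw [this]; norm_num, Finset.sum_const, nsmul_eq_mul, mul_one, ← Fintype.card_subtype,
        ← Nat.card_eq_fintype_card, (not_rel_irr hh.cfg hh.odd (L := B) rfl).2]
    rw [hsplit, hSf, hL, Finset.sum_congr rfl (g := fun _ => (d : ℤ) ^ 2) fun i _ => by rw [hdgS i],
      Finset.sum_const, Finset.card_univ, Fintype.card_fin, nsmul_eq_mul, hBcard, ← hcount, hqd] at h2
    push_cast at h2 ⊢
    linear_combination h2
  set T2 := ∑ ψ ∈ Of, (m ψ : ℤ) ^ 2 with hT2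
  have hCS : M ^ 2 ≤ T2 * (s * d + 1 : ℕ) := by
    have h1 := Finset.sum_mul_sq_le_sq_mul_sq Of (fun ψ => (m ψ : ℤ)) (fun ψ => (dg ψ : ℤ))
    rw [hOf, hOf2] at h1
    have hdpos : (0 : ℤ) < (d : ℤ) ^ 2 := by positivity
    refine le_of_mul_le_mul_left ?_ hdpos
    nlinarith
  have hnormB : ∑ ψ : Cfsg.IrrCharacter B, (m ψ : ℤ) ^ 2 = s * c ^ 2 + 2 * εi * c + 1 + T2 := by
    rw [hsplit, hSf, Finset.sum_eq_zero (s := Lf) (fun ψ hψ => by
      rw [hlin0 ψ (Finset.mem_filter.1 hψ).2]; simp), add_zero, ← hA2]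
  -- the sum of squares over the group
  let F : G → ℝ := fun g => ‖X g‖ ^ 2
  have hG : ∑ g : G, F g = (Nat.card G : ℝ) := by
    have h1 := classInner_isIrr_self (hμ i₁)
    rw [classInner_def, inv_mul_eq_one₀ natCard_ne_zero] at h1
    simp only [Complex.mul_conj'] at h1
    have h2 : ((Nat.card G : ℝ) : ℂ) = ((∑ g : G, F g : ℝ) : ℂ) := by
      simp only [F]; push_cast; exact h1
    exact (Complex.ofReal_inj.1 h2).symm
  have hB : ∑ u : B, F u = ((Nat.card H * d : ℤ) : ℝ) * ((∑ ψ : Cfsg.IrrCharacter B, (m ψ : ℤ) ^ 2 : ℤ) : ℝ) := by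
    have h1 := classInner_eq_sum r (char_isClassFunction hrc)
    rw [classInner_def, inv_mul_eq_iff_eq_mul₀ natCard_ne_zero] at h1
    have h2 : ((∑ u : B, F u : ℝ) : ℂ) =
        ((((Nat.card B : ℤ) : ℝ) * ((∑ ψ : Cfsg.IrrCharacter B, (m ψ : ℤ) ^ 2 : ℤ) : ℝ) : ℝ) : ℂ) := by
      simp only [F, hr] at h1 ⊢
      push_cast
      simp only [← Complex.mul_conj']
      rw [h1]
      congr 1
      refine Finset.sum_congr rfl fun ψ _ => ?_
      rw [classInner_conj_symm (fun y : B => X y) (ψ : B → ℂ), hm, Complex.conj_natCast, sq]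
    rw [← hBcard]
    exact Complex.ofReal_inj.1 h2
  have hBK : ∑ u : B, F u = ∑ u ∈ Finset.univ.filter (fun u : G => u ∈ H), F u := by
    rw [← Finset.sum_filter_of_ne (p := fun u : B => (u : G) ∈ H)]
    · refine Finset.sum_bij (fun u _ => (u : G)) ?_ ?_ ?_ ?_
      · exact fun u hu => by simpa using hu
      · exact fun u _ u' _ e => Subtype.ext e
      · exact fun u hu => ⟨⟨u, hh.cfg.le (by simpa using hu)⟩, by simpa using hu, rfl⟩
      · exact fun _ _ => rfl
    · intro u _ hu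
      by_contra huH
      exact hu (by simp [F, hvan u u.2 huH])
  haveI := pretransitive hh.cfg
  choose rep hrep using fun p : Ω => MulAction.exists_smul_eq G a p
  let U1 := (Finset.univ.filter fun u : G => u ∈ H).erase 1
  let φ : Ω × G → G := fun p => rep p.1 * p.2 * (rep p.1)⁻¹
  have hφfix : ∀ p ∈ (Finset.univ : Finset Ω) ×ˢ U1, φ p • p.1 = p.1 ∧ φ p ≠ 1 ∧
      ∀ p' : Ω, φ p • p' = p' → p' = p.1 := by
    rintro ⟨p, u⟩ hp
    simp only [Finset.mem_product, Finset.mem_univ, true_and, U1, Finset.mem_erase, Finset.mem_filter] at hp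
    have hua : u • a = a := hh.cfg.le hp.2
    refine ⟨?_, fun e => hp.1 (conj_eq_one_iff.1 e), fun p' hp' => ?_⟩
    · show (rep p * u * (rep p)⁻¹) • p = p
      rw [mul_smul, mul_smul, show (rep p)⁻¹ • p = a by rw [inv_smul_eq_iff, hrep], hua, hrep]
    · have hp'' : (rep p * u * (rep p)⁻¹) • p' = p' := hp'
      rw [mul_smul, mul_smul, smul_eq_iff_eq_inv_smul] at hp''
      have := hh.cfg.fix u hp.2 hp.1 _ hp''
      rw [inv_smul_eq_iff, hrep] at this
      exact this
  have hφinj : Set.InjOn φ ((Finset.univ : Finset Ω) ×ˢ U1 : Finset (Ω × G)) := by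
    intro p hp p' hp' e
    obtain ⟨h1, -, h3⟩ := hφfix p hp
    obtain ⟨h1', -, -⟩ := hφfix p' hp'
    rw [← e] at h1'
    have hpp : p'.1 = p.1 := h3 _ h1'
    refine Prod.ext hpp.symm ?_
    simp only [φ, hpp] at e
    exact mul_left_cancel (mul_right_cancel e)
  have h1U : (1 : G) ∉ ((Finset.univ : Finset Ω) ×ˢ U1).image φ := by
    intro h
    obtain ⟨p, hp, e⟩ := Finset.mem_image.1 h
    exact (hφfix p hp).2.1 e
  have hlow : F 1 + (Fintype.card Ω : ℝ) * (∑ u : B, F u - F 1) ≤ ∑ g : G, F g := by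
    refine le_trans (le_of_eq ?_) (Finset.sum_le_sum_of_subset_of_nonneg
      (Finset.subset_univ (insert (1 : G) (((Finset.univ : Finset Ω) ×ˢ U1).image φ)))
      fun _ _ _ => by positivity)
    rw [Finset.sum_insert h1U, Finset.sum_image hφinj, Finset.sum_product,
      Finset.sum_congr rfl (g := fun _ => ∑ u ∈ U1, F u) fun p _ => Finset.sum_congr rfl fun u _ => by
        show F (rep p * u * (rep p)⁻¹) = F u
        show ‖X (rep p * u * (rep p)⁻¹)‖ ^ 2 = ‖X u‖ ^ 2
        rw [show X (rep p * u * (rep p)⁻¹) = X u from char_isClassFunction hXc u (rep p)],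
      Finset.sum_const, Finset.card_univ, nsmul_eq_mul, hBK,
      ← Finset.sum_erase_eq_sub (s := Finset.univ.filter fun u : G => u ∈ H) (by simp)]
  rw [hG, hB, hnormB, ← hh.cfg.card, card_group' hh.cfg, show F 1 = (N : ℝ) ^ 2 by
    show ‖X 1‖ ^ 2 = _; rw [show X 1 = (N : ℂ) from hN, Complex.norm_natCast]] at hlow
  have hlow' : (N : ℤ) ^ 2 + ((Nat.card H : ℤ) + 1) *
      ((Nat.card H : ℤ) * d * (s * c ^ 2 + 2 * εi * c + 1 + T2) - (N : ℤ) ^ 2) ≤
      ((Nat.card H : ℤ) + 1) * ((Nat.card H : ℤ) * d) := by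
    rw [← hd] at hlow
    rw [← Int.cast_le (R := ℝ)]
    push_cast at hlow ⊢
    linarith
  have hh0 : (0 : ℤ) < Nat.card H := by exact_mod_cast Nat.card_pos
  have hmain : ((Nat.card H : ℤ) + 1) * d * (s * c ^ 2 + 2 * εi * c + T2) ≤ (N : ℤ) ^ 2 := by
    refine le_of_mul_le_mul_left ?_ hh0
    linarith
  have hQ0 : (0 : ℤ) ≤ (s * d + 1 : ℕ) := by positivity
  have h7 := mul_le_mul_of_nonneg_left hCS
    (show (0 : ℤ) ≤ ((Nat.card H : ℤ) + 1) * d by positivity)
  have h8 := mul_le_mul_of_nonneg_left hmain hQ0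
  nlinarith

end Cfsg.Agent.Involutions.Suzuki.Zass
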