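import Cfsg.Agent.Lib.Involutions.Suzuki.ZassKernel
import Cfsg.Agent.Lib.CharTheory.Ito

/-!
# Characters of the point stabiliser trivial on `V`

Those not constant on the kernel all have degree `d`, and there are `(|H|/q - 1)/d` of them.
-/

set_option autoImplicit false
set_option linter.unusedSectionVars false
set_option linter.style.haveILetI false

namespace Cfsg.Agent.Involutions.Suzuki.Zass

open Cfsg.Agent.CharTheory.Zassenhaus
open Cfsg.Agent.Characters
open Cfsg.Agent.CharTheory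
open scoped ComplexConjugate

universe u v

variable {G : Type u} {Ω : Type v} [Group G] [MulAction G Ω] [Fintype Ω] {a b : Ω} {H : Subgroup G}
  [Fintype G] [IsSimpleGroup G] (hh : Hyp a b H)
include hh

local notation "B" => MulAction.stabilizer G a

/-- The kernel inside the point stabiliser. -/
theorem kernel_normal : (H.subgroupOf (MulAction.stabilizer G a)).Normal :=
  ⟨fun u hu g => conj_mem hh.cfg g.2 hu⟩

theorem cent_le : TIFrobenius.CentLe (H.subgroupOf (MulAction.stabilizer G a)) := by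
  intro k hk hk1 x hx
  refine centralizer_le_kernel hh.cfg hk (fun e => hk1 (Subtype.ext e)) ?_
  rw [Subgroup.mem_centralizer_singleton_iff] at hx ⊢
  exact congrArg Subtype.val hx

theorem V_sub_normal : ((V hh).subgroupOf (MulAction.stabilizer G a)).Normal :=
  ⟨fun u hu g => conj_V hh g.2 hu⟩

theorem card_kernel_sub : Nat.card (H.subgroupOf (MulAction.stabilizer G a)) = Nat.card H :=
  Nat.card_congr (Subgroup.subgroupOfEquivOfLe hh.cfg.le).toEquiv

theorem card_V_sub : Nat.card ((V hh).subgroupOf (MulAction.stabilizer G a)) = Nat.card (V hh) :=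
  Nat.card_congr (Subgroup.subgroupOfEquivOfLe ((V_le hh).trans hh.cfg.le)).toEquiv

theorem kernel_index :
    (H.subgroupOf (MulAction.stabilizer G a)).index = Nat.card (two (G := G) a b) := by
  have h1 := (H.subgroupOf (MulAction.stabilizer G a)).index_mul_card
  rw [card_kernel_sub hh, card_stabilizer hh.cfg, mul_comm (Nat.card H)] at h1
  exact Nat.eq_of_mul_eq_mul_right Nat.card_pos h1

/-- Trivial on `V`. -/
def TrivV (ξ : MulAction.stabilizer G a → ℂ) : Prop :=
  ∀ x : MulAction.stabilizer G a, x ∈ (V hh).subgroupOf (MulAction.stabilizer G a) → ξ x = ξ 1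

theorem degree_trivV [Fintype B] {ξ : B → ℂ} (hξ : Cfsg.IsIrrCharacter B ξ)
    (hrel : TIFrobenius.Rel (H.subgroupOf B) ξ) (hV : TrivV hh ξ) :
    ξ 1 = (Nat.card (two (G := G) a b) : ℂ) := by
  classical
  haveI := kernel_normal hh
  haveI := V_sub_normal hh
  set K := H.subgroupOf B
  set W := (V hh).subgroupOf B
  obtain ⟨θ, hθ, -, rfl⟩ := TIFrobenius.exists_theta (cent_le hh) hξ hrel
  obtain ⟨ψ, hψ⟩ := exists_deflate (QuotientGroup.mk' W) (QuotientGroup.mk'_surjective W)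
    (isCharacter_of_isIrr hξ) (fun x hx => hV x (by rwa [QuotientGroup.ker_mk'] at hx))
  haveI : (K.map (QuotientGroup.mk' W)).Normal :=
    Subgroup.Normal.map inferInstance _ (QuotientGroup.mk'_surjective W)
  obtain ⟨e, he, hdvd⟩ := Ito.degree_dvd_index_abelian (K.map (QuotientGroup.mk' W)) (by
    rintro _ ⟨x, hx, rfl⟩ _ ⟨y, hy, rfl⟩
    rw [← map_mul, ← map_mul, QuotientGroup.mk'_apply, QuotientGroup.mk'_apply, QuotientGroup.eq]
    show ((x : G) * y)⁻¹ * ((y : G) * x) ∈ V hh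
    rw [show ((x : G) * y)⁻¹ * ((y : G) * x) = (y : G)⁻¹ * (x : G)⁻¹ * (y : G)⁻¹⁻¹ * (x : G)⁻¹⁻¹ by group]
    exact comm_mem_V hh (H.inv_mem hy) (H.inv_mem hx)) (hψ.2.2 hξ)
  have he' : Cfsg.indFun K θ 1 = (e : ℂ) := by
    rw [← he, ← congrFun hψ.2.1 1]
    simp
  obtain ⟨m, hm, hm'⟩ := irr_one_pos hθ
  rw [indFun_one, kernel_index hh, hm'] at he' ⊢
  have hle : e ≤ Nat.card (two (G := G) a b) := by
    refine Nat.le_of_dvd Nat.card_pos (hdvd.trans ?_)
    rw [← kernel_index hh]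
    exact Subgroup.index_map_dvd _ (QuotientGroup.mk'_surjective W)
  have he2 : Nat.card (two (G := G) a b) * m = e := by exact_mod_cast he'
  have hm1 : m = 1 := by
    rcases Nat.lt_or_ge 1 m with h | h
    · have : Nat.card (two (G := G) a b) * 2 ≤ e := he2 ▸ Nat.mul_le_mul_left _ h
      have := three_le_d hh
      omega
    · omega
  rw [hm1, Nat.cast_one, mul_one]

/-- The family of characters trivial on `V`, not constant on the kernel. -/
theorem card_family [Fintype B] :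
    (Nat.card {ξ : Cfsg.IrrCharacter B //
      TIFrobenius.Rel (H.subgroupOf B) (ξ : B → ℂ) ∧ TrivV hh (ξ : B → ℂ)} *
        Nat.card (two (G := G) a b) + 1) * Nat.card (V hh) = Nat.card H := by
  classical
  haveI := kernel_normal hh
  haveI := V_sub_normal hh
  set K := H.subgroupOf B
  set W := (V hh).subgroupOf B
  obtain ⟨hlin, hcard⟩ := not_rel_irr hh.cfg hh.odd rfl
  haveI := Fintype.ofFinite (B ⧸ W)
  haveI := Fintype.ofFinite (Cfsg.IrrCharacter B)
  rw [Nat.card_eq_fintype_card (α := {ξ : Cfsg.IrrCharacter B //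
    TIFrobenius.Rel K (ξ : B → ℂ) ∧ TrivV hh (ξ : B → ℂ)}), Fintype.card_subtype]
  haveI := Fintype.ofFinite (Cfsg.IrrCharacter (B ⧸ W))
  let infl : Cfsg.IrrCharacter (B ⧸ W) → Cfsg.IrrCharacter B := fun ψ =>
    ⟨(ψ : B ⧸ W → ℂ) ∘ QuotientGroup.mk' W,
      isIrrCharacter_comp_surjective _ (QuotientGroup.mk'_surjective W) ψ.2⟩
  have hinfl : Function.Injective infl := fun ψ ψ' e => Subtype.ext (funext fun y => by
    obtain ⟨x, rfl⟩ := QuotientGroup.mk'_surjective W y
    exact congrFun (congrArg Subtype.val e) x)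
  have himg : Finset.univ.image infl =
      Finset.univ.filter fun ξ : Cfsg.IrrCharacter B => TrivV hh (ξ : B → ℂ) := by
    ext ξ
    simp only [Finset.mem_image, Finset.mem_univ, true_and, Finset.mem_filter]
    constructor
    · rintro ⟨ψ, rfl⟩ x hx
      show (ψ : B ⧸ W → ℂ) (QuotientGroup.mk' W x) = (ψ : B ⧸ W → ℂ) (QuotientGroup.mk' W 1)
      rw [map_one, QuotientGroup.mk'_apply, (QuotientGroup.eq_one_iff x).2 hx]
    · intro hV
      obtain ⟨ψ, -, h1, h2⟩ := exists_deflate (QuotientGroup.mk' W) (QuotientGroup.mk'_surjective W)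
        (irr_isCharacter ξ) (fun x hx => hV x (by rwa [QuotientGroup.ker_mk'] at hx))
      exact ⟨⟨ψ, h2 ξ.2⟩, Subtype.ext h1⟩
  have hsum := sum_degree_sq (G := B ⧸ W)
  have hsum' : ∑ ξ ∈ Finset.univ.filter (fun ξ : Cfsg.IrrCharacter B => TrivV hh (ξ : B → ℂ)),
      ((ξ : B → ℂ) 1) ^ 2 = (Nat.card (B ⧸ W) : ℂ) := by
    rw [← himg, Finset.sum_image hinfl.injOn, ← hsum]
    refine Finset.sum_congr rfl fun ψ _ => ?_
    show ((ψ : B ⧸ W → ℂ) (QuotientGroup.mk' W 1)) ^ 2 = _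
    rw [map_one]
  rw [← Finset.sum_filter_add_sum_filter_not _ (fun ξ : Cfsg.IrrCharacter B =>
    TIFrobenius.Rel K (ξ : B → ℂ)), Finset.filter_filter, Finset.filter_filter] at hsum'
  have hnot : (Finset.univ.filter fun ξ : Cfsg.IrrCharacter B =>
      TrivV hh (ξ : B → ℂ) ∧ ¬ TIFrobenius.Rel K (ξ : B → ℂ)) =
      Finset.univ.filter fun ξ : Cfsg.IrrCharacter B => ¬ TIFrobenius.Rel K (ξ : B → ℂ) := by
    refine Finset.filter_congr fun ξ _ => ⟨fun h => h.2, fun h => ⟨fun x hx => ?_, h⟩⟩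
    rw [(hlin _ ξ.2 h).2 x (V_le hh hx), (hlin _ ξ.2 h).1]
  rw [hnot, Finset.sum_congr (s₁ := Finset.univ.filter fun ξ : Cfsg.IrrCharacter B =>
      TrivV hh (ξ : B → ℂ) ∧ TIFrobenius.Rel K (ξ : B → ℂ)) rfl (g := fun _ => ((Nat.card (two (G := G) a b) : ℂ)) ^ 2) (fun ξ hξ => by
      rw [degree_trivV hh ξ.2 (Finset.mem_filter.1 hξ).2.2 (Finset.mem_filter.1 hξ).2.1]),
    Finset.sum_congr (s₁ := Finset.univ.filter fun ξ : Cfsg.IrrCharacter B =>
      ¬ TIFrobenius.Rel K (ξ : B → ℂ)) rfl (g := fun _ => (1 : ℂ)) (fun ξ hξ => by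
      rw [(hlin _ ξ.2 (Finset.mem_filter.1 hξ).2).1, one_pow]),
    Finset.sum_const, Finset.sum_const, ← Fintype.card_subtype (fun ξ : Cfsg.IrrCharacter B =>
      ¬ TIFrobenius.Rel K (ξ : B → ℂ)), ← Nat.card_eq_fintype_card, hcard, nsmul_eq_mul,
    nsmul_eq_mul, mul_one] at hsum'
  have hidx : Nat.card (B ⧸ W) * Nat.card (V hh) = Nat.card H * Nat.card (two (G := G) a b) := by
    rw [← card_V_sub hh, ← card_stabilizer hh.cfg]
    exact W.index_mul_card
  have hfil : (Finset.univ.filter fun ξ : Cfsg.IrrCharacter B => TrivV hh (ξ : B → ℂ) ∧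
      TIFrobenius.Rel K (ξ : B → ℂ)) = Finset.univ.filter fun ξ : Cfsg.IrrCharacter B =>
      TIFrobenius.Rel K (ξ : B → ℂ) ∧ TrivV hh (ξ : B → ℂ) := Finset.filter_congr fun ξ _ => And.comm
  rw [hfil] at hsum'
  set F := (Finset.univ.filter fun ξ : Cfsg.IrrCharacter B =>
    TIFrobenius.Rel K (ξ : B → ℂ) ∧ TrivV hh (ξ : B → ℂ)).card
  have hn : F * Nat.card (two (G := G) a b) ^ 2 + Nat.card (two (G := G) a b) = Nat.card (B ⧸ W) := by
    exact_mod_cast hsum'
  refine Nat.eq_of_mul_eq_mul_right (Nat.card_pos (α := two (G := G) a b)) ?_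
  rw [← hidx, ← hn]; ring

end Cfsg.Agent.Involutions.Suzuki.Zass
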