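import Cfsg.Agent.Lib.Involutions.Suzuki.Torus
import Cfsg.Agent.Lib.Involutions.Suzuki.Family

/-!
# A large family agreeing on the fixed-point-free elements vanishes on the tori
-/

set_option autoImplicit false
set_option linter.unusedSectionVars false
set_option linter.style.haveILetI false

namespace Cfsg.Agent.Involutions.Suzuki.Zass

open Cfsg.Agent.CharTheory.Zassenhaus
open Cfsg.Agent.Characters
open Cfsg.Agent.CharTheory
open scoped ComplexConjugate

universe u v

variable {G : Type u} {Ω : Type v} [Group G] [MulAction G Ω] [Fintype Ω] {a b : Ω} {H : Subgroup G}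
  [Fintype G] [IsSimpleGroup G] {hh : Hyp a b H} {z g : G} (hs : SR hh z g)
include hs

theorem SR.mem_normalizer_of_conj {t x : G} (ht : t ∈ tor g) (ht1 : t ≠ 1)
    (h : x⁻¹ * t * x ∈ tor g) : x ∈ Subgroup.normalizer (tor g : Set G) := by
  have h1 : x⁻¹ * t * x ≠ 1 := fun e => ht1 (by
    rw [show t = x * (x⁻¹ * t * x) * x⁻¹ by group, e, mul_one, mul_inv_cancel])
  have e2 := hs.centralizer_eq h h1
  have e1 := hs.centralizer_eq ht ht1
  rw [Subgroup.mem_normalizer_iff]
  intro y
  constructor
  · intro hy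
    rw [← e2, Subgroup.mem_centralizer_singleton_iff] at hy
    show x * y * x⁻¹ ∈ tor g
    rw [← e1, Subgroup.mem_centralizer_singleton_iff]
    calc x * y * x⁻¹ * t = x * (y * (x⁻¹ * t * x)) * x⁻¹ := by group
      _ = x * ((x⁻¹ * t * x) * y) * x⁻¹ := by rw [hy]
      _ = t * (x * y * x⁻¹) := by group
  · intro hy
    rw [← e1] at hy
    change x * y * x⁻¹ ∈ Subgroup.centralizer ({t} : Set G) at hy
    rw [Subgroup.mem_centralizer_singleton_iff] at hy
    show y ∈ tor g
    rw [← e2, Subgroup.mem_centralizer_singleton_iff]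
    calc y * (x⁻¹ * t * x) = x⁻¹ * ((x * y * x⁻¹) * t) * x := by group
      _ = x⁻¹ * (t * (x * y * x⁻¹)) * x := by rw [hy]
      _ = x⁻¹ * t * x * y := by group

theorem SR.conj_comp_mem {l : G} (hl : l ∈ hs.comp) {t : G} (ht : t ∈ tor g) :
    l⁻¹ * t * l ∈ tor g := by
  simpa using (Subgroup.mem_normalizer_iff.1 (Subgroup.inv_mem _ hl.1) t).1 ht

/-- If `s` irreducible characters agree on the elements without fixed points and `|N(T) : T| < s`,
they vanish on `T` away from the identity and `|T|` divides their degrees. -/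
theorem SR.vanish {s : ℕ} (μ : Fin s → G → ℂ) (hμ : ∀ i, Cfsg.IsIrrCharacter G (μ i))
    (hinj : Function.Injective μ) (hone : ∀ i, μ i ≠ fun _ => 1)
    (hfree : ∀ x : G, (∀ c : Ω, x • c ≠ c) → ∀ i j, μ i x = μ j x)
    (hbud : Nat.card hs.comp < s) (i : Fin s) :
    (∀ t ∈ tor g, t ≠ 1 → μ i t = 0) ∧
      ∀ N : ℕ, μ i 1 = (N : ℂ) → Nat.card (tor g) ∣ N := by
  classical
  haveI := Fintype.ofFinite (tor g)
  haveI := Fintype.ofFinite hs.comp
  haveI := Fintype.ofFinite (Cfsg.IrrCharacter (tor g))
  set T := tor g with hT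
  have hcomm : ∀ x y : T, x * y = y * x := fun x y => Subtype.ext (hs.comm x.2 y.2)
  have hdeg : ∀ ψ : Cfsg.IrrCharacter T, (ψ : T → ℂ) 1 = 1 := fun ψ =>
    irr_degree_one_of_comm hcomm ψ.2
  set r : T → ℂ := fun t => μ i t with hr
  have hrc : Cfsg.IsCharacter T r := isCharacter_restrict T (isCharacter_of_isIrr (hμ i))
  have key : ∀ ε : Cfsg.IrrCharacter T,
      Cfsg.classInner r (ε : T → ℂ) = Cfsg.classInner r (fun _ => 1) := by
    intro ε
    by_cases hε1 : (ε : T → ℂ) = fun _ => 1
    · rw [hε1]
    set φ : T → ℂ := (fun _ => 1) - (ε : T → ℂ) with hφ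
    have hφg : Cfsg.IsGeneralizedCharacter T φ :=
      isGen_sub (isGen_of_isCharacter isCharacter_one) (isGen_of_isCharacter (irr_isCharacter ε))
    have hφ1 : φ 1 = 0 := by simp [hφ, hdeg]
    set θ := Cfsg.indFun T φ with hθ
    have hθg : Cfsg.IsGeneralizedCharacter G θ := isGen_indFun T hφg
    -- values on `T`
    have hθval : ∀ t : T, θ t = ∑ l : hs.comp, φ ⟨(l : G)⁻¹ * t * l, hs.conj_comp_mem l.2 t.2⟩ := by
      intro t
      by_cases ht1 : t = 1
      · subst ht1
        rw [hθ, show Cfsg.indFun T φ ((1 : T) : G) = 0 from by rw [OneMemClass.coe_one, indFun_one, hφ1, mul_zero]]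
        refine (Finset.sum_eq_zero fun l _ => ?_).symm
        rw [show (⟨(l : G)⁻¹ * ((1 : T) : G) * l, hs.conj_comp_mem l.2 (1 : T).2⟩ : T) = 1 from
          Subtype.ext (by simp), hφ1]
      refine mul_left_cancel₀ (natCard_ne_zero (G := T)) ?_
      rw [hθ, IndBasic.card_mul_indFun, ← Finset.sum_filter_of_ne
        (p := fun x : G => x ∈ Subgroup.normalizer (T : Set G)) (fun x _ hx => ?_)]
      · rw [Finset.mul_sum]
        have h1 : ∑ p : T × hs.comp, Cfsg.extendByZero T φ (((p.1 : G) * p.2)⁻¹ * t * ((p.1 : G) * p.2)) =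
            ∑ x ∈ Finset.univ.filter (fun x : G => x ∈ Subgroup.normalizer (T : Set G)),
              Cfsg.extendByZero T φ (x⁻¹ * t * x) := by
          refine Finset.sum_bij (fun p _ => (p.1 : G) * p.2) ?_ ?_ ?_ ?_
          · intro p _
            simp only [Finset.mem_filter, Finset.mem_univ, true_and]
            exact Subgroup.mul_mem _ (Subgroup.le_normalizer p.1.2) p.2.2.1
          · rintro ⟨x, l⟩ _ ⟨x', l'⟩ _ e
            have e' : (x : G) * l = x' * l' := e
            have h2 : (x' : G)⁻¹ * x = l' * (l : G)⁻¹ := by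
              rw [eq_mul_inv_iff_mul_eq, mul_assoc, e', inv_mul_cancel_left]
            have h3 := hs.not_fix_mem (Subgroup.mul_mem _ (Subgroup.inv_mem _ x'.2) x.2)
              (h2 ▸ H.mul_mem l'.2.2 (H.inv_mem l.2.2))
            have h4 : x = x' := Subtype.ext (inv_mul_eq_one.1 h3).symm
            exact Prod.ext h4 (Subtype.ext (mul_left_cancel (h4 ▸ e')))
          · intro x hx
            obtain ⟨x', hx', l, hl, rfl⟩ := hs.exists_factor (Finset.mem_filter.1 hx).2
            exact ⟨(⟨x', hx'⟩, ⟨l, hl⟩), Finset.mem_univ _, rfl⟩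
          · exact fun _ _ => rfl
        rw [← h1, Fintype.sum_prod_type, Finset.sum_comm]
        refine Finset.sum_congr rfl fun l _ => ?_
        rw [Finset.sum_congr rfl (g := fun _ => φ ⟨(l : G)⁻¹ * t * l, hs.conj_comp_mem l.2 t.2⟩)
          fun x _ => ?_, Finset.sum_const, Finset.card_univ, nsmul_eq_mul, Nat.card_eq_fintype_card]
        have e : ((x : G) * l)⁻¹ * t * ((x : G) * l) = (l : G)⁻¹ * t * l := by
          rw [show ((x : G) * l)⁻¹ * t * ((x : G) * l) = (l : G)⁻¹ * ((x : G)⁻¹ * t * x) * l by group,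
            mul_assoc (x : G)⁻¹, hs.comm t.2 x.2, inv_mul_cancel_left]
        rw [e, IndBasic.extendByZero_of_mem T φ (hs.conj_comp_mem l.2 t.2)]
      · refine hs.mem_normalizer_of_conj t.2 (fun e => ht1 (Subtype.ext e)) ?_
        by_contra hm
        exact hx (IndBasic.extendByZero_of_notMem T φ hm)
    -- conjugates of `ε`
    let cj : hs.comp → T ≃* T := fun l =>
      { toFun := fun t => ⟨(l : G)⁻¹ * t * l, hs.conj_comp_mem l.2 t.2⟩
        invFun := fun t => ⟨(l : G) * t * (l : G)⁻¹, (Subgroup.mem_normalizer_iff.1 l.2.1 t).1 t.2⟩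
        left_inv := fun t => Subtype.ext (by simp [mul_assoc])
        right_inv := fun t => Subtype.ext (by simp [mul_assoc])
        map_mul' := fun t t' => Subtype.ext (by simp [mul_assoc]) }
    have hcjirr : ∀ l, Cfsg.IsIrrCharacter T ((ε : T → ℂ) ∘ cj l) := fun l =>
      Basics.isIrrCharacter_comp_equiv (cj l) ε.2
    have hcj1 : ∀ l, ((ε : T → ℂ) ∘ cj l) ≠ fun _ => 1 := fun l e => hε1 (funext fun t => by
      obtain ⟨t', rfl⟩ := (cj l).surjective t
      exact congrFun e t')
    have hcjfix : ∀ l : hs.comp, l ≠ 1 → ((ε : T → ℂ) ∘ cj l) ≠ (ε : T → ℂ) := by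
      intro l hl e
      refine hε1 (funext fun u => ?_)
      let f : T → T := fun t => cj l t * t⁻¹
      have hfinj : Function.Injective f := by
        intro t t' h
        have h' : cj l (t'⁻¹ * t) = t'⁻¹ * t := by
          simp only [f] at h
          rw [map_mul, map_inv]
          rw [mul_inv_eq_iff_eq_mul] at h
          rw [h, ← mul_assoc, ← mul_assoc, inv_mul_cancel, one_mul, hcomm]
        have h5 := hs.comp_fpf (Subgroup.inv_mem _ l.2)
          (fun e1 => hl (Subtype.ext (inv_eq_one.1 e1))) (t'⁻¹ * t).2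
          (by rw [inv_inv]; exact congrArg Subtype.val h')
        exact Subtype.ext (inv_mul_eq_one.1 h5).symm
      obtain ⟨t, rfl⟩ := Finite.surjective_of_injective hfinj u
      show (ε : T → ℂ) (cj l t * t⁻¹) = 1
      rw [char_mul_of_degree_one (irr_isCharacter ε) (hdeg ε),
        show (ε : T → ℂ) (cj l t) = (ε : T → ℂ) t from congrFun e t,
        ← char_mul_of_degree_one (irr_isCharacter ε) (hdeg ε), mul_inv_cancel, hdeg]
    have hφl : ∀ l : hs.comp, Cfsg.classInner (fun t : T => φ (cj l t)) φ =
        1 + (if l = 1 then 1 else 0) := by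
      intro l
      rw [show (fun t : T => φ (cj l t)) = (fun _ => 1) - (ε : T → ℂ) ∘ cj l from rfl, hφ,
        classInner_sub_left, classInner_sub_right, classInner_sub_right,
        classInner_isIrr_self isIrrCharacter_one,
        classInner_isIrr_ne isIrrCharacter_one ε.2 (Ne.symm hε1),
        classInner_isIrr_ne (hcjirr l) isIrrCharacter_one (hcj1 l)]
      by_cases hl : l = 1
      · rw [if_pos hl, show (ε : T → ℂ) ∘ cj l = (ε : T → ℂ) from funext fun t => by
          subst hl
          refine congrArg (ε : T → ℂ) (Subtype.ext ?_)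
          show ((1 : hs.comp) : G)⁻¹ * (t : G) * ((1 : hs.comp) : G) = t
          simp, classInner_isIrr_self ε.2]
        ring
      · rw [if_neg hl, classInner_isIrr_ne (hcjirr l) ε.2 (hcjfix l hl)]
        ring
    have hθn : Cfsg.classInner θ θ = (Nat.card hs.comp : ℂ) + 1 := by
      rw [show Cfsg.classInner θ θ = Cfsg.classInner (fun t : T => θ t) φ from
        frobenius_reciprocity' T φ (isGen_isClassFunction hθg),
        show (fun t : T => θ t) = ∑ l : hs.comp, (fun t : T => φ (cj l t)) from funext fun t => by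
          rw [hθval, Finset.sum_apply]; rfl,
        classInner_sum_left, Finset.sum_congr rfl fun l _ => hφl l, Finset.sum_add_distrib,
        Finset.sum_const, Finset.card_univ, Finset.sum_ite_eq', if_pos (Finset.mem_univ _),
        nsmul_eq_mul, mul_one, Nat.card_eq_fintype_card]
    have hθ1 : Cfsg.classInner θ (fun _ => 1) = 1 := by
      rw [hθ, frobenius_reciprocity T φ (char_isClassFunction (isCharacter_one (G := G))),
        hφ, classInner_sub_left, classInner_isIrr_self isIrrCharacter_one,
        classInner_isIrr_ne ε.2 isIrrCharacter_one hε1, sub_zero]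
    set Φ := θ - fun _ => (1 : ℂ) with hΦ
    have hΦg : Cfsg.IsGeneralizedCharacter G Φ := isGen_sub hθg (isGen_of_isCharacter isCharacter_one)
    have hΦn : Cfsg.classInner Φ Φ = (Nat.card hs.comp : ℂ) := by
      rw [hΦ, classInner_sub_left, classInner_sub_right, classInner_sub_right, hθn, hθ1,
        classInner_conj_symm θ (fun _ => (1 : ℂ)), hθ1, classInner_isIrr_self isIrrCharacter_one,
        map_one]
      ring
    have hprod : ∀ j, Cfsg.classInner Φ (μ j) = Cfsg.classInner φ (fun t : T => μ j t) := by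
      intro j
      rw [hΦ, classInner_sub_left, classInner_isIrr_ne isIrrCharacter_one (hμ j) (Ne.symm (hone j)),
        sub_zero, hθ, frobenius_reciprocity T φ (char_isClassFunction (isCharacter_of_isIrr (hμ j)))]
    have hsame : ∀ j, Cfsg.classInner Φ (μ j) = Cfsg.classInner Φ (μ i) := by
      intro j
      rw [hprod, hprod, classInner_def, classInner_def]
      congr 1
      refine Finset.sum_congr rfl fun t _ => ?_
      by_cases ht1 : t = 1
      · rw [ht1, hφ1, zero_mul, zero_mul]
      · rw [hfree (t : G) (hs.semiregular t.2 fun e => ht1 (Subtype.ext e)) j i]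
    obtain ⟨m, hm⟩ := classInner_gen_int hΦg (isGen_of_isCharacter (isCharacter_of_isIrr (hμ i)))
    have hm0 := eq_zero_of_many μ hμ hinj (isGen_isClassFunction hΦg) hΦn hbud
      (fun j => (hsame j).trans hm)
    rw [hm0, Int.cast_zero, hprod, hφ, classInner_sub_left, sub_eq_zero] at hm
    rw [classInner_conj_symm (ε : T → ℂ) r, classInner_conj_symm (fun _ => (1 : ℂ)) r, hr, hm]
  obtain ⟨k, hk⟩ := classInner_char_nat hrc (isCharacter_one (G := T))
  have hexp := classFun_eq_sum (char_isClassFunction hrc)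
  simp only [key, hk] at hexp
  have horth : ∀ t : T, ∑ ψ : Cfsg.IrrCharacter T, (ψ : T → ℂ) t = if t = 1 then (Nat.card T : ℂ) else 0 := by
    intro t
    have h := second_orthogonality t (1 : T)
    simp only [hdeg, map_one, mul_one] at h
    rw [h]
    by_cases ht : t = 1
    · subst ht
      rw [if_pos rfl, if_pos (IsConj.refl _),
        show Subgroup.centralizer ({(1 : T)} : Set T) = ⊤ from by
          ext x; simp [Subgroup.mem_centralizer_singleton_iff], Subgroup.card_top]
    · rw [if_neg ht, if_neg fun hc => ht (isConj_one_left.1 hc)]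
  have hval : ∀ t : T, μ i t = (k : ℂ) * if t = 1 then (Nat.card T : ℂ) else 0 := by
    intro t
    have h := congrFun hexp t
    simp only [Finset.sum_apply, Pi.smul_apply, smul_eq_mul, ← Finset.mul_sum, horth] at h
    exact h
  refine ⟨fun t ht ht1 => ?_, fun N hN => ⟨k, ?_⟩⟩
  · have h := hval ⟨t, ht⟩
    rw [if_neg fun e => ht1 (congrArg Subtype.val e), mul_zero] at h
    exact h
  · have h := hval 1
    rw [if_pos rfl, OneMemClass.coe_one, hN] at h
    have h' : N = k * Nat.card T := by exact_mod_cast h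
    rw [h', mul_comm]

end Cfsg.Agent.Involutions.Suzuki.Zass
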