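import Cfsg.Agent.Lib.Involutions.Suzuki.Parity
import Cfsg.Agent.Lib.Involutions.Suzuki.TorusChars

/-!
# The order of a Zassenhaus group with a non-abelian 2-group as kernel

`|H| = q ^ 2` with `q = 2 ^ n` and `n` odd.  If `|H| ≥ q ^ 3` the exceptional characters of `H/V`
vanish on two-point stabilisers and tori; the class sum of involutions then forces `|H| = q ^ 3`, their
degree `q ^ 2 - 1` and tori of order dividing `q + 1`, too small to hold all the strongly real elements.
-/

set_option autoImplicit false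
set_option linter.unusedSectionVars false
set_option linter.style.haveILetI false

namespace Cfsg.Agent.Involutions.Suzuki.Zass

open Cfsg.Agent.CharTheory.Zassenhaus
open Cfsg.Agent.Characters
open Cfsg.Agent.CharTheory
open Involutions.Basic

universe u v

/-- The Diophantine part of the argument. -/
theorem degree_shape {q d Q A x M N c ε : ℤ} {k : ℕ} (hq : q = d + 1) (hd : 3 ≤ d)
    (hQ : Q = 2 ^ k) (hQq : q ≤ Q) (hN : 0 < N) (hNd : N = d * (A + M)) (hx : x = d * A - M)
    (hsum : (q * q * Q + 1) * d * x ^ 2 = N ^ 2 + (q - 2) * x * N)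
    (hA : A = (q + 1) * c + ε ∨ Q ≠ q) (hε : ε * ε = 1)
    (hineq : Q = q → (q * q * q + 1) * d * (q * q * ((q + 1) * c ^ 2 + 2 * ε * c) + M ^ 2) ≤
      q * q * N ^ 2) :
    Q = q ∧ N = q * q - 1 := by
  have hd0 : d ≠ 0 := by omega
  have hMA : M * A = Q * x ^ 2 := by
    refine mul_left_cancel₀ (show q * q * d ≠ 0 from
      mul_ne_zero (mul_ne_zero (by omega) (by omega)) hd0) ?_
    subst hNd hq hx
    linear_combination -hsum
  have hQ0 : 0 < Q := by rw [hQ]; positivity
  have hx0 : x ≠ 0 := by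
    intro e
    rw [e] at hMA
    simp only [ne_eq, OfNat.ofNat_ne_zero, not_false_eq_true, zero_pow, mul_zero, mul_eq_zero] at hMA
    rw [e] at hx
    rcases hMA with h | h
    · rw [h] at hx
      have : A = 0 := by simpa [hd0] using hx.symm
      rw [h, this] at hNd; simp at hNd; omega
    · rw [h] at hx
      have : M = 0 := by linarith [hx]
      rw [h, this] at hNd; simp at hNd; omega
  have hpos : 0 < M * A := by rw [hMA]; positivity
  have hAM : 0 < A ∧ 0 < M := by
    rcases mul_pos_iff.1 hpos with h | h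
    · exact ⟨h.2, h.1⟩
    · nlinarith [h.1, h.2]
  have hsq : (d * A + M) ^ 2 = x ^ 2 * (1 + 4 * d * Q) := by
    subst hx; linear_combination (4 * d) * hMA
  obtain ⟨y, hy⟩ : x ∣ d * A + M := (Int.pow_dvd_pow_iff two_ne_zero).1 ⟨_, hsq⟩
  have hy2 : y ^ 2 = 1 + 4 * d * Q := by
    refine mul_left_cancel₀ (pow_ne_zero 2 hx0) ?_
    rw [← hsq, hy]; ring
  -- `|y| = 2 Q - 1`
  obtain ⟨w, hw⟩ : ∃ w : ℕ, |y| = 2 * (w : ℤ) + 1 := by
    obtain ⟨w, hw⟩ | ⟨w, hw⟩ := Int.even_or_odd |y|
    · exfalso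
      have : |y| ^ 2 = 1 + 4 * d * Q := by rw [sq_abs, hy2]
      rw [hw] at this
      have h2 : 4 * (w * w) = 1 + 4 * (d * Q) := by linarith
      omega
    · obtain ⟨w', rfl⟩ := Int.eq_ofNat_of_zero_le (show 0 ≤ w by
        have := abs_nonneg y; omega)
      exact ⟨w', hw⟩
  have hw2 : (w : ℤ) * (w + 1) = d * Q := by
    have : |y| ^ 2 = 1 + 4 * d * Q := by rw [sq_abs, hy2]
    rw [hw] at this
    linarith
  obtain ⟨D, hD⟩ := Int.eq_ofNat_of_zero_le (show 0 ≤ d by omega)
  have hw3 : w * (w + 1) = D * 2 ^ k := by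
    rw [hD, hQ] at hw2; exact_mod_cast hw2
  have hDQ : D < 2 ^ k := by
    have : (D : ℤ) < ((2 ^ k : ℕ) : ℤ) := by push_cast; rw [← hQ, ← hD]; omega
    exact_mod_cast this
  have hwQ : w + 1 = 2 ^ k ∧ D = w := by
    have hdvd : 2 ^ k ∣ w * (w + 1) := ⟨D, by rw [hw3, mul_comm]⟩
    have hcop : Nat.Coprime w (w + 1) := by simp
    have hw0 : 0 < w := by
      rcases Nat.eq_zero_or_pos w with h | h
      · rw [h] at hw3
        have : D * 2 ^ k ≠ 0 := Nat.mul_ne_zero (by omega) (by positivity)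
        omega
      · exact h
    rcases Nat.even_or_odd w with ⟨v, hv⟩ | hodd
    · exfalso
      have h1 : Nat.Coprime (2 ^ k) (w + 1) :=
        Nat.Coprime.pow_left _ (Nat.prime_two.coprime_iff_not_dvd.2 (by omega))
      have h2 := Nat.le_of_dvd hw0 (h1.dvd_of_dvd_mul_right hdvd)
      have : 2 ^ k * (2 ^ k + 1) ≤ w * (w + 1) := Nat.mul_le_mul h2 (by omega)
      nlinarith
    · have h1 : Nat.Coprime (2 ^ k) w := Nat.Coprime.pow_left _
        (Nat.prime_two.coprime_iff_not_dvd.2 (by obtain ⟨v, hv⟩ := hodd; omega))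
      obtain ⟨t, ht⟩ := h1.dvd_of_dvd_mul_left hdvd
      have ht1 : t = 1 := by
        rcases Nat.lt_or_ge 1 t with h | h
        · exfalso
          have : 2 * 2 ^ k ≤ w + 1 := by rw [ht, mul_comm]; exact Nat.mul_le_mul_left _ h
          have : D * 2 ^ k < w * (w + 1) := by nlinarith
          omega
        · rcases Nat.eq_zero_or_pos t with h' | h'
          · rw [h', mul_zero] at ht; omega
          · omega
      rw [ht1, mul_one] at ht
      refine ⟨ht, Nat.eq_of_mul_eq_mul_right (Nat.two_pow_pos k) ?_⟩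
      rw [← hw3, ht]
  have hQeq : Q = q := by
    have : ((2 ^ k : ℕ) : ℤ) = (w : ℤ) + 1 := by rw [← hwQ.1]; push_cast; rfl
    push_cast at this
    rw [hQ, this, hq, hD, hwQ.2]
  refine ⟨hQeq, ?_⟩
  have hA' : A = (q + 1) * c + ε := hA.resolve_right fun h => h hQeq
  have hy' : |y| = 2 * q - 1 := by rw [hw, hq, hD, hwQ.2]; ring
  have habs : d * A + M = (2 * q - 1) * |x| := by
    rw [← abs_of_pos (show 0 < d * A + M by nlinarith [hAM.1, hAM.2]), hy, abs_mul, hy', mul_comm]
  have hin := hineq hQeq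
  have hfam : (q + 1) * ((q + 1) * c ^ 2 + 2 * ε * c) = A ^ 2 - 1 := by
    rw [hA']; linear_combination -hε
  rcases lt_or_gt_of_ne hx0 with hneg | hpos'
  · -- `A = -x`, `M = q A`
    rw [abs_of_neg hneg] at habs
    have hAx : A = -x := mul_left_cancel₀ (mul_ne_zero two_ne_zero hd0) (by
      rw [hx] at habs ⊢; subst hq; linear_combination habs)
    have hM : M = q * A := by rw [hq]; linarith [hx, hAx]
    rw [hNd, hM] at hin
    have h2 : (q + 1) * q * q * d * ((q * q - q + 1) * ((q + 2) * A ^ 2 - 1)) ≤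
        (q + 1) * q * q * d * (d * (q + 1) ^ 2 * A ^ 2) := by
      have h3 := mul_le_mul_of_nonneg_left hin (show 0 ≤ q + 1 by omega)
      rw [show (q + 1) * ((q * q * q + 1) * d * (q * q * ((q + 1) * c ^ 2 + 2 * ε * c) + (q * A) ^ 2)) =
        (q * q * q + 1) * d * (q * q * ((q + 1) * ((q + 1) * c ^ 2 + 2 * ε * c)) + (q + 1) * (q * A) ^ 2) by ring,
        hfam] at h3
      linarith
    have h4 := le_of_mul_le_mul_left h2
      (mul_pos (mul_pos (mul_pos (show (0:ℤ) < q + 1 by omega) (show (0:ℤ) < q by omega))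
        (show (0:ℤ) < q by omega)) (show (0:ℤ) < d by omega))
    have h5 : 3 * A ^ 2 ≤ q * q - q + 1 := by subst hq; nlinarith
    have hA1 : A = 1 := by
      have hAlt : A < q := by nlinarith [hAM.1]
      have hεc : ε = 1 ∨ ε = -1 := mul_self_eq_one_iff.1 hε
      rcases lt_trichotomy c 0 with hc | hc | hc
      · exfalso; rcases hεc with e | e <;> subst e <;> nlinarith [hAM.1]
      · subst hc; rcases hεc with e | e <;> subst e <;> simp at hA' <;> omega
      · exfalso; rcases hεc with e | e <;> subst e <;> nlinarith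
    rw [hNd, hM, hA1, hq]; ring
  · exfalso
    rw [abs_of_pos hpos'] at habs
    have hdA : d * A = q * x := by linarith [hx]
    have hM : M = d * x := by rw [hx] at hdA; subst hq; linarith [hdA, hx]
    have hxk : x = d * (A - x) := by subst hq; linarith
    set k' := A - x with hk'
    have hk : A = q * k' := mul_left_cancel₀ hd0 (by rw [hdA]; linear_combination q * hxk)
    have hM' : M = d * d * k' := by rw [hM, hxk]; ring
    have hk0 : 0 < k' := by nlinarith [hAM.1]
    rw [hNd, hM'] at hin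
    have h2 : (q + 1) * (q * q - q + 1) * d * (q * q * (A ^ 2 - 1) + (q + 1) * (d * d * k') ^ 2) ≤
        (q + 1) * (q * q - q + 1) * d * (q * q * (d * ((q * q - q + 1) * k' ^ 2))) := by
      have h3 := mul_le_mul_of_nonneg_left hin (show 0 ≤ q + 1 by omega)
      rw [show (q + 1) * ((q * q * q + 1) * d * (q * q * ((q + 1) * c ^ 2 + 2 * ε * c) + (d * d * k') ^ 2)) =
        (q * q * q + 1) * d * (q * q * ((q + 1) * ((q + 1) * c ^ 2 + 2 * ε * c)) + (q + 1) * (d * d * k') ^ 2) by ring,
        hfam, show A + d * d * k' = (q * q - q + 1) * k' by rw [hk, hq]; ring] at h3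
      linarith
    have h4 := le_of_mul_le_mul_left h2 (mul_pos (mul_pos (show (0:ℤ) < q + 1 by omega)
      (show (0 : ℤ) < q * q - q + 1 by nlinarith)) (show (0:ℤ) < d by omega))
    rw [hk, hq] at h4
    nlinarith [hk0, mul_pos hk0 hk0]

variable {G : Type u} {Ω : Type v} [Group G] [MulAction G Ω] [Fintype Ω] {a b : Ω} {H : Subgroup G}
  [Fintype G] [IsSimpleGroup G] (hh : Hyp a b H)
include hh

/-- A non-trivial product `z v` fixing a point either comes from `v` fixing `a` or fixes two points. -/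
theorem fixed_pair {z v : G} (hz : z ∈ V hh) (hz1 : z ≠ 1) (hv : v * v = 1) (hva : v • a ≠ a)
    {c : Ω} (hc : (z * v) • c = c) :
    c ≠ a ∧ z • c ≠ a ∧ z • c ≠ c ∧ (z * v) • (z • c) = z • c := by
  have hza : z • a = a := hh.cfg.le hz.1
  have hzc2 : ∀ p : Ω, z • z • p = p := fun p => by rw [← mul_smul, hz.2, one_smul]
  have hvc : v • c = z • c := by
    rw [mul_smul] at hc
    conv_rhs => rw [← hc, hzc2]
  have hca : c ≠ a := by
    rintro rfl
    exact hva (hvc.trans hza)
  refine ⟨hca, fun e => hca ?_, fun e => ?_, ?_⟩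
  · rw [← hzc2 c, e, hza]
  · exact hca (hh.cfg.fix z hz.1 hz1 c e)
  · have : v • (z • c) = c := by rw [← hvc, ← mul_smul, hv, one_smul]
    rw [mul_smul, this]

theorem sr_of_free {z v : G} (hz : z ∈ V hh) (hz1 : z ≠ 1) (hv : v * v = 1)
    (hfree : ∀ c : Ω, (z * v) • c ≠ c) : SR hh z (z * v) := by
  refine ⟨hz, hz1, ?_, hfree⟩
  rw [mul_inv_rev, inv_eq_of_mul_eq_one_right hv, inv_eq_of_mul_eq_one_right hz.2, ← mul_assoc, hz.2,
    one_mul]

/-- The equation given by the class sum of the involutions. -/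
theorem class_sum {X : G → ℂ} (hX : Cfsg.IsIrrCharacter G X) {N : ℕ} {x : ℤ} (hN : X 1 = (N : ℂ))
    {z : G} (hz : z ∈ V hh) (hz1 : z ≠ 1) (hx : ∀ v ∈ V hh, v ≠ 1 → X v = (x : ℂ))
    (hvan : ∀ g : G, g • a = a → g ∉ H → X g = 0)
    (hfree : ∀ g : G, SR hh z g → X g = 0) :
    ((Nat.card H : ℤ) + 1) * Nat.card (two (G := G) a b) * x ^ 2 =
      (N : ℤ) ^ 2 + ((Nat.card (two (G := G) a b) : ℤ) - 1) * x * N := by
  classical
  have h := sum_mul_conjugates hX z z
  have hterm : ∀ t : G, X (z * (t * z * t⁻¹)) =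
      (if t • a = a then (x : ℂ) else 0) + (if t ∈ H then (N : ℂ) - x else 0) := by
    intro t
    by_cases hta : t • a = a
    · by_cases htH : t ∈ H
      · rw [if_pos hta, if_pos htH, ← inv_central hh hz.1 hz.2 htH, mul_inv_cancel_right, hz.2, hN]
        ring
      · rw [if_pos hta, if_neg htH, add_zero]
        refine hx _ ((V hh).mul_mem hz (conj_V hh hta hz)) fun e => htH ?_
        have e' : t * z * t⁻¹ = z := (eq_inv_of_mul_eq_one_right e).trans (inv_eq_of_mul_eq_one_right hz.2)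
        exact centralizer_le_kernel hh.cfg hz.1 hz1
          (Subgroup.mem_centralizer_singleton_iff.2 (mul_inv_eq_iff_eq_mul.1 e'))
    · rw [if_neg hta, if_neg fun htH => hta (hh.cfg.le htH), add_zero]
      have hv2 : t * z * t⁻¹ * (t * z * t⁻¹) = 1 := by
        rw [show t * z * t⁻¹ * (t * z * t⁻¹) = t * (z * z) * t⁻¹ by group, hz.2, mul_one, mul_inv_cancel]
      have hva : (t * z * t⁻¹) • a ≠ a := by
        intro e
        rw [mul_smul, mul_smul, smul_eq_iff_eq_inv_smul] at e
        have := hh.cfg.fix z hz.1 hz1 _ e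
        rw [inv_smul_eq_iff] at this
        exact hta this.symm
      by_cases hfx : ∃ c : Ω, (z * (t * z * t⁻¹)) • c = c
      · obtain ⟨c, hc⟩ := hfx
        obtain ⟨-, -, hcne, hc'⟩ := fixed_pair hh hz hz1 hv2 hva hc
        obtain ⟨s, hs⟩ := exists_conj_stab hh hc
        have hne1 : s * (z * (t * z * t⁻¹)) * s⁻¹ ≠ 1 := fun e => hva (by
          rw [conj_eq_one_iff] at e
          rw [(eq_inv_of_mul_eq_one_right e).trans (inv_eq_of_mul_eq_one_right hz.2)]
          exact hh.cfg.le hz.1)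
        have hfix2 : ∀ p : Ω, (z * (t * z * t⁻¹)) • p = p → s • p = a ∨
            s * (z * (t * z * t⁻¹)) * s⁻¹ ∉ H := fun p hp => by
          by_cases h1 : s * (z * (t * z * t⁻¹)) * s⁻¹ ∈ H
          · exact Or.inl (hh.cfg.fix _ h1 hne1 _ (by rw [mul_smul, inv_smul_smul, mul_smul, hp]))
          · exact Or.inr h1
        have hnH : s * (z * (t * z * t⁻¹)) * s⁻¹ ∉ H := by
          rcases hfix2 c hc with h1 | h1
          · rcases hfix2 _ hc' with h2 | h2
            · exact absurd (smul_left_cancel s (h2.trans h1.symm)) hcne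
            · exact h2
          · exact h1
        rw [← hvan _ hs hnH]
        exact (char_isClassFunction (isCharacter_of_isIrr hX) _ s).symm
      · push Not at hfx
        exact hfree _ (sr_of_free hh hz hz1 hv2 hfx)
  rw [Finset.sum_congr rfl fun t _ => hterm t, Finset.sum_add_distrib, ← Finset.sum_filter,
    ← Finset.sum_filter, Finset.sum_const, Finset.sum_const, nsmul_eq_mul, nsmul_eq_mul,
    hx z hz hz1, hN] at h
  have c1 : (Finset.univ.filter fun t : G => t • a = a).card =
      Nat.card H * Nat.card (two (G := G) a b) := by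
    rw [← Fintype.card_subtype, ← Nat.card_eq_fintype_card, ← card_stabilizer hh.cfg]
    exact Nat.card_congr (Equiv.subtypeEquivRight fun t => Iff.rfl)
  have c2 : (Finset.univ.filter fun t : G => t ∈ H).card = Nat.card H := by
    rw [← Fintype.card_subtype, ← Nat.card_eq_fintype_card]
  have hN0 : (N : ℂ) ≠ 0 := hN ▸ irr_one_ne_zero hX
  rw [c1, c2, card_group' hh.cfg, eq_div_iff hN0] at h
  have hh0 : (Nat.card H : ℤ) ≠ 0 := by exact_mod_cast Nat.card_pos.ne'
  refine mul_left_cancel₀ hh0 ?_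
  have h' : ((Nat.card H : ℤ) * Nat.card (two (G := G) a b) * x + Nat.card H * ((N : ℤ) - x)) * N =
      ((Nat.card H : ℤ) + 1) * (Nat.card H * Nat.card (two (G := G) a b)) * x * x := by
    push_cast at h
    exact_mod_cast h
  linear_combination -h'

/-- Conjugating the involution to one of `V`. -/
theorem exists_to_V {z v : G} (hz : z ∈ V hh) (hz1 : z ≠ 1) (hv : orderOf v = 2) :
    ∃ t : G, t * v * t⁻¹ = z := by
  obtain ⟨t, ht⟩ := isConj_iff.1 (isConj_all hh.cfg hh.odd hv (orderOf_two_iff.2 ⟨hz.2, hz1⟩))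
  exact ⟨t, ht⟩

/-- Twice the number of fixed-point-free elements inverted by `z` is at least `|H| q`. -/
theorem inverted_bound {z : G} (hz : z ∈ V hh) (hz1 : z ≠ 1) :
    Nat.card H * (Nat.card (two (G := G) a b) + 1) ≤
      2 * Nat.card {g : G // (∀ c : Ω, g • c ≠ c) ∧ z * g * z = g⁻¹} := by
  classical
  set d := Nat.card (two (G := G) a b)
  set S := Finset.univ.filter fun v : G => orderOf v = 2 ∧ v • a ≠ a with hS
  set bad := S.filter fun v => ∃ c : Ω, (z * v) • c = c with hbaddef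
  have hScard : S.card = Nat.card H * d := by
    have h1 : (Finset.univ.filter fun v : G => orderOf v = 2).card = (Nat.card H + 1) * d := by
      rw [← Fintype.card_subtype, ← Nat.card_eq_fintype_card,
        card_involutions_even hh.cfg hh.odd (even_card hh), ← hh.cfg.card, mul_comm]
    have h2 : (Finset.univ.filter fun v : G => orderOf v = 2 ∧ v • a = a).card = d := by
      rw [← Fintype.card_subtype, ← Nat.card_eq_fintype_card, card_fixing hh.cfg hh.odd (even_card hh) a]
    have h3 := Finset.card_filter_add_card_filter_not (s := Finset.univ.filter fun v : G => orderOf v = 2)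
      (fun v => v • a = a)
    rw [Finset.filter_filter, Finset.filter_filter, h1, h2, Nat.add_mul, one_mul] at h3
    rw [hS]
    simp only [ne_eq]
    omega
  let Cs : Finset Ω := Finset.univ.filter fun c => c ≠ a
  have hbad : bad.card * 2 ≤ Nat.card H * (d - 1) := by
    have h1 : ∀ v ∈ bad, 2 ≤ (Cs.filter fun c => v • c = z • c ∧ v ≠ z).card := by
      intro v hv
      obtain ⟨hvS, c, hc⟩ := Finset.mem_filter.1 hv
      obtain ⟨-, hv2, hva⟩ := Finset.mem_filter.1 hvS
      obtain ⟨hv1, -⟩ := orderOf_two_iff.1 hv2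
      obtain ⟨hca, hzca, hne, hc'⟩ := fixed_pair hh hz hz1 hv1 hva hc
      have hvz : v ≠ z := fun e => hva (e ▸ hh.cfg.le hz.1)
      have key : ∀ p : Ω, (z * v) • p = p → v • p = z • p := fun p hp => by
        rw [mul_smul] at hp
        conv_rhs => rw [← hp, ← mul_smul, hz.2, one_smul]
      refine le_trans (le_of_eq (Finset.card_pair hne).symm) (Finset.card_le_card ?_)
      intro p hp
      simp only [Finset.mem_insert, Finset.mem_singleton] at hp
      simp only [Cs, Finset.mem_filter, Finset.mem_univ, true_and]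
      rcases hp with rfl | rfl
      · exact ⟨hzca, key _ hc', hvz⟩
      · exact ⟨hca, key _ hc, hvz⟩
    have h2 : ∀ c ∈ Cs, (bad.filter fun v => v • c = z • c ∧ v ≠ z).card ≤ d - 1 := by
      intro c hc
      simp only [Cs, Finset.mem_filter, Finset.mem_univ, true_and] at hc
      have hzc : c ≠ z • c := fun e => hc (hh.cfg.fix z hz.1 hz1 c e.symm)
      have h3 : (Finset.univ.filter fun v : G => orderOf v = 2 ∧ v • c = z • c).card = d := by
        rw [← Fintype.card_subtype, ← Nat.card_eq_fintype_card, card_moving hh.cfg hh.odd hzc]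
      rw [← h3, ← Finset.card_erase_of_mem (s := Finset.univ.filter fun v : G => orderOf v = 2 ∧ v • c = z • c)
        (a := z) (by simp [orderOf_two_iff.2 ⟨hz.2, hz1⟩])]
      refine Finset.card_le_card fun v hv => ?_
      simp only [hbaddef, hS, Finset.mem_filter, Finset.mem_univ, true_and] at hv
      simp only [Finset.mem_erase, Finset.mem_filter, Finset.mem_univ, true_and]
      exact ⟨hv.2.2, hv.1.1.1, hv.2.1⟩
    have h4 := Finset.sum_card_bipartiteAbove_eq_sum_card_bipartiteBelow (s := bad) (t := Cs)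
      (fun v c => v • c = z • c ∧ v ≠ z)
    simp only [Finset.bipartiteAbove, Finset.bipartiteBelow] at h4
    have h5 := Finset.sum_le_sum h1
    rw [Finset.sum_const, smul_eq_mul, h4] at h5
    have h6 := Finset.sum_le_sum h2
    rw [Finset.sum_const, smul_eq_mul] at h6
    have h7 : Cs.card = Nat.card H := by
      simp only [Cs]
      rw [Finset.filter_ne', Finset.card_erase_of_mem (Finset.mem_univ _), Finset.card_univ, ← hh.cfg.card]
      omega
    rw [h7] at h6
    omega
  have hgood : (S \ bad).card ≤ Nat.card {g : G // (∀ c : Ω, g • c ≠ c) ∧ z * g * z = g⁻¹} := by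
    rw [Nat.card_eq_fintype_card, Fintype.card_subtype]
    refine Finset.card_le_card_of_injOn (fun v => z * v) (fun v hv => ?_) (fun v _ v' _ e => mul_left_cancel e)
    simp only [Finset.mem_coe, Finset.mem_sdiff, hbaddef, Finset.mem_filter, not_and, not_exists] at hv
    have hf : ∀ c : Ω, (z * v) • c ≠ c := hv.2 hv.1
    have h1 := hv.1
    rw [hS, Finset.mem_filter] at h1
    simp only [Finset.mem_coe, Finset.mem_filter, Finset.mem_univ, true_and]
    exact ⟨hf, (sr_of_free hh hz hz1 (orderOf_two_iff.1 h1.2.1).1 hf).inv⟩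
  have h8 : (S \ bad).card + bad.card = S.card :=
    Finset.card_sdiff_add_card_eq_card (Finset.filter_subset _ _)
  have hd1 : 1 ≤ d := Nat.card_pos
  rw [hScard] at h8
  have h9 : Nat.card H * (d - 1) + Nat.card H * (d + 1) = 2 * (Nat.card H * d) := by
    obtain ⟨e, he⟩ : ∃ e, d = e + 1 := ⟨d - 1, by omega⟩
    rw [he, Nat.add_sub_cancel]; ring
  omega

/-- If all tori have order at most `m`, there are many fixed-point-free elements. -/
theorem count_bound {z : G} (hz : z ∈ V hh) (hz1 : z ≠ 1) {m : ℕ}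
    (hm : ∀ g : G, SR hh z g → Nat.card (tor g) ≤ m) :
    (Nat.card H + 1) * Nat.card (two (G := G) a b) * (Nat.card H * (Nat.card (two (G := G) a b) + 1)) ≤
      2 * (m * Nat.card {g : G // ∀ c : Ω, g • c ≠ c}) := by
  classical
  let J : Finset G := Finset.univ.filter fun w => orderOf w = 2
  let F : Finset G := Finset.univ.filter fun g => ∀ c : Ω, g • c ≠ c
  have hconjinv : ∀ t : G, ∀ w g : G,
      (t * w * t⁻¹) * (t * g * t⁻¹) * (t * w * t⁻¹) = (t * g * t⁻¹)⁻¹ ↔ w * g * w = g⁻¹ := by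
    intro t w g
    rw [show (t * w * t⁻¹) * (t * g * t⁻¹) * (t * w * t⁻¹) = t * (w * g * w) * t⁻¹ by group,
      show (t * g * t⁻¹)⁻¹ = t * g⁻¹ * t⁻¹ by group]
    exact ⟨fun e => mul_left_cancel (mul_right_cancel e), fun e => by rw [e]⟩
  have hfreeconj : ∀ t g : G, (∀ c : Ω, g • c ≠ c) → ∀ c : Ω, (t * g * t⁻¹) • c ≠ c := by
    intro t g hg c hc
    rw [mul_smul, mul_smul, smul_eq_iff_eq_inv_smul] at hc
    exact hg _ hc
  have h1 : ∀ w ∈ J, Nat.card H * (Nat.card (two (G := G) a b) + 1) ≤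
      2 * (F.filter fun g => w * g * w = g⁻¹).card := by
    intro w hw
    obtain ⟨t, ht⟩ := exists_to_V hh hz hz1 (Finset.mem_filter.1 hw).2
    refine (inverted_bound hh hz hz1).trans (Nat.mul_le_mul_left _ (le_of_eq ?_))
    rw [show (F.filter fun g => w * g * w = g⁻¹) = Finset.univ.filter fun g : G =>
      (∀ c : Ω, g • c ≠ c) ∧ w * g * w = g⁻¹ from Finset.filter_filter _ _ _,
      ← Fintype.card_subtype, ← Nat.card_eq_fintype_card]
    refine Nat.card_congr (Equiv.subtypeEquiv (MulAut.conj t).toEquiv fun g => ?_).symm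
    show _ ↔ (∀ c : Ω, (t * g * t⁻¹) • c ≠ c) ∧ z * (t * g * t⁻¹) * z = (t * g * t⁻¹)⁻¹
    rw [← ht, hconjinv]
    refine and_congr_left' ⟨hfreeconj t g, fun h => ?_⟩
    have h' := hfreeconj t⁻¹ _ h
    simpa [mul_assoc] using h'
  have h2 : ∀ g ∈ F, (J.filter fun w => w * g * w = g⁻¹).card ≤ m := by
    intro g hg
    rcases Finset.eq_empty_or_nonempty (J.filter fun w => w * g * w = g⁻¹) with h | ⟨w₀, hw₀⟩
    · simp [h]
    simp only [J, F, Finset.mem_filter, Finset.mem_univ, true_and] at hw₀ hg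
    obtain ⟨t, ht⟩ := exists_to_V hh hz hz1 hw₀.1
    have hs : SR hh z (t * g * t⁻¹) :=
      ⟨hz, hz1, by rw [← ht, hconjinv]; exact hw₀.2, hfreeconj t g hg⟩
    refine le_trans ?_ (hm _ hs)
    rw [Nat.card_eq_fintype_card, Fintype.card_subtype]
    refine Finset.card_le_card_of_injOn (fun w => t * w * t⁻¹ * z) (fun w hw => ?_) fun w _ w' _ e =>
      mul_left_cancel (mul_right_cancel (mul_right_cancel e))
    simp only [J, Finset.mem_coe, Finset.mem_filter, Finset.mem_univ, true_and] at hw ⊢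
    show t * w * t⁻¹ * z ∈ tor (t * g * t⁻¹)
    rw [Subgroup.mem_centralizer_singleton_iff]
    set g' := t * g * t⁻¹
    set w' := t * w * t⁻¹ with hw'
    have e1 : w' * g' * w' = g'⁻¹ := (hconjinv t w g).2 hw.2
    have hw2 : w' * w' = 1 := by
      rw [hw', show t * w * t⁻¹ * (t * w * t⁻¹) = t * (w * w) * t⁻¹ by group,
        (orderOf_two_iff.1 hw.1).1, mul_one, mul_inv_cancel]
    calc w' * z * g' = w' * (z * g' * z) * z⁻¹ := by group
      _ = w' * g'⁻¹ * z := by rw [hs.inv, hs.z_inv]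
      _ = w' * (w' * g' * w') * z := by rw [e1]
      _ = (w' * w') * g' * (w' * z) := by group
      _ = g' * (w' * z) := by rw [hw2, one_mul]
  have h3 := Finset.sum_card_bipartiteAbove_eq_sum_card_bipartiteBelow (s := J) (t := F)
    (fun w g => w * g * w = g⁻¹)
  simp only [Finset.bipartiteAbove, Finset.bipartiteBelow] at h3
  have h4 := Finset.sum_le_sum h1
  rw [Finset.sum_const, smul_eq_mul, ← Finset.mul_sum, h3] at h4
  have h5 := Finset.sum_le_sum h2
  rw [Finset.sum_const, smul_eq_mul] at h5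
  have hJ : J.card = (Nat.card H + 1) * Nat.card (two (G := G) a b) := by
    rw [← Fintype.card_subtype, ← Nat.card_eq_fintype_card,
      card_involutions_even hh.cfg hh.odd (even_card hh), ← hh.cfg.card, mul_comm]
  have hF : F.card = Nat.card {g : G // ∀ c : Ω, g • c ≠ c} := by
    rw [Nat.card_eq_fintype_card, Fintype.card_subtype]
  rw [hJ] at h4
  rw [hF, mul_comm _ m] at h5
  exact h4.trans (Nat.mul_le_mul_left 2 h5)

/-- `|H| = q ^ 2`. -/
theorem card_eq_sq {n : ℕ} (hd : Nat.card (two (G := G) a b) + 1 = 2 ^ n) :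
    Nat.card H = (2 ^ n) ^ 2 := by
  classical
  obtain ⟨n', r, hn2, hr2, hd', hV, hH⟩ := exists_pow hh
  obtain rfl : n' = n := Nat.pow_right_injective le_rfl (hd'.symm.trans hd)
  by_contra hne
  have hr3 : 3 ≤ r := by
    rcases Nat.lt_or_ge r 3 with h | h
    · exact absurd (by rw [hH, show r = 2 by omega]) hne
    · exact h
  set q := 2 ^ n' with hq
  set d := Nat.card (two (G := G) a b)
  have hd3 := three_le_d hh
  have hbig : q ^ 3 ≤ Nat.card H := by rw [hH]; exact Nat.pow_le_pow_right (by omega) hr3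
  obtain ⟨s, μ, hs5, hcount, hμ, hinj, hone, hfree, hdata⟩ := exists_exceptional hh q hV hbig
  obtain ⟨Q, hQdef⟩ : ∃ Q, Q = q ^ (r - 2) := ⟨_, rfl⟩
  have hHQ : Nat.card H = q * q * Q := by
    rw [hH, hQdef, ← sq, ← pow_add]; congr 1; omega
  have hsd : s * d + 1 = q * Q := by
    refine Nat.eq_of_mul_eq_mul_right (show 0 < q by omega) ?_
    rw [hcount, hHQ]; ring
  have hqQ : q ≤ Q := by rw [hQdef]; exact Nat.le_self_pow (by omega) q
  have hbudget : ∀ {z g : G} (hs : SR hh z g), Nat.card hs.comp < s := by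
    intro z g hs
    rcases Nat.lt_or_ge 8 s with h | h
    · exact lt_of_le_of_lt hs.comp_card.1 h
    have hq4 : q = 4 := by
      have h1 : q * q ≤ 8 * d + 1 := le_trans (Nat.mul_le_mul_left _ hqQ) (hsd ▸ by
        have : s * d ≤ 8 * d := Nat.mul_le_mul_right _ h
        omega)
      have h2 : q < 8 := by
        by_contra h'
        have : 8 * q ≤ q * q := Nat.mul_le_mul_right _ (by omega)
        omega
      have : n' < 3 := by
        by_contra h'
        have := Nat.pow_le_pow_right two_pos (show 3 ≤ n' by omega)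
        omega
      rw [hq, show n' = 2 by omega]; norm_num
    have hd3' : d = 3 := by omega
    have hQ4 : Q = 4 := by
      have hr : r - 2 < 2 := by
        by_contra h'
        have : 4 ^ 2 ≤ Q := by rw [hQdef, hq4]; exact Nat.pow_le_pow_right (by norm_num) (by omega)
        rw [hd3', hq4] at hsd
        omega
      rw [hQdef, hq4, show r - 2 = 1 by omega, pow_one]
    have h65 : Nat.card (tor g) ∣ 65 := by
      have := hs.card_dvd
      rwa [← hh.cfg.card, hHQ, hq4, hQ4] at this
    refine lt_of_le_of_lt (hs.comp_card.2 ?_) (by omega)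
    have hm : Nat.card (tor g) ∈ Nat.divisors 65 := Nat.mem_divisors.2 ⟨h65, by norm_num⟩
    rw [show Nat.divisors 65 = {1, 5, 13, 65} by decide] at hm
    simp only [Finset.mem_insert, Finset.mem_singleton] at hm
    haveI : Fact (Nat.Prime 5) := ⟨by norm_num⟩
    haveI : Fact (Nat.Prime 13) := ⟨by norm_num⟩
    rcases hm with hm | hm | hm | hm
    · haveI : Subsingleton (tor g) := (Nat.card_eq_one_iff_unique.1 hm).1
      exact isCyclic_of_subsingleton
    · exact isCyclic_of_prime_card hm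
    · exact isCyclic_of_prime_card hm
    · obtain ⟨x, hx⟩ := exists_prime_orderOf_dvd_card' (G := tor g) 5 (by rw [hm]; norm_num)
      obtain ⟨y, hy⟩ := exists_prime_orderOf_dvd_card' (G := tor g) 13 (by rw [hm]; norm_num)
      refine isCyclic_of_orderOf_eq_card (x * y) ?_
      rw [(show Commute x y from Subtype.ext (hs.comm x.2 y.2)).orderOf_mul_eq_mul_orderOf_of_coprime
        (by rw [hx, hy]; norm_num), hx, hy, hm]
  have hvanish : ∀ i, ∀ {z g : G}, SR hh z g → μ i g = 0 ∧
      ∀ N : ℕ, μ i 1 = (N : ℂ) → Nat.card (tor g) ∣ N := by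
    intro i z g hs
    obtain ⟨h1, h2⟩ := hs.vanish μ hμ hinj hone hfree (hbudget hs) i
    exact ⟨h1 g hs.mem_T hs.ne_one, h2⟩
  let i₀ : Fin s := ⟨0, by omega⟩
  obtain ⟨N, x, c, ε, hN0, hε, hN, hx, hvan, hrel, hineq⟩ := hdata i₀
  obtain ⟨z, hz, hz1⟩ := exists_inv_two hh
  have hsum := class_sum hh (hμ i₀) hN hz hz1 hx hvan (fun g hg => (hvanish i₀ hg).1)
  set A : ℤ := s * c + ε with hA
  set M : ℤ := (d : ℤ) * A - x with hM
  have hqd : (q : ℤ) = (d : ℤ) + 1 := by
    have : q = d + 1 := hd.symm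
    exact_mod_cast this
  have hNd : (N : ℤ) = (d : ℤ) * (A + M) := by
    rw [hM]
    rw [hqd] at hrel
    linear_combination -hrel
  have hQcast : ((Q : ℕ) : ℤ) = 2 ^ (n' * (r - 2)) := by
    rw [hQdef, hq, ← pow_mul]; push_cast; rfl
  have hHz : (Nat.card H : ℤ) = (q : ℤ) * q * Q := by rw [hHQ]; push_cast; ring
  rw [hHz, show ((d : ℤ) - 1) = (q : ℤ) - 2 by rw [hqd]; ring] at hsum
  have hshape := degree_shape (q := (q : ℤ)) (d := (d : ℤ)) (Q := (Q : ℤ)) (A := A) (x := x) (M := M)
    (N := (N : ℤ)) (c := c) (ε := ε) hqd (by exact_mod_cast hd3) hQcast (by exact_mod_cast hqQ)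
    (by exact_mod_cast hN0) hNd (by rw [hM]; ring) hsum ?_ hε (fun hQq => ?_)
  rotate_left
  · by_cases hQq : (Q : ℤ) = q
    · left
      rw [hA]
      have h1 : (s : ℤ) * d + 1 = q * q := by
        rw [← hQq]; exact_mod_cast (show s * d + 1 = Q * Q by
          rw [hsd, show q = Q by exact_mod_cast hQq.symm])
      have h2 : (s : ℤ) = q + 1 := by
        refine mul_right_cancel₀ (show (d : ℤ) ≠ 0 by exact_mod_cast (by omega : d ≠ 0)) ?_
        rw [hqd] at h1 ⊢
        linarith
      rw [h2]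
    · exact Or.inr hQq
  · have h := hineq M hNd
    have h1 : ((s * d + 1 : ℕ) : ℤ) = q * q := by rw [hsd]; push_cast; rw [hQq]
    have h2 : (s : ℤ) = q + 1 := by
      refine mul_right_cancel₀ (show (d : ℤ) ≠ 0 by exact_mod_cast (by omega : d ≠ 0)) ?_
      push_cast at h1
      rw [hqd] at h1 ⊢
      linarith
    rw [h1, hHz, hQq, h2] at h
    exact h
  obtain ⟨hQq, hNq⟩ := hshape
  have hQq' : Q = q := by exact_mod_cast hQq
  have htor : ∀ g : G, SR hh z g → Nat.card (tor g) ≤ q + 1 := by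
    intro g hg
    have h1 : (Nat.card (tor g) : ℤ) ∣ (q : ℤ) * q * q + 1 := by
      have := hg.card_dvd
      rw [← hh.cfg.card, hHQ, hQq'] at this
      exact_mod_cast this
    have h2 : (Nat.card (tor g) : ℤ) ∣ (q : ℤ) * q - 1 := by
      rw [← hNq]; exact_mod_cast (hvanish i₀ hg).2 N hN
    have h3 : (Nat.card (tor g) : ℤ) ∣ (q : ℤ) + 1 := by
      have := dvd_sub h1 (h2.mul_left (q : ℤ))
      rwa [show (q : ℤ) * q * q + 1 - q * (q * q - 1) = (q : ℤ) + 1 by ring] at this
    exact_mod_cast Int.le_of_dvd (by positivity) h3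
  have h := count_bound hh hz hz1 htor
  have hfree2 := two_mul_card_free (Ω := Ω) hh.cfg.zass hh.cfg.ne (by
    rw [card_group' hh.cfg, ← hh.cfg.card, Nat.add_sub_cancel]; ring)
  rw [card_group' hh.cfg, ← hh.cfg.card] at hfree2
  push_cast at hfree2
  have h' : ((Nat.card H : ℤ) + 1) * d * ((Nat.card H : ℤ) * ((d : ℤ) + 1)) ≤
      2 * (((q : ℤ) + 1) * (Nat.card {g : G // ∀ c : Ω, g • c ≠ c} : ℤ)) := by exact_mod_cast h
  rw [mul_left_comm 2, hfree2, hHz, hQq, ← hqd] at h'
  have hq4 : (4 : ℤ) ≤ q := by rw [hqd]; omega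
  subst hQq'
  have hdq : (d : ℤ) = (q : ℤ) - 1 := by rw [hqd]; ring
  rw [hdq] at h'
  set H3 : ℤ := (q : ℤ) * q * q with hH3
  have hq2 : (q : ℤ) + 1 ≤ H3 := by nlinarith
  have h0 : 0 < H3 := by positivity
  nlinarith

/-- The parameters. -/
theorem main : ∃ n : ℕ, Odd n ∧ 1 < n ∧ Nat.card H = (2 ^ n) ^ 2 ∧
    Nat.card (two (G := G) a b) + 1 = 2 ^ n ∧ Nat.card (V hh) = 2 ^ n := by
  obtain ⟨n, r, hn2, -, hd, hV, -⟩ := exists_pow hh
  have hH := card_eq_sq hh hd
  refine ⟨n, ?_, hn2, hH, hd, hV⟩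
  by_contra hne
  obtain ⟨k, rfl⟩ := Nat.not_odd_iff_even.1 hne
  refine not_three_dvd hh hd hH ?_
  have h1 : 3 ∣ 4 ^ k - 1 := by simpa using Nat.sub_dvd_pow_sub_pow 4 1 k
  have h2 : (4 : ℕ) ^ k = 2 ^ (k + k) := by rw [← two_mul, pow_mul]; norm_num
  rw [show Nat.card (two (G := G) a b) = 4 ^ k - 1 by rw [h2]; omega]
  exact h1

end Cfsg.Agent.Involutions.Suzuki.Zass
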