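import Mathlib
import Cfsg.Prelude.Def_LieRecognition

/-!
# Equivariant alternating pairings on the involutions of a Suzuki 2-group

If a commutative group of automorphisms is regular on the involutions, which are central, then an
equivariant alternating biadditive map on the involutions is trivial.
-/

set_option autoImplicit false
set_option linter.unusedSectionVars false

namespace Cfsg.Agent.Involutions.Suzuki

/-- `K` is commutative and regular on the involutions, and all of them are central. -/
structure Regular {P : Type*} [Group P] (K : Subgroup (MulAut P)) : Prop where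
  comm : ∀ k l : K, k * l = l * k
  central : ∀ x : P, x * x = 1 → ∀ g : P, g * x = x * g
  regular : ∀ x y : P, x ≠ 1 → x * x = 1 → y ≠ 1 → y * y = 1 → ∃! k : K, (k : MulAut P) x = y

variable {P : Type*} [Group P] [Finite P] {K : Subgroup (MulAut P)}

omit [Finite P] in
theorem sq_map {x : P} (k : MulAut P) (hx : x * x = 1) : k x * k x = 1 := by
  rw [← map_mul, hx, map_one]

omit [Finite P] in
theorem coe_mul_apply (k l : K) (x : P) :
    ((k * l : K) : MulAut P) x = (k : MulAut P) ((l : MulAut P) x) := by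
  rw [Subgroup.coe_mul, MulAut.mul_apply]

variable (hK : Regular K)
include hK

theorem sq_mul {x y : P} (hx : x * x = 1) (hy : y * y = 1) : x * y * (x * y) = 1 := by
  calc x * y * (x * y) = x * (y * x) * y := by group
    _ = x * (x * y) * y := by rw [hK.central x hx y]
    _ = (x * x) * (y * y) := by group
    _ = 1 := by rw [hx, hy, one_mul]

theorem apply_comm (k l : K) (x : P) :
    (k : MulAut P) ((l : MulAut P) x) = (l : MulAut P) ((k : MulAut P) x) := by
  rw [← coe_mul_apply, hK.comm, coe_mul_apply]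

theorem exists_sq {v : P} (hv1 : v ≠ 1) (hv : v * v = 1) (k : K) : ∃ l : K, l * l = k := by
  haveI : Finite (MulAut P) := Finite.of_injective _ DFunLike.coe_injective
  have hinj : Function.Injective (fun l : K => l * l) := by
    intro l m hlm
    have hlm' : l * l = m * m := hlm
    set d := l * m⁻¹ with hd
    have hd2 : d * d = 1 := by
      calc d * d = l * (m⁻¹ * l) * m⁻¹ := by rw [hd]; group
        _ = l * (l * m⁻¹) * m⁻¹ := by rw [hK.comm m⁻¹ l]
        _ = (l * l) * (m⁻¹ * m⁻¹) := by group
        _ = 1 := by rw [hlm']; group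
    have hfix : ∀ w : P, w ≠ 1 → w * w = 1 → (d : MulAut P) w = w → d = 1 := fun w hw1 hw h =>
      (hK.regular w w hw1 hw hw1 hw).unique h (by simp)
    refine mul_inv_eq_one.1 (show d = 1 from ?_)
    have hdv := sq_map (d : MulAut P) hv
    by_cases h : v * (d : MulAut P) v = 1
    · exact hfix v hv1 hv
        ((eq_inv_of_mul_eq_one_right h).trans (inv_eq_of_mul_eq_one_left hv))
    · refine hfix _ h (sq_mul hK hv hdv) ?_
      rw [map_mul, ← coe_mul_apply, hd2]
      simp only [OneMemClass.coe_one, MulAut.one_apply]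
      exact hK.central v hv _
  exact Finite.surjective_of_injective hinj k

/-- An equivariant alternating biadditive map on involutions is trivial. -/
theorem pairing_eq_one (b : P → P → P)
    (hb : ∀ x y : P, x * x = 1 → y * y = 1 → b x y * b x y = 1)
    (hadd : ∀ x x' y : P, x * x = 1 → x' * x' = 1 → y * y = 1 → b (x * x') y = b x y * b x' y)
    (hsymm : ∀ x y : P, x * x = 1 → y * y = 1 → b x y = b y x)
    (halt : ∀ x : P, x * x = 1 → b x x = 1)
    (heq : ∀ (k : K) (x y : P), x * x = 1 → y * y = 1 →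
      b ((k : MulAut P) x) ((k : MulAut P) y) = (k : MulAut P) (b x y))
    {v : P} (hv1 : v ≠ 1) (hv : v * v = 1) {x y : P} (hx : x * x = 1) (hy : y * y = 1) :
    b x y = 1 := by
  let L : K → P := fun k => b v ((k : MulAut P) v)
  have hkv : ∀ k : K, (k : MulAut P) v * (k : MulAut P) v = 1 := fun k => sq_map _ hv
  have hL2 : ∀ k, L k * L k = 1 := fun k => hb _ _ hv (hkv k)
  have hLinv : ∀ k : K, L k = (k : MulAut P) (L k⁻¹) := by
    intro k
    show b v ((k : MulAut P) v) = (k : MulAut P) (b v (((k⁻¹ : K) : MulAut P) v))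
    rw [← heq k _ _ hv (hkv _), ← coe_mul_apply, mul_inv_cancel]
    simp only [OneMemClass.coe_one, MulAut.one_apply]
    exact hsymm _ _ hv (hkv k)
  have hadd2 : ∀ x y y' : P, x * x = 1 → y * y = 1 → y' * y' = 1 →
      b x (y * y') = b x y * b x y' := fun x y y' hx hy hy' => by
    rw [hsymm x _ hx (sq_mul hK hy hy'), hadd y y' x hy hy' hx, hsymm y x hy hx, hsymm y' x hy' hx]
  have hL : ∀ k : K, L (k * k) = 1 := by
    intro k
    by_cases hk : v * (k : MulAut P) v = 1
    · have h1 : (k : MulAut P) v = v :=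
        (eq_inv_of_mul_eq_one_right hk).trans (inv_eq_of_mul_eq_one_left hv)
      show b v (((k * k : K) : MulAut P) v) = 1
      rw [coe_mul_apply, h1, h1]
      exact halt v hv
    obtain ⟨μ, hμ, -⟩ := hK.regular v _ hv1 hv hk (sq_mul hK hv (hkv k))
    have hact : ∀ w : P, w * w = 1 → (μ : MulAut P) w = w * (k : MulAut P) w := by
      intro w hw
      by_cases hw1 : w = 1
      · simp [hw1]
      obtain ⟨ν, hν, -⟩ := hK.regular v w hv1 hv hw1 hw
      rw [← hν, apply_comm hK μ ν, hμ, map_mul, apply_comm hK ν k]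
    have e1 : (((k * μ)⁻¹ : K) : MulAut P) v
        = ((k⁻¹ : K) : MulAut P) v * ((μ⁻¹ : K) : MulAut P) v := by
      apply ((k * μ : K) : MulAut P).injective
      rw [← coe_mul_apply, mul_inv_cancel, map_mul, ← coe_mul_apply, ← coe_mul_apply,
        mul_inv_cancel_right, show k * μ * k⁻¹ = μ by rw [hK.comm k μ, mul_inv_cancel_right], hμ]
      simp only [OneMemClass.coe_one, MulAut.one_apply]
      rw [mul_assoc, hkv k, mul_one]
    have e2 : L (k * μ) = L k * L (k * k) := by
      show b v (((k * μ : K) : MulAut P) v) = _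
      rw [coe_mul_apply, hμ, map_mul, hadd2 v _ _ hv (hkv k) (sq_map _ (hkv k)), ← coe_mul_apply]
    have hLμ : L μ = L k := by
      show b v ((μ : MulAut P) v) = _
      rw [hμ, hadd2 v _ _ hv hv (hkv k), halt v hv, one_mul]
    have e3 : L (k * μ) = L k := by
      rw [hLinv (k * μ)]
      show ((k * μ : K) : MulAut P) (b v ((((k * μ)⁻¹ : K) : MulAut P) v)) = _
      rw [e1, hadd2 v _ _ hv (hkv _) (hkv _), map_mul]
      have f1 : ((k * μ : K) : MulAut P) (L k⁻¹) = L k * (k : MulAut P) (L k) := by
        rw [coe_mul_apply, apply_comm hK k μ, ← hLinv k, hact _ (hL2 k)]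
      have f2 : ((k * μ : K) : MulAut P) (L μ⁻¹) = (k : MulAut P) (L k) := by
        rw [coe_mul_apply, ← hLinv μ, hLμ]
      show ((k * μ : K) : MulAut P) (L k⁻¹) * ((k * μ : K) : MulAut P) (L μ⁻¹) = _
      rw [f1, f2, mul_assoc, sq_map _ (hL2 k), mul_one]
    exact mul_left_cancel (a := L k) (by rw [← e2, e3, mul_one])
  by_cases hx1 : x = 1
  · subst hx1
    have h := hadd 1 1 y hx hx hy
    rw [one_mul] at h
    exact mul_eq_left.1 h.symm
  by_cases hy1 : y = 1
  · subst hy1
    have h := hadd2 x 1 1 hx hy hy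
    rw [one_mul] at h
    exact mul_eq_left.1 h.symm
  obtain ⟨k, hk, -⟩ := hK.regular v x hv1 hv hx1 hx
  obtain ⟨l, hl, -⟩ := hK.regular v _ hv1 hv
    (show ((k⁻¹ : K) : MulAut P) y ≠ 1 by simpa using hy1) (sq_map _ hy)
  obtain ⟨m, rfl⟩ := exists_sq hK hv1 hv l
  have hy' : y = (k : MulAut P) (((m * m : K) : MulAut P) v) := by
    rw [hl, ← coe_mul_apply, mul_inv_cancel]; simp
  rw [hy', ← hk, heq k _ _ hv (hkv _)]
  rw [show b v (((m * m : K) : MulAut P) v) = 1 from hL m, map_one]

end Cfsg.Agent.Involutions.Suzuki
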