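import Cfsg.Agent.Lib.Involutions.Suzuki.ZassKernel

/-!
# The exponent `n` is odd

If three divides `q - 1` then two involutions with different fixed points have a product of order
three, and `VD ∪ VDsV` is a subgroup of order `q (q - 1) (q + 1)`.  When `|H| = q ^ 2` its order does
not divide the group order.
-/

set_option autoImplicit false
set_option linter.unusedSectionVars false
set_option linter.style.haveILetI false

namespace Cfsg.Agent.Involutions.Suzuki.Zass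

open Cfsg.Agent.CharTheory.Zassenhaus
open Involutions.Basic

universe u v

variable {G : Type u} {Ω : Type v} [Group G] [MulAction G Ω] [Fintype Ω] {a b : Ω} {H : Subgroup G}
  [Fintype G] [IsSimpleGroup G] (hh : Hyp a b H)
include hh

/-- An involution `w` fixing `b` and an element `z` of `V` with `z w z = w z w`. -/
theorem exists_braid (h3 : 3 ∣ Nat.card (two (G := G) a b)) :
    ∃ z w : G, z ∈ V hh ∧ z ≠ 1 ∧ w ≠ 1 ∧ w * w = 1 ∧ w • b = b ∧ z * w * z = w * z * w := by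
  haveI : Fact (Nat.Prime 3) := ⟨Nat.prime_three⟩
  obtain ⟨⟨x, hx⟩, hx3⟩ := exists_prime_orderOf_dvd_card' (G := two (G := G) a b) 3 h3
  have hx3' : orderOf x = 3 := by rw [← hx3]; exact (Subgroup.orderOf_coe (⟨x, hx⟩ : two (G := G) a b))
  obtain ⟨s, hs, hsa, hsb⟩ := exists_swap hh.cfg
  have hsx : orderOf (s * x) = 2 ∧ (s * x) • a = b := (swap_set hh.cfg hh.odd hs hsa hsb _).2 (by
    rwa [← mul_assoc, inv_mul_self hs, one_mul])
  obtain ⟨z, hz, hz1⟩ := exists_inv_two hh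
  obtain ⟨g, hg⟩ := isConj_iff.1
    (isConj_all hh.cfg hh.odd hs (orderOf_two_iff.2 ⟨hz.2, hz1⟩))
  set w₀ := g * (s * x) * g⁻¹ with hw₀
  have hw₀2 : orderOf w₀ = 2 :=
    (orderOf_injective (MulAut.conj g).toMonoidHom (MulEquiv.injective _) (s * x)).trans hsx.1
  have hzw : z * w₀ = g * x * g⁻¹ := by
    rw [← hg, hw₀, show g * s * g⁻¹ * (g * (s * x) * g⁻¹) = g * (s * s) * x * g⁻¹ by group,
      inv_mul_self hs, mul_one]
  have hord : orderOf (z * w₀) = 3 := by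
    rw [hzw]
    exact (orderOf_injective (MulAut.conj g).toMonoidHom (MulEquiv.injective _) x).trans hx3'
  obtain ⟨⟨⟨c, hc⟩⟩⟩ := (Nat.card_pos_iff (α := MulAction.fixedBy Ω w₀)).1 (by
    rw [fixed_card hh.cfg hh.odd hw₀2, if_pos (even_card hh)]; exact one_pos)
  have hca : c ≠ a := by
    rintro rfl
    have h1 := (V hh).mul_mem hz (mem_V_of_fix hh (orderOf_two_iff.1 hw₀2).1 hc)
    have h2 : orderOf (z * w₀) ∣ 2 := orderOf_dvd_of_pow_eq_one (by rw [sq]; exact h1.2)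
    rw [hord] at h2
    norm_num at h2
  obtain ⟨u, hu, huc⟩ := exists_mem_smul hh.cfg hca
  set w := u⁻¹ * w₀ * u with hw
  have hzu : u⁻¹ * z * u = z := by
    rw [← inv_central hh hz.1 hz.2 (H.inv_mem hu), inv_mul_cancel_right]
  have hwinv : orderOf w = 2 := by
    rw [← hw₀2, ← orderOf_injective (MulAut.conj u⁻¹).toMonoidHom (MulEquiv.injective _) w₀]
    simp [hw]
  obtain ⟨hw2, hw1⟩ := orderOf_two_iff.1 hwinv
  have hwfix : w • b = b := by
    rw [hw, mul_smul, mul_smul, huc, hc, inv_smul_eq_iff, huc]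
  have h1 : (z * w) ^ 3 = 1 := by
    rw [← hzu, hw, show u⁻¹ * z * u * (u⁻¹ * w₀ * u) = u⁻¹ * (z * w₀) * u⁻¹⁻¹ by group, conj_pow,
      ← hord, pow_orderOf_eq_one, mul_one, mul_inv_cancel]
  refine ⟨z, w, hz, hz1, hw1, hw2, hwfix, ?_⟩
  clear_value w
  have e : z * w * z * (w * z * w) = 1 := by
    rw [← h1]; simp [pow_succ, mul_assoc]
  rw [eq_inv_of_mul_eq_one_left e, mul_inv_rev, mul_inv_rev, inv_eq_of_mul_eq_one_right hw2,
    inv_eq_of_mul_eq_one_right hz.2, mul_assoc]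

/-- Three does not divide the order of the two-point stabiliser if `|H| = q ^ 2`. -/
theorem not_three_dvd {q : ℕ} (hq : Nat.card (two (G := G) a b) + 1 = q)
    (hH : Nat.card H = q ^ 2) : ¬ 3 ∣ Nat.card (two (G := G) a b) := by
  classical
  intro h3
  obtain ⟨z, w, hz, hz1, hw1, hw2, hwb, hbraid⟩ := exists_braid hh h3
  obtain ⟨s, hs, hsa, hsb⟩ := exists_swap hh.cfg
  have hss : s * s = 1 := inv_mul_self hs
  have hsi : s⁻¹ = s := inv_eq_of_mul_eq_one_right hss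
  have hza : z • a = a := hh.cfg.le hz.1
  have hzz : z⁻¹ = z := inv_eq_of_mul_eq_one_right hz.2
  have hwa : w • a ≠ a := fun h =>
    hh.cfg.ne (fix_unique hh.cfg hh.odd (orderOf_two_iff.2 ⟨hw2, hw1⟩) h hwb)
  -- the common involution swaps the two points
  have hzwa : z • w • a = b := by
    have h1 : w • (z • w • a) = z • w • a := by
      have e : (z * w * z) • a = (w * z * w) • a := by rw [hbraid]
      rw [mul_smul, mul_smul, mul_smul, mul_smul, hza] at e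
      exact e.symm
    exact fix_unique hh.cfg hh.odd (orderOf_two_iff.2 ⟨hw2, hw1⟩) h1 hwb
  set u₀ := z * w * z with hu₀
  have hu₀2 : orderOf u₀ = 2 := by
    have := orderOf_injective (MulAut.conj z).toMonoidHom (MulEquiv.injective _) w
    rw [orderOf_two_iff.2 ⟨hw2, hw1⟩] at this
    rw [← this]
    simp [hu₀, hzz]
  have hu₀a : u₀ • a = b := by rw [hu₀, mul_smul, mul_smul, hza, hzwa]
  have hk := (swap_set hh.cfg hh.odd hs hsa hsb u₀).1 ⟨hu₀2, hu₀a⟩
  set k₀ := s * u₀ with hk₀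
  have hwk : w = z * (s * k₀) * z := by
    rw [hk₀, ← mul_assoc s s, hss, one_mul, hu₀, show z * (z * w * z) * z = (z * z) * w * (z * z) by group,
      hz.2, one_mul, mul_one]
  let A : G → Prop := fun g => ∃ v ∈ V hh, ∃ k ∈ two (G := G) a b, g = v * k
  let B : G → Prop := fun g =>
    ∃ v ∈ V hh, ∃ k ∈ two (G := G) a b, ∃ v' ∈ V hh, g = v * k * s * v'
  have hsk : ∀ k ∈ two (G := G) a b, s * k = k⁻¹ * s := fun k hk => by
    rw [← swap_inverts hh.cfg hh.odd hs hsa hsb hk, hsi, mul_assoc, hss, mul_one]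
  have hcv : ∀ k ∈ two (G := G) a b, ∀ v ∈ V hh, k * v * k⁻¹ ∈ V hh := fun k hk v hv =>
    conj_V hh hk.1 hv
  -- conjugates of `V` by the swap
  have hsVs : ∀ v ∈ V hh, A (s * v * s) ∨ B (s * v * s) := by
    intro v hv
    by_cases hv1 : v = 1
    · exact Or.inl ⟨1, (V hh).one_mem, 1, Subgroup.one_mem _, by rw [hv1, mul_one, hss, mul_one]⟩
    refine Or.inr ?_
    have hsw : s * w * s ∈ V hh := by
      refine mem_V_of_fix hh ?_ ?_
      · rw [show s * w * s * (s * w * s) = s * w * (s * s) * w * s by group, hss, mul_one,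
          mul_assoc s w w, hw2, mul_one, hss]
      · rw [mul_smul, mul_smul, hsa, hwb, hsb]
    have hsw1 : s * w * s ≠ 1 := fun e => hw1 (by
      rw [show w = (s * s) * w * (s * s) by rw [hss, one_mul, mul_one],
        show s * s * w * (s * s) = s * (s * w * s) * s by group, e, mul_one, hss])
    obtain ⟨k, hk, hkv⟩ := exists_conj hh hsw hsw1 hv hv1
    refine ⟨k⁻¹ * z * k⁻¹⁻¹, hcv _ (Subgroup.inv_mem _ hk) _ hz,
      k⁻¹ * k₀⁻¹ * k⁻¹, Subgroup.mul_mem _ (Subgroup.mul_mem _ (Subgroup.inv_mem _ hk) (Subgroup.inv_mem _ (by assumption))) (Subgroup.inv_mem _ hk),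
      k⁻¹ * z * k⁻¹⁻¹, hcv _ (Subgroup.inv_mem _ hk) _ hz, ?_⟩
    calc s * v * s = (s * k) * (s * w * s) * (k⁻¹ * s) := by rw [← hkv]; group
      _ = (k⁻¹ * s) * (s * w * s) * (s * k) := by rw [hsk k hk]
      _ = k⁻¹ * ((s * s) * w * (s * s)) * k := by group
      _ = k⁻¹ * w * k := by rw [hss, one_mul, mul_one]
      _ = k⁻¹ * (z * (k₀⁻¹ * s) * z) * k := by rw [hwk, hsk k₀ (by assumption)]
      _ = (k⁻¹ * z * k⁻¹⁻¹) * (k⁻¹ * k₀⁻¹) * (s * k) * (k⁻¹ * z * k⁻¹⁻¹) := by group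
      _ = (k⁻¹ * z * k⁻¹⁻¹) * (k⁻¹ * k₀⁻¹ * k⁻¹) * s * (k⁻¹ * z * k⁻¹⁻¹) := by
          rw [hsk k hk]; group
  -- the subgroup
  have hAA : ∀ {g h}, A g → A h → A (g * h) := by
    rintro _ _ ⟨v, hv, k, hk, rfl⟩ ⟨v', hv', k', hk', rfl⟩
    exact ⟨v * (k * v' * k⁻¹), (V hh).mul_mem hv (hcv _ hk _ hv'), k * k',
      Subgroup.mul_mem _ hk hk', by group⟩
  have hAB : ∀ {g h}, A g → B h → B (g * h) := by
    rintro _ _ ⟨v, hv, k, hk, rfl⟩ ⟨v', hv', k', hk', v'', hv'', rfl⟩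
    exact ⟨v * (k * v' * k⁻¹), (V hh).mul_mem hv (hcv _ hk _ hv'), k * k',
      Subgroup.mul_mem _ hk hk', v'', hv'', by group⟩
  have hBA : ∀ {g h}, B g → A h → B (g * h) := by
    rintro _ _ ⟨v, hv, k, hk, v', hv', rfl⟩ ⟨v'', hv'', k', hk', rfl⟩
    refine ⟨v, hv, k * k'⁻¹, Subgroup.mul_mem _ hk (Subgroup.inv_mem _ hk'),
      k'⁻¹ * (v' * v'') * k'⁻¹⁻¹, hcv _ (Subgroup.inv_mem _ hk') _ ((V hh).mul_mem hv' hv''), ?_⟩
    calc v * k * s * v' * (v'' * k') = v * k * (s * k') * (k'⁻¹ * (v' * v'') * k'⁻¹⁻¹) := by group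
      _ = _ := by rw [hsk k' hk']; group
  have hR : ∀ {g h}, A g ∨ B g → A h ∨ B h → A (g * h) ∨ B (g * h) := by
    intro g h hg hh'
    rcases hg with hg | hg <;> rcases hh' with hh' | hh'
    · exact Or.inl (hAA hg hh')
    · exact Or.inr (hAB hg hh')
    · exact Or.inr (hBA hg hh')
    · obtain ⟨v, hv, k, hk, v', hv', rfl⟩ := hg
      obtain ⟨v'', hv'', k', hk', v₃, hv₃, rfl⟩ := hh'
      set v₄ := k'⁻¹ * (v' * v'') * k'⁻¹⁻¹ with hv₄
      have h4 : v₄ ∈ V hh := hcv _ (Subgroup.inv_mem _ hk') _ ((V hh).mul_mem hv' hv'')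
      have e : v * k * s * v' * (v'' * k' * s * v₃) = (v * (k * k'⁻¹)) * (s * v₄ * s) * (v₃ * 1) := by
        calc v * k * s * v' * (v'' * k' * s * v₃)
            = v * k * (s * k') * v₄ * s * v₃ := by rw [hv₄]; group
          _ = _ := by rw [hsk k' hk']; group
      have hA1 : A (v * (k * k'⁻¹)) := ⟨v, hv, _, Subgroup.mul_mem _ hk (Subgroup.inv_mem _ hk'), rfl⟩
      have hA3 : A (v₃ * 1) := ⟨v₃, hv₃, 1, Subgroup.one_mem _, rfl⟩
      rw [e]
      rcases hsVs v₄ h4 with h5 | h5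
      · exact Or.inl (hAA (hAA hA1 h5) hA3)
      · exact Or.inr (hBA (hAB hA1 h5) hA3)
  let R : Submonoid G :=
    { carrier := {g | A g ∨ B g}
      one_mem' := Or.inl ⟨1, (V hh).one_mem, 1, Subgroup.one_mem _, (one_mul 1).symm⟩
      mul_mem' := hR }
  let f : (V hh × two (G := G) a b) ⊕ ((V hh × two (G := G) a b) × V hh) → G :=
    Sum.elim (fun p => (p.1 : G) * p.2) fun p => (p.1.1 : G) * p.1.2 * s * p.2
  have hfix : ∀ p : V hh × two (G := G) a b, ((p.1 : G) * p.2) • a = a := fun p => by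
    rw [mul_smul, show (p.2 : G) • a = a from p.2.2.1]
    exact hh.cfg.le p.1.2.1
  have hdec : ∀ {v v' : V hh} {k k' : two (G := G) a b}, (v : G) * k = v' * k' → v = v' ∧ k = k' := by
    intro v v' k k' e
    have h1 : (v' : G)⁻¹ * v = k' * (k : G)⁻¹ := by
      rw [eq_mul_inv_iff_mul_eq, mul_assoc, e, inv_mul_cancel_left]
    have h2 := inf_two hh.cfg (H.mul_mem (H.inv_mem v'.2.1) v.2.1)
      (h1 ▸ Subgroup.mul_mem _ k'.2 (Subgroup.inv_mem _ k.2))
    have hv : v = v' := Subtype.ext (inv_mul_eq_one.1 h2).symm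
    exact ⟨hv, Subtype.ext (mul_left_cancel (hv ▸ e))⟩
  have hba : ∀ p : (V hh × two (G := G) a b) × V hh, f (Sum.inr p) • ((p.2 : G)⁻¹ • b) = a := by
    intro p
    show ((p.1.1 : G) * p.1.2 * s * p.2) • _ = a
    rw [mul_smul, smul_inv_smul, mul_smul, hsb]
    exact hfix p.1
  have hfinj : Function.Injective f := by
    have hsep : ∀ p q, f (Sum.inl p) ≠ f (Sum.inr q) := by
      intro p q e
      have h1 := hba q
      rw [← e] at h1
      have h2 : ((q.2 : G)⁻¹ • b : Ω) = a := smul_left_cancel _ (h1.trans (hfix p).symm)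
      rw [inv_smul_eq_iff, show (q.2 : G) • a = a from hh.cfg.le q.2.2.1] at h2
      exact hh.cfg.ne h2.symm
    rintro (⟨v, k⟩ | ⟨⟨v, k⟩, u⟩) (⟨v', k'⟩ | ⟨⟨v', k'⟩, u'⟩) e
    · obtain ⟨rfl, rfl⟩ := hdec (v := v) (v' := v') (k := k) (k' := k') e; rfl
    · exact absurd e (hsep _ _)
    · exact absurd e.symm (hsep _ _)
    · have h1 := hba ((v, k), u)
      rw [e] at h1
      have h2 : (u : G)⁻¹ • b = (u' : G)⁻¹ • b := smul_left_cancel _ (h1.trans (hba ((v', k'), u')).symm)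
      have h3 := eq_of_smul_eq_a hh.cfg (H.inv_mem u.2.1) (H.inv_mem u'.2.1) h2
      obtain rfl : u = u' := Subtype.ext (inv_injective h3)
      have e' : (v : G) * k = v' * k' := mul_right_cancel (mul_right_cancel e)
      obtain ⟨rfl, rfl⟩ := hdec e'
      rfl
  have hRinv : ∀ g ∈ R, g⁻¹ ∈ R := fun g hg => by
    obtain ⟨j, -, hj⟩ := Submonoid.mem_powers_iff _ _ |>.1
      (mem_powers_iff_mem_zpowers.2 (Subgroup.inv_mem _ (Subgroup.mem_zpowers g))) |> fun ⟨j, hj⟩ =>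
        (⟨j, trivial, hj⟩ : ∃ j, True ∧ g ^ j = g⁻¹)
    rw [← hj]
    exact R.pow_mem hg j
  let R' : Subgroup G := { R with inv_mem' := fun {g} hg => hRinv g hg }
  have hrange : Set.range f = (R' : Set G) := by
    ext g
    constructor
    · rintro ⟨p | p, rfl⟩
      · exact Or.inl ⟨_, p.1.2, _, p.2.2, rfl⟩
      · exact Or.inr ⟨_, p.1.1.2, _, p.1.2.2, _, p.2.2, rfl⟩
    · rintro (⟨v, hv, k, hk, rfl⟩ | ⟨v, hv, k, hk, v', hv', rfl⟩)
      · exact ⟨Sum.inl (⟨v, hv⟩, ⟨k, hk⟩), rfl⟩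
      · exact ⟨Sum.inr ((⟨v, hv⟩, ⟨k, hk⟩), ⟨v', hv'⟩), rfl⟩
  have hcard : Nat.card R' = q * Nat.card (two (G := G) a b) * (q + 1) := by
    rw [← SetLike.coe_sort_coe, ← hrange, Nat.card_range_of_injective hfinj, Nat.card_sum,
      Nat.card_prod, Nat.card_prod, Nat.card_prod, card_V hh, hq]
    ring
  have hdvd := Subgroup.card_subgroup_dvd_card R'
  rw [hcard, card_group' hh.cfg, hH] at hdvd
  set d := Nat.card (two (G := G) a b) with hd
  have hd3 := three_le_d hh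
  have h1 : q + 1 ∣ (q ^ 2 + 1) * q := by
    refine Nat.dvd_of_mul_dvd_mul_left (show 0 < q * d from Nat.mul_pos (by omega) (by omega)) ?_
    rw [show q * d * ((q ^ 2 + 1) * q) = (q ^ 2 + 1) * (q ^ 2 * d) by ring]
    exact hdvd
  have h2 : ((q : ℤ) + 1) ∣ ((q : ℤ) ^ 2 + 1) * q := by exact_mod_cast h1
  have h4 : ((q : ℤ) + 1) ∣ ((q : ℤ) + 1) * ((q : ℤ) ^ 2 - q + 2) := dvd_mul_right _ _
  have h5 : ((q : ℤ) + 1) ∣ 2 := by
    have := dvd_sub h4 h2
    rwa [show ((q : ℤ) + 1) * ((q : ℤ) ^ 2 - q + 2) - ((q : ℤ) ^ 2 + 1) * q = 2 by ring] at this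
  have h6 := Int.le_of_dvd two_pos h5
  omega

end Cfsg.Agent.Involutions.Suzuki.Zass
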