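import Cfsg.Agent.Lib.Involutions.Suzuki.ZassKernel

/-!
# Strongly real elements without fixed points

The centraliser `T` of an element without fixed points inverted by an involution `z` of `V` is an
abelian TI subgroup of odd order, semiregular on the points, and `N(T) = T L` with `L = N(T) ⊓ H` of
order at most eight.
-/

set_option autoImplicit false
set_option linter.unusedSectionVars false
set_option linter.style.haveILetI false

namespace Cfsg.Agent.Involutions.Suzuki.Zass

open Cfsg.Agent.CharTheory.Zassenhaus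
open Involutions.Basic

universe u v

section SmallGroup

variable {L : Type*} [Group L] [Finite L] {z : L}

/-- A group of exponent four with a unique involution has order at most eight, four if abelian. -/
theorem card_le_eight (h4 : ∀ x : L, x * x * (x * x) = 1)
    (hu : ∀ x : L, x * x = 1 → x = 1 ∨ x = z) :
    Nat.card L ≤ 8 ∧ ((∀ x y : L, x * y = y * x) → Nat.card L ≤ 4) := by
  classical
  haveI := Fintype.ofFinite L
  rw [Nat.card_eq_fintype_card, ← Finset.card_univ]
  by_cases hall : ∀ x : L, x * x = 1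
  · have hsub : (Finset.univ : Finset L) ⊆ {1, z} := fun x _ => by
      rcases hu x (hall x) with h | h <;> simp [h]
    have := (Finset.card_le_card hsub).trans Finset.card_le_two
    exact ⟨by omega, fun _ => by omega⟩
  push Not at hall
  obtain ⟨x, hx⟩ := hall
  have hxz : x * x = z := (hu _ (h4 x)).resolve_left hx
  have hz2 : z * z = 1 := by rw [← hxz]; exact h4 x
  have hzc : ∀ y : L, y * z = z * y := by
    intro y
    rcases hu (y * z * y⁻¹) (by
      rw [show y * z * y⁻¹ * (y * z * y⁻¹) = y * (z * z) * y⁻¹ by group, hz2, mul_one, mul_inv_cancel]) with h | h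
    · rw [conj_eq_one_iff] at h; simp [h]
    · exact mul_inv_eq_iff_eq_mul.1 h
  set C := Finset.univ.filter fun c : L => c * x = x * c with hC
  have hC4 : C.card ≤ 4 := by
    have hsub : C ⊆ {1, z, x, x * z} := by
      intro c hc
      simp only [hC, Finset.mem_filter, Finset.mem_univ, true_and] at hc
      simp only [Finset.mem_insert, Finset.mem_singleton]
      by_cases hc2 : c * c = 1
      · rcases hu c hc2 with h | h <;> simp [h]
      have hcz : c * c = z := (hu _ (h4 c)).resolve_left hc2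
      have hci : c * x⁻¹ * (c * x⁻¹) = 1 := by
        rw [show c * x⁻¹ * (c * x⁻¹) = c * (x⁻¹ * c) * x⁻¹ by group,
          ← (Commute.inv_right (show Commute c x from hc)).eq,
          show c * (c * x⁻¹) * x⁻¹ = (c * c) * (x * x)⁻¹ by group, hcz, hxz, mul_inv_cancel]
      rcases hu _ hci with h | h
      · rw [mul_inv_eq_one] at h; simp [h]
      · rw [mul_inv_eq_iff_eq_mul, ← hzc] at h; simp [h]
    refine (Finset.card_le_card hsub).trans ?_
    refine (Finset.card_insert_le _ _).trans (Nat.succ_le_succ ?_)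
    refine (Finset.card_insert_le _ _).trans (Nat.succ_le_succ ?_)
    exact Finset.card_le_two
  refine ⟨?_, fun hcomm => le_trans (Finset.card_le_card fun c _ => ?_) hC4⟩
  swap
  · simp [hC, hcomm c x]
  have hrest : ∀ y : L, y ∉ C → y * x * y⁻¹ = x⁻¹ := by
    intro y hy
    simp only [hC, Finset.mem_filter, Finset.mem_univ, true_and] at hy
    have hy2 : y * y = z := by
      refine (hu _ (h4 y)).resolve_left fun h => ?_
      rcases hu y h with h1 | h1
      · exact hy (by simp [h1])
      · exact hy (by rw [h1, hzc])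
    have hxy : x * y * (x * y) = z := by
      refine (hu _ (h4 (x * y))).resolve_left fun h => ?_
      rcases hu _ h with h1 | h1
      · exact hy (by rw [eq_inv_of_mul_eq_one_right h1, inv_mul_cancel, mul_inv_cancel])
      · refine hy ?_
        have e : y = x⁻¹ * z := eq_inv_mul_iff_mul_eq.2 h1
        rw [e, mul_assoc, ← hzc x, ← mul_assoc, inv_mul_cancel, one_mul, ← mul_assoc, mul_inv_cancel, one_mul]
    have hyxy : y * x * y = x := by
      refine mul_left_cancel (a := x) ?_
      rw [hxz, ← hxy]; group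
    calc y * x * y⁻¹ = y * x * y * (y * y)⁻¹ := by group
      _ = x * (x * x)⁻¹ := by rw [hyxy, hy2, hxz]
      _ = x⁻¹ := by group
  by_cases hex : ∃ y : L, y ∉ C
  · obtain ⟨y₀, hy₀⟩ := hex
    have hsub : (Finset.univ : Finset L) ⊆ C ∪ C.image (y₀ * ·) := by
      intro y _
      rw [Finset.mem_union, Finset.mem_image]
      by_cases hy : y ∈ C
      · exact Or.inl hy
      refine Or.inr ⟨y₀⁻¹ * y, ?_, mul_inv_cancel_left _ _⟩
      simp only [hC, Finset.mem_filter, Finset.mem_univ, true_and]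
      have e1 := hrest y hy
      rw [← hrest y₀ hy₀] at e1
      calc y₀⁻¹ * y * x = y₀⁻¹ * (y * x * y⁻¹) * y := by group
        _ = y₀⁻¹ * (y₀ * x * y₀⁻¹) * y := by rw [e1]
        _ = x * (y₀⁻¹ * y) := by group
    refine (Finset.card_le_card hsub).trans ((Finset.card_union_le _ _).trans ?_)
    have := Finset.card_image_le (s := C) (f := (y₀ * ·))
    omega
  · push Not at hex
    exact (Finset.card_le_card fun y _ => hex y).trans (by omega)

end SmallGroup

variable {G : Type u} {Ω : Type v} [Group G] [MulAction G Ω] [Fintype Ω] {a b : Ω} {H : Subgroup G}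
  [Fintype G] [IsSimpleGroup G] (hh : Hyp a b H)

/-- The centraliser of an element. -/
abbrev tor {G : Type*} [Group G] (g : G) : Subgroup G := Subgroup.centralizer ({g} : Set G)

/-- An element without fixed points inverted by the involution `z` of `V`. -/
structure SR (z g : G) : Prop where
  mem : z ∈ V hh
  ne : z ≠ 1
  inv : z * g * z = g⁻¹
  fpf : ∀ c : Ω, g • c ≠ c

variable {hh} {z g : G} (hs : SR hh z g)
include hs


theorem SR.z_inv : z⁻¹ = z := inv_eq_of_mul_eq_one_right hs.mem.2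

theorem SR.ne_one : g ≠ 1 := fun e => hs.fpf a (by rw [e, one_smul])

theorem SR.mem_T : g ∈ (tor g) := Subgroup.mem_centralizer_singleton_iff.2 rfl

theorem SR.not_fix_mem {x : G} (hx : x ∈ (tor g)) (hxH : x ∈ H) : x = 1 := by
  by_contra hx1
  rw [Subgroup.mem_centralizer_singleton_iff] at hx
  have hxa : x • a = a := hh.cfg.le hxH
  refine hs.fpf a (hh.cfg.fix x hxH hx1 _ ?_)
  rw [← mul_smul, hx, mul_smul, hxa]

theorem SR.inverts {x : G} (hx : x ∈ (tor g)) : z * x * z = x⁻¹ := by
  have hmap : ∀ y ∈ (tor g), z * y * z ∈ (tor g) := fun y hy => by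
    rw [Subgroup.mem_centralizer_singleton_iff] at hy ⊢
    have hg : g = z * g⁻¹ * z := by
      rw [← hs.inv, show z * (z * g * z) * z = (z * z) * g * (z * z) by group, hs.mem.2, one_mul, mul_one]
    have hy' : y * g⁻¹ = g⁻¹ * y := (Commute.inv_right (show Commute y g from hy)).eq
    calc z * y * z * g = z * y * z * (z * g⁻¹ * z) := by rw [← hg]
      _ = z * (y * (z * z) * g⁻¹) * z := by group
      _ = z * (g⁻¹ * (z * z) * y) * z := by rw [hs.mem.2, mul_one, mul_one, hy']
      _ = (z * g⁻¹ * z) * (z * y * z) := by group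
      _ = g * (z * y * z) := by rw [← hg]
  let φ : (tor g) →* (tor g) := MonoidHom.mk' (fun y => ⟨z * y * z, hmap y y.2⟩) fun y y' => Subtype.ext (by
    show z * ((y : G) * y') * z = z * y * z * (z * y' * z)
    rw [show z * (y : G) * z * (z * (y' : G) * z) = z * (y : G) * (z * z) * y' * z by group, hs.mem.2,
      mul_one, mul_assoc z (y : G) y'])
  have hinv : Function.Involutive φ := fun y => Subtype.ext (by
    show z * (z * y * z) * z = (y : G)
    rw [show z * (z * (y : G) * z) * z = (z * z) * y * (z * z) by group, hs.mem.2, one_mul, mul_one])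
  have hfpf : MonoidHom.FixedPointFree φ := by
    intro y hy
    have hy' : z * (y : G) * z = y := congrArg Subtype.val hy
    refine Subtype.ext (hs.not_fix_mem y.2 (centralizer_le_kernel hh.cfg hs.mem.1 hs.ne ?_))
    rw [Subgroup.mem_centralizer_singleton_iff]
    nth_rewrite 1 [← hy']
    rw [mul_assoc, hs.mem.2, mul_one]
  exact congrArg Subtype.val (congrFun (hfpf.coe_eq_inv_of_involutive hinv) ⟨x, hx⟩)

theorem SR.comm {x y : G} (hx : x ∈ (tor g)) (hy : y ∈ (tor g)) : x * y = y * x := by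
  have e := hs.inverts (Subgroup.mul_mem _ hx hy)
  rw [mul_inv_rev, ← hs.inverts hx, ← hs.inverts hy,
    show z * y * z * (z * x * z) = z * y * (z * z) * x * z by group, hs.mem.2, mul_one,
    show z * y * x * z = z * (y * x) * z by group] at e
  exact mul_left_cancel (mul_right_cancel e)

theorem SR.odd_T : Odd (Nat.card (tor g)) := by
  classical
  by_contra h
  rw [Nat.not_odd_iff_even, even_iff_two_dvd] at h
  haveI : Fact (Nat.Prime 2) := ⟨Nat.prime_two⟩
  obtain ⟨⟨x, hx⟩, hx2⟩ := exists_prime_orderOf_dvd_card' (G := (tor g)) 2 h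
  obtain ⟨hxx, hx1⟩ := orderOf_two_iff.1 hx2
  have hxx' : x * x = 1 := congrArg Subtype.val hxx
  have e := hs.inverts hx
  rw [inv_eq_of_mul_eq_one_right hxx'] at e
  refine hx1 (Subtype.ext (hs.not_fix_mem hx (centralizer_le_kernel hh.cfg hs.mem.1 hs.ne ?_)))
  rw [Subgroup.mem_centralizer_singleton_iff]
  show x * z = z * x
  nth_rewrite 1 [← e]
  rw [mul_assoc, hs.mem.2, mul_one]

theorem SR.semiregular {x : G} (hx : x ∈ (tor g)) (hx1 : x ≠ 1) (c : Ω) : x • c ≠ c := by
  intro hc
  have hgx : ∀ d : Ω, x • d = d → x • (g • d) = g • d := fun d hd => by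
    rw [← mul_smul, Subgroup.mem_centralizer_singleton_iff.1 hx, mul_smul, hd]
  have h1 := hgx c hc
  have h2 := hgx _ h1
  have hne : g • c ≠ c := hs.fpf c
  have hne2 : g • g • c ≠ g • c := hs.fpf _
  by_cases h3 : g • g • c = c
  · obtain ⟨k, hk⟩ : Odd (orderOf g) := by
      exact Odd.of_dvd_nat hs.odd_T (Subgroup.orderOf_dvd_natCard _ hs.mem_T)
    have hev : ∀ j : ℕ, (g * g) ^ j • c = c := by
      intro j
      induction j with
      | zero => rw [pow_zero, one_smul]
      | succ j ih => rw [pow_succ, mul_smul, mul_smul g g c, h3, ih]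
    have e : (g * g) ^ (k + 1) = g := by
      rw [← sq, ← pow_mul, show 2 * (k + 1) = orderOf g + 1 by omega, pow_succ, pow_orderOf_eq_one,
        one_mul]
    exact hne (by conv_lhs => rw [← e]; exact hev (k + 1))
  · exact hx1 (Cfsg.Agent.CharactersDeep.Zassenhaus.eq_one_of_fix_three hh.cfg.zass
      (a := c) (b := g • c) (c := g • g • c) hne.symm hne2.symm (Ne.symm h3) hc h1 h2)

theorem SR.centralizer_eq {x : G} (hx : x ∈ (tor g)) (hx1 : x ≠ 1) :
    Subgroup.centralizer ({x} : Set G) = (tor g) := by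
  have hsx : SR hh z x := ⟨hs.mem, hs.ne, hs.inverts hx, hs.semiregular hx hx1⟩
  have hgx : g ∈ Subgroup.centralizer ({x} : Set G) := Subgroup.mem_centralizer_singleton_iff.2
    (Subgroup.mem_centralizer_singleton_iff.1 hx).symm
  refine le_antisymm (fun y hy => Subgroup.mem_centralizer_singleton_iff.2 (hsx.comm hy hgx))
    fun y hy => Subgroup.mem_centralizer_singleton_iff.2 (hs.comm hy hx)

theorem SR.card_dvd : Nat.card (tor g) ∣ Fintype.card Ω := by
  classical
  rw [← Nat.card_eq_fintype_card,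
    Nat.card_congr (MulAction.selfEquivSigmaOrbitsQuotientStabilizer (tor g) Ω), Nat.card_sigma]
  refine Finset.dvd_sum fun w _ => ?_
  have : MulAction.stabilizer (tor g) w.out = ⊥ := by
    rw [Subgroup.eq_bot_iff_forall]
    intro y hy
    by_contra hy1
    exact hs.semiregular y.2 (fun e => hy1 (Subtype.ext e)) _ hy
  rw [this, ← Subgroup.index, Subgroup.index_bot]

/-- The complement of `T` in its normaliser. -/
def SR.comp (_hs : SR hh z g) : Subgroup G :=
  Subgroup.normalizer (Subgroup.centralizer ({g} : Set G) : Set G) ⊓ H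

theorem SR.z_mem_comp : z ∈ hs.comp := by
  refine ⟨Subgroup.mem_normalizer_iff.2 fun y => ?_, hs.mem.1⟩
  rw [hs.z_inv]
  constructor
  · intro hy; rw [hs.inverts hy]; exact Subgroup.inv_mem _ hy
  · intro hy
    have := hs.inverts hy
    rw [show z * (z * y * z) * z = (z * z) * y * (z * z) by group, hs.mem.2, one_mul, mul_one] at this
    rw [this]; exact Subgroup.inv_mem _ hy

theorem SR.comp_fpf {y t : G} (hy : y ∈ hs.comp) (hy1 : y ≠ 1) (ht : t ∈ (tor g)) (h : y * t * y⁻¹ = t) :
    t = 1 :=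
  hs.not_fix_mem ht (centralizer_le_kernel hh.cfg hy.2 hy1
    (Subgroup.mem_centralizer_singleton_iff.2 (mul_inv_eq_iff_eq_mul.1 h).symm))

/-- `N(T) = T L`, uniquely. -/
theorem SR.exists_factor {y : G} (hy : y ∈ Subgroup.normalizer ((tor g) : Set G)) :
    ∃ t ∈ (tor g), ∃ l ∈ hs.comp, y = t * l := by
  have hzN : ∀ t ∈ (tor g), y⁻¹ * t * y ∈ (tor g) := fun t ht => by
    simpa using (Subgroup.mem_normalizer_iff.1 (Subgroup.inv_mem _ hy) t).1 ht
  set z' := y * z * y⁻¹ with hz'
  have hzinv : ∀ t ∈ (tor g), z' * t * z' = t⁻¹ := fun t ht => by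
    rw [hz', show y * z * y⁻¹ * t * (y * z * y⁻¹) = y * (z * (y⁻¹ * t * y) * z) * y⁻¹ by group,
      hs.inverts (hzN t ht)]
    group
  have ht0 : z' * z ∈ (tor g) := by
    rw [Subgroup.mem_centralizer_singleton_iff]
    have e2 := hzinv g hs.mem_T
    calc z' * z * g = z' * (z * g * z) * z⁻¹ := by group
      _ = z' * g⁻¹ * z := by rw [hs.inv, hs.z_inv]
      _ = z' * (z' * g * z') * z := by rw [e2]
      _ = (z' * z') * g * (z' * z) := by group
      _ = g * (z' * z) := by
        rw [hz', show y * z * y⁻¹ * (y * z * y⁻¹) = y * (z * z) * y⁻¹ by group, hs.mem.2, mul_one,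
          mul_inv_cancel, one_mul]
  obtain ⟨k, hk⟩ := hs.odd_T
  set t0 := z' * z with hdef
  set s := t0 ^ (k + 1) with hsdef
  have hsT : s ∈ (tor g) := Subgroup.pow_mem _ ht0 _
  have hss : s * s = t0 := by
    rw [hsdef, ← pow_add, show k + 1 + (k + 1) = Nat.card (tor g) + 1 by omega, pow_succ,
      show t0 ^ Nat.card (tor g) = 1 from orderOf_dvd_iff_pow_eq_one.1 (Subgroup.orderOf_dvd_natCard _ ht0),
      one_mul]
  have hzt : z * s⁻¹ = s * z := by
    rw [← hs.inverts hsT, ← mul_assoc, ← mul_assoc, hs.mem.2, one_mul]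
  have h3 : s * z * s⁻¹ = z' := by
    rw [mul_assoc s z, hzt, ← mul_assoc, hss, hdef, mul_assoc, hs.mem.2, mul_one]
  refine ⟨s, hsT, s⁻¹ * y, ⟨Subgroup.mul_mem _ (Subgroup.le_normalizer (Subgroup.inv_mem _ hsT)) hy,
    centralizer_le_kernel hh.cfg hs.mem.1 hs.ne ?_⟩, (mul_inv_cancel_left _ _).symm⟩
  rw [Subgroup.mem_centralizer_singleton_iff]
  rw [hz'] at h3
  calc s⁻¹ * y * z = s⁻¹ * (y * z * y⁻¹) * y := by group
    _ = s⁻¹ * (s * z * s⁻¹) * y := by rw [h3]
    _ = z * (s⁻¹ * y) := by group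

theorem SR.card_normalizer :
    Nat.card (Subgroup.normalizer ((tor g) : Set G)) = Nat.card (tor g) * Nat.card hs.comp := by
  rw [← Nat.card_prod]
  refine (Nat.card_congr (Equiv.ofBijective (fun p : (tor g) × hs.comp =>
    (⟨(p.1 : G) * p.2, Subgroup.mul_mem _ (Subgroup.le_normalizer p.1.2) p.2.2.1⟩ :
      Subgroup.normalizer ((tor g) : Set G))) ⟨?_, ?_⟩)).symm
  · rintro ⟨t, l⟩ ⟨t', l'⟩ e
    have e' : (t : G) * l = t' * l' := congrArg Subtype.val e
    have h1 : (t' : G)⁻¹ * t = l' * (l : G)⁻¹ := by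
      rw [eq_mul_inv_iff_mul_eq, mul_assoc, e', inv_mul_cancel_left]
    have h2 := hs.not_fix_mem (Subgroup.mul_mem _ (Subgroup.inv_mem _ t'.2) t.2)
      (h1 ▸ H.mul_mem l'.2.2 (H.inv_mem l.2.2))
    have h3 : t = t' := Subtype.ext (inv_mul_eq_one.1 h2).symm
    exact Prod.ext h3 (Subtype.ext (mul_left_cancel (h3 ▸ e')))
  · rintro ⟨y, hy⟩
    obtain ⟨t, ht, l, hl, rfl⟩ := hs.exists_factor hy
    exact ⟨(⟨t, ht⟩, ⟨l, hl⟩), rfl⟩

theorem SR.comp_card : Nat.card hs.comp ≤ 8 ∧
    (IsCyclic (tor g) → Nat.card hs.comp ≤ 4) := by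
  have h4 : ∀ x : hs.comp, x * x * (x * x) = 1 := fun x => Subtype.ext (sq_mem_V hh x.2.2).2
  have huniq : ∀ x : hs.comp, x * x = 1 → x = 1 ∨ x = ⟨z, hs.z_mem_comp⟩ := by
    intro x hx
    by_contra hne
    push Not at hne
    have hx2 : (x : G) * x = 1 := congrArg Subtype.val hx
    have hx1 : (x : G) ≠ 1 := fun e => hne.1 (Subtype.ext e)
    let φ : (tor g) →* (tor g) := MonoidHom.mk' (fun t => ⟨(x : G) * t * (x : G)⁻¹,
      (Subgroup.mem_normalizer_iff.1 x.2.1 t).1 t.2⟩) fun t t' => Subtype.ext (by simp [mul_assoc])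
    have hinv : Function.Involutive φ := fun t => Subtype.ext (by
      show (x : G) * ((x : G) * t * (x : G)⁻¹) * (x : G)⁻¹ = t
      rw [show (x : G) * ((x : G) * t * (x : G)⁻¹) * (x : G)⁻¹ = ((x : G) * x) * t * ((x : G) * x)⁻¹ by group,
        hx2, one_mul, inv_one, mul_one])
    have hfpf : MonoidHom.FixedPointFree φ := fun t ht =>
      Subtype.ext (hs.comp_fpf x.2 hx1 t.2 (congrArg Subtype.val ht))
    have e := congrFun (hfpf.coe_eq_inv_of_involutive hinv) ⟨g, hs.mem_T⟩
    have e' : (x : G) * g * (x : G)⁻¹ = g⁻¹ := congrArg Subtype.val e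
    have hzx : z * x ∈ (tor g) := by
      rw [Subgroup.mem_centralizer_singleton_iff]
      calc z * (x : G) * g = z * ((x : G) * g * (x : G)⁻¹) * x := by group
        _ = z * (z * g * z) * x := by rw [e', hs.inv]
        _ = (z * z) * g * (z * x) := by group
        _ = g * (z * x) := by rw [hs.mem.2, one_mul]
    have := hs.not_fix_mem hzx (H.mul_mem hs.mem.1 x.2.2)
    exact hne.2 (Subtype.ext ((eq_inv_of_mul_eq_one_right this).trans hs.z_inv))
  refine ⟨(card_le_eight h4 huniq).1, fun hcyc => (card_le_eight h4 huniq).2 fun x y => ?_⟩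
  obtain ⟨⟨t, ht⟩, hgen⟩ := hcyc.exists_generator
  have hpow : ∀ w : hs.comp, ∃ i : ℤ, (w : G) * t * (w : G)⁻¹ = t ^ i := fun w => by
    obtain ⟨i, hi⟩ := Subgroup.mem_zpowers_iff.1
      (hgen ⟨_, (Subgroup.mem_normalizer_iff.1 w.2.1 t).1 ht⟩)
    exact ⟨i, (congrArg Subtype.val hi).symm⟩
  obtain ⟨i, hi⟩ := hpow x
  obtain ⟨j, hj⟩ := hpow y
  have e1 : ((x * y : hs.comp) : G) * t * ((x * y : hs.comp) : G)⁻¹ =
      ((y * x : hs.comp) : G) * t * ((y * x : hs.comp) : G)⁻¹ := by
    simp only [Subgroup.coe_mul]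
    rw [show (x : G) * y * t * ((x : G) * y)⁻¹ = x * ((y : G) * t * (y : G)⁻¹) * (x : G)⁻¹ by group,
      show (y : G) * x * t * ((y : G) * x)⁻¹ = y * ((x : G) * t * (x : G)⁻¹) * (y : G)⁻¹ by group,
      hi, hj, ← conj_zpow, ← conj_zpow, hi, hj, ← zpow_mul, ← zpow_mul, mul_comm]
  by_contra hne
  have ht1 : t = 1 := by
    refine hs.comp_fpf ((y * x)⁻¹ * (x * y) : hs.comp).2 (fun e => hne ?_) ht ?_
    · exact (inv_mul_eq_one.1 (Subtype.ext e : (y * x)⁻¹ * (x * y) = (1 : hs.comp))).symm
    · simp only [Subgroup.coe_mul, Subgroup.coe_inv]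
      calc ((y : G) * x)⁻¹ * (x * y) * t * (((y : G) * x)⁻¹ * (x * y))⁻¹
          = ((y : G) * x)⁻¹ * ((x * y) * t * ((x : G) * y)⁻¹) * (y * x) := by group
        _ = t := by rw [show ((x : G) * y) * t * ((x : G) * y)⁻¹ = ((y * x : hs.comp) : G) * t * ((y * x : hs.comp) : G)⁻¹ from e1]; simp only [Subgroup.coe_mul]; group
  obtain ⟨i', hi'⟩ := Subgroup.mem_zpowers_iff.1 (hgen ⟨g, hs.mem_T⟩)
  have hg1 : g = t ^ i' := (congrArg Subtype.val hi').symm
  rw [ht1, one_zpow] at hg1
  exact hs.ne_one hg1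

end Cfsg.Agent.Involutions.Suzuki.Zass
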