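import Cfsg.Agent.Lib.CharTheory.Zassenhaus.Chars
import Cfsg.Agent.Lib.CharTheory.Zassenhaus.Involutions
import Cfsg.Agent.Lib.Involutions.Suzuki.Exponent


/-!
# The kernel of a simple Zassenhaus group with a non-abelian 2-group as kernel

The two-point stabiliser acts regularly on the involutions of the kernel `H`, so `H` has exponent
four, its involutions with the identity form a central subgroup of order `q`, the two-point
stabiliser has order `q - 1` and `|H|` is a power of `q`.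
-/

set_option autoImplicit false
set_option linter.unusedSectionVars false
set_option linter.style.haveILetI false

namespace Cfsg.Agent.Involutions.Suzuki.Zass

open Cfsg.Agent.CharTheory.Zassenhaus
open Involutions.Basic

universe u v

variable {G : Type u} {Ω : Type v} [Group G] [MulAction G Ω] [Fintype Ω] {a b : Ω} {H : Subgroup G}

/-- The standing hypotheses. -/
structure Hyp (a b : Ω) (H : Subgroup G) : Prop where
  cfg : Config a b H
  odd : Odd (Nat.card (two (G := G) a b))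
  pgroup : IsPGroup 2 H
  nonab : ∃ x y : H, x * y ≠ y * x

variable [Fintype G] [IsSimpleGroup G] (hh : Hyp a b H)
include hh

theorem even_card : Even (Nat.card H) := by
  haveI : Fact (Nat.Prime 2) := ⟨Nat.prime_two⟩
  obtain ⟨k, hk⟩ := hh.pgroup.exists_card_eq
  rcases k with _ | k
  · haveI : Subsingleton H := (Nat.card_eq_one_iff_unique.1 (by simpa using hk)).1
    obtain ⟨x, y, hxy⟩ := hh.nonab
    exact absurd (Subsingleton.elim _ _) hxy
  · exact ⟨2 ^ k, by rw [hk]; ring⟩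

theorem inv_central {x : G} (hx : x ∈ H) (hx2 : x * x = 1) {u : G} (hu : u ∈ H) :
    x * u = u * x := by
  by_cases hx1 : x = 1
  · simp [hx1]
  exact involution_central hh.cfg hh.odd (even_card hh) hx (orderOf_two_iff.2 ⟨hx2, hx1⟩) hu

/-- The involutions of the kernel and the identity. -/
def V : Subgroup G where
  carrier := {x | x ∈ H ∧ x * x = 1}
  one_mem' := ⟨H.one_mem, one_mul 1⟩
  mul_mem' := fun {x y} hx hy => ⟨H.mul_mem hx.1 hy.1, by
    rw [show x * y * (x * y) = x * (y * x) * y by group, ← inv_central hh hx.1 hx.2 hy.1,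
      show x * (x * y) * y = (x * x) * (y * y) by group, hx.2, hy.2, one_mul]⟩
  inv_mem' := fun {x} hx => ⟨H.inv_mem hx.1, by rw [← mul_inv_rev, hx.2, inv_one]⟩

theorem mem_V {x : G} : x ∈ V hh ↔ x ∈ H ∧ x * x = 1 := Iff.rfl

theorem mem_V_of_fix {x : G} (hx : x * x = 1) (hxa : x • a = a) : x ∈ V hh := by
  by_cases hx1 : x = 1
  · rw [hx1]; exact (V hh).one_mem
  exact ⟨mem_H_of_fix hh.cfg hh.odd (orderOf_two_iff.2 ⟨hx, hx1⟩) hxa, hx⟩

theorem conj_V {g v : G} (hg : g • a = a) (hv : v ∈ V hh) : g * v * g⁻¹ ∈ V hh :=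
  ⟨conj_mem hh.cfg hg hv.1, by
    rw [show g * v * g⁻¹ * (g * v * g⁻¹) = g * (v * v) * g⁻¹ by group, hv.2, mul_one, mul_inv_cancel]⟩

theorem card_V : Nat.card (V hh) = Nat.card (two (G := G) a b) + 1 := by
  classical
  rw [← card_fixing hh.cfg hh.odd (even_card hh) a]
  have h1 : Nat.card {x : V hh // x ≠ 1} + 1 = Nat.card (V hh) := by
    rw [Nat.card_eq_fintype_card, Nat.card_eq_fintype_card, Fintype.card_subtype_compl,
      Fintype.card_subtype_eq]
    have : 0 < Fintype.card (V hh) := Fintype.card_pos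
    omega
  rw [← h1, Nat.add_right_cancel_iff]
  exact Nat.card_congr
    { toFun := fun x => ⟨((x : V hh) : G), orderOf_two_iff.2 ⟨(x : V hh).2.2, fun e => x.2 (Subtype.ext e)⟩,
        hh.cfg.le (x : V hh).2.1⟩
      invFun := fun x => ⟨⟨x.1, mem_V_of_fix hh (orderOf_two_iff.1 x.2.1).1 x.2.2⟩,
        fun e => (orderOf_two_iff.1 x.2.1).2 (congrArg Subtype.val e)⟩
      left_inv := fun x => rfl
      right_inv := fun x => rfl }

theorem three_le_d : 3 ≤ Nat.card (two (G := G) a b) := by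
  obtain ⟨x, hx, hx1⟩ := (Subgroup.bot_or_exists_ne_one _).resolve_left
    (Cfsg.Agent.CharactersDeep.Zassenhaus.two_point_ne_bot hh.cfg.zass hh.cfg.ne)
  haveI : Nontrivial (two (G := G) a b) :=
    ⟨⟨⟨x, hx⟩, 1, fun e => hx1 (congrArg Subtype.val e)⟩⟩
  have h1 : 1 < Nat.card (two (G := G) a b) := Finite.one_lt_card
  obtain ⟨k, hk⟩ := hh.odd
  omega

/-- The two-point stabiliser is transitive on the involutions of the kernel. -/
theorem exists_conj {x y : G} (hx : x ∈ V hh) (hx1 : x ≠ 1) (hy : y ∈ V hh) (hy1 : y ≠ 1) :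
    ∃ k ∈ two (G := G) a b, k * x * k⁻¹ = y := by
  obtain ⟨g, hg⟩ := isConj_iff.1 (isConj_all hh.cfg hh.odd (orderOf_two_iff.2 ⟨hx.2, hx1⟩)
    (orderOf_two_iff.2 ⟨hy.2, hy1⟩))
  have hga : g • a = a := mem_stabilizer_of_conj hh.cfg hx.1 hx1 (hg ▸ hy.1)
  obtain ⟨u, hu, k, hk, rfl⟩ := exists_decomp hh.cfg hga
  refine ⟨k, hk, ?_⟩
  have hv : k * x * k⁻¹ ∈ V hh := conj_V hh hk.1 hx
  rw [← hg, show u * k * x * (u * k)⁻¹ = u * (k * x * k⁻¹) * u⁻¹ by group,
    ← inv_central hh hv.1 hv.2 hu, mul_inv_cancel_right]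

theorem conj_eq_self {k x : G} (hk : k ∈ two (G := G) a b) (hk1 : k ≠ 1) (hx : x ∈ H)
    (he : k * x * k⁻¹ = x) : x = 1 := by
  have hm : x ∈ H ⊓ Subgroup.centralizer ({k} : Set G) :=
    ⟨hx, Subgroup.mem_centralizer_singleton_iff.2 (mul_inv_eq_iff_eq_mul.1 he).symm⟩
  rwa [two_fpf hh.cfg k hk hk1, Subgroup.mem_bot] at hm

/-- Conjugation by the two-point stabiliser. -/
noncomputable def act : two (G := G) a b →* MulAut H :=
  MonoidHom.mk' (fun k =>
    { toFun := fun x => ⟨(k : G) * x * (k : G)⁻¹, conj_mem hh.cfg k.2.1 x.2⟩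
      invFun := fun x => ⟨(k : G)⁻¹ * x * (k : G), by
        simpa using conj_mem hh.cfg (k⁻¹).2.1 x.2⟩
      left_inv := fun x => Subtype.ext (by simp [mul_assoc])
      right_inv := fun x => Subtype.ext (by simp [mul_assoc])
      map_mul' := fun x y => Subtype.ext (by simp [mul_assoc]) })
    fun k l => MulEquiv.ext fun x => Subtype.ext (by simp [mul_assoc])

theorem act_apply (k : two (G := G) a b) (x : H) :
    (act hh k x : G) = (k : G) * x * (k : G)⁻¹ := rfl

theorem exists_inv_two : ∃ z ∈ V hh, z ≠ 1 := by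
  haveI : Nontrivial (V hh) := Finite.one_lt_card_iff_nontrivial.1 (by
    rw [card_V hh]; have := three_le_d hh; omega)
  obtain ⟨z, hz⟩ := exists_ne (1 : V hh)
  exact ⟨z, z.2, fun e => hz (Subtype.ext e)⟩

theorem regular : Regular (act hh).range := by
  refine ⟨?_, fun x hx g => Subtype.ext ?_, fun x y hx1 hx hy1 hy => ?_⟩
  · rintro ⟨_, k, rfl⟩ ⟨_, l, rfl⟩
    refine Subtype.ext ?_
    show act hh k * act hh l = act hh l * act hh k
    rw [← map_mul, ← map_mul]
    exact congrArg _ (Subtype.ext (two_comm hh.cfg hh.odd k.2 l.2))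
  · exact (inv_central hh x.2 (congrArg Subtype.val hx) g.2).symm
  · have hxV : (x : G) ∈ V hh := ⟨x.2, congrArg Subtype.val hx⟩
    have hyV : (y : G) ∈ V hh := ⟨y.2, congrArg Subtype.val hy⟩
    have hx1' : (x : G) ≠ 1 := fun e => hx1 (Subtype.ext e)
    obtain ⟨k, hk, hkxy⟩ := exists_conj hh hxV hx1' hyV fun e => hy1 (Subtype.ext e)
    refine ⟨⟨_, ⟨k, hk⟩, rfl⟩, Subtype.ext hkxy, ?_⟩
    rintro ⟨_, l, rfl⟩ hl
    have hl' : (l : G) * x * (l : G)⁻¹ = y := congrArg Subtype.val hl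
    refine Subtype.ext (congrArg (act hh) (Subtype.ext ?_))
    by_contra hne
    refine hx1' (conj_eq_self hh (k := k⁻¹ * l) (Subgroup.mul_mem _ (Subgroup.inv_mem _ hk) l.2)
      (fun e => hne (inv_mul_eq_one.1 e).symm) x.2 ?_)
    rw [show k⁻¹ * (l : G) * x * (k⁻¹ * (l : G))⁻¹ = k⁻¹ * ((l : G) * x * (l : G)⁻¹) * k by group,
      hl', ← hkxy]
    group

theorem fpf : Exponent.Fpf (act hh).range := by
  rintro ⟨_, k, rfl⟩ hk x hx
  refine Subtype.ext (conj_eq_self hh k.2 (fun e => hk (Subtype.ext ?_)) x.2 (congrArg Subtype.val hx))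
  show act hh k = 1
  rw [show k = 1 from Subtype.ext e, map_one]

theorem exists_ne_one : ∃ k : (act hh).range, k ≠ 1 := by
  obtain ⟨z, hz, hz1⟩ := exists_inv_two hh
  obtain ⟨x, hx, hx1⟩ := (Subgroup.bot_or_exists_ne_one _).resolve_left
    (Cfsg.Agent.CharactersDeep.Zassenhaus.two_point_ne_bot hh.cfg.zass hh.cfg.ne)
  refine ⟨⟨_, ⟨x, hx⟩, rfl⟩, fun e => hz1 (conj_eq_self hh hx hx1 hz.1 ?_)⟩
  have h1 := MulEquiv.congr_fun (congrArg Subtype.val e) (⟨z, hz.1⟩ : H)
  exact congrArg Subtype.val h1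

/-- Squares of the kernel lie in `V`. -/
theorem sq_mem_V {x : G} (hx : x ∈ H) : x * x ∈ V hh :=
  ⟨H.mul_mem hx hx, congrArg Subtype.val
    (Exponent.sq_sq_eq_one (regular hh) hh.pgroup (fpf hh) (exists_ne_one hh) hh.nonab ⟨x, hx⟩)⟩

theorem comm_mem_V {x y : G} (hx : x ∈ H) (hy : y ∈ H) : x * y * x⁻¹ * y⁻¹ ∈ V hh := by
  have h1 : y⁻¹ * (x⁻¹ * x⁻¹) * y⁻¹⁻¹ = x⁻¹ * x⁻¹ := by
    have h2 := sq_mem_V hh (H.inv_mem hx)
    rw [← inv_central hh h2.1 h2.2 (H.inv_mem hy), mul_inv_cancel_right]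
  rw [show x * y * x⁻¹ * y⁻¹ = (x * y * (x * y)) * (y⁻¹ * (x⁻¹ * x⁻¹) * y⁻¹⁻¹) * (y⁻¹ * y⁻¹) by group,
    h1]
  exact (V hh).mul_mem ((V hh).mul_mem (sq_mem_V hh (H.mul_mem hx hy)) (sq_mem_V hh (H.inv_mem hx)))
    (sq_mem_V hh (H.inv_mem hy))

theorem V_le : V hh ≤ H := fun _ hx => hx.1

theorem V_ne : V hh ≠ H := by
  intro e
  obtain ⟨x, y, hxy⟩ := hh.nonab
  have hx : (x : G) ∈ V hh := by rw [e]; exact x.2
  exact hxy (Subtype.ext (inv_central hh hx.1 hx.2 y.2))

theorem d_dvd : Nat.card (two (G := G) a b) ∣ Nat.card H - 1 := by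
  classical
  let f : two (G := G) a b →* Equiv.Perm H := (MulAut.toPerm H).comp (act hh)
  letI : MulAction (two (G := G) a b) H := MulAction.compHom H f
  let S : SubMulAction (two (G := G) a b) H :=
    { carrier := {x | x ≠ 1}
      smul_mem' := fun k x hx => fun e => hx ((act hh k).map_eq_one_iff.1 e) }
  have hfree : ∀ x : S, MulAction.stabilizer (two (G := G) a b) x = ⊥ := by
    intro x
    rw [Subgroup.eq_bot_iff_forall]
    intro k hk
    have hk' : act hh k x.1 = x.1 := congrArg Subtype.val hk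
    by_contra hk1
    exact x.2 (Subtype.ext (conj_eq_self hh k.2 (fun e => hk1 (Subtype.ext e)) x.1.2
      (congrArg Subtype.val hk')))
  have h1 : Nat.card S = Nat.card H - 1 := by
    rw [show Nat.card S = Nat.card {x : H // x ≠ 1} from rfl, Nat.card_eq_fintype_card,
      Fintype.card_subtype_compl, Fintype.card_subtype_eq, Nat.card_eq_fintype_card]
  rw [← h1, Nat.card_congr (MulAction.selfEquivSigmaOrbitsQuotientStabilizer (two (G := G) a b) S),
    Nat.card_sigma]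
  refine Finset.dvd_sum fun w _ => ?_
  rw [hfree, ← Subgroup.index, Subgroup.index_bot]

/-- The numerical shape: `d + 1 = 2 ^ n` and `|H| = (2 ^ n) ^ r`. -/
theorem exists_pow : ∃ n r : ℕ, 2 ≤ n ∧ 2 ≤ r ∧ Nat.card (two (G := G) a b) + 1 = 2 ^ n ∧
    Nat.card (V hh) = 2 ^ n ∧ Nat.card H = (2 ^ n) ^ r := by
  haveI : Fact (Nat.Prime 2) := ⟨Nat.prime_two⟩
  obtain ⟨e, he⟩ := hh.pgroup.exists_card_eq
  obtain ⟨n, hn⟩ := (hh.pgroup.to_le (V_le hh)).exists_card_eq
  have hd3 := three_le_d hh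
  have hd : Nat.card (two (G := G) a b) + 1 = 2 ^ n := by rw [← card_V hh, hn]
  have hn2 : 2 ≤ n := by
    by_contra h
    have : 2 ^ n ≤ 2 ^ 1 := Nat.pow_le_pow_right two_pos (by omega)
    omega
  have hlt : n < e := by
    have h1 : Nat.card (V hh) < Nat.card H := by
      refine lt_of_le_of_ne (Nat.le_of_dvd Nat.card_pos (Subgroup.card_dvd_of_le (V_le hh))) fun h => ?_
      exact V_ne hh (Subgroup.eq_of_le_of_card_ge (V_le hh) h.ge)
    rw [hn, he] at h1
    exact (Nat.pow_lt_pow_iff_right one_lt_two).1 h1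
  have hdvd : 2 ^ n - 1 ∣ 2 ^ e - 1 := by
    have := d_dvd hh
    rw [he] at this
    rwa [show 2 ^ n - 1 = Nat.card (two (G := G) a b) by omega]
  have hg := Nat.pow_sub_one_gcd_pow_sub_one 2 n e
  rw [Nat.gcd_eq_left hdvd] at hg
  have hgn : Nat.gcd n e = n := by
    have : 2 ^ Nat.gcd n e = 2 ^ n := by
      have := Nat.one_le_two_pow (n := n)
      have := Nat.one_le_two_pow (n := Nat.gcd n e)
      omega
    exact Nat.pow_right_injective le_rfl this
  obtain ⟨r, hr⟩ : n ∣ e := hgn ▸ Nat.gcd_dvd_right n e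
  refine ⟨n, r, hn2, ?_, hd, hn, by rw [he, hr, pow_mul]⟩
  by_contra h
  interval_cases r <;> omega

/-- A swapping involution conjugates a non-trivial element of `V` outside the point stabiliser. -/
theorem smul_a_ne {s : G} (hsa : s • a = b) {v : G} (hv : v ∈ V hh) (hv1 : v ≠ 1) :
    (s * v * s⁻¹) • a ≠ a := by
  intro h
  rw [mul_smul, mul_smul, smul_eq_iff_eq_inv_smul] at h
  refine hh.cfg.ne ?_
  have h1 : s⁻¹ • a = a := hh.cfg.fix v hv.1 hv1 _ h
  rw [inv_smul_eq_iff] at h1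
  rw [← hsa, ← h1]

end Cfsg.Agent.Involutions.Suzuki.Zass
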